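import Cfsg.Agent.U62Rec.Lift

/-!
# Configurations from the hypotheses
-/

set_option autoImplicit false

open Cfsg Subgroup

namespace Cfsg.Agent.U62Rec

open Cfsg.Agent.LargeExtra

instance : Fact (Nat.Prime 2) := ⟨Nat.prime_two⟩

theorem card_psp_three : Nat.card (Cfsg.PSp 2 (ZMod 3)) = 25920 := by
  haveI : Fact (Nat.Prime 3) := ⟨by norm_num⟩
  have hF : Fintype.card (ZMod 3) = 3 := ZMod.card 3
  have h1 := Subgroup.card_eq_card_quotient_mul_card_subgroup
    (Subgroup.center (Matrix.symplecticGroup (Fin 2) (ZMod 3)))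
  rw [Classical.card_symplecticGroup hF, Classical.card_center_symplectic (by norm_num), hF] at h1
  norm_num [Finset.prod_range_succ, -Nat.card_eq_fintype_card] at h1
  show Nat.card (Matrix.symplecticGroup (Fin 2) (ZMod 3) ⧸ _) = 25920
  omega

theorem codes_ok : ∀ c ∈ innerCfgs ++ outerCfgs, ∀ g ∈ c.1, g < 2 ^ 64 := by decide +kernel

variable {G : Type*} [Group G] [Finite G] {z : G}

/-- The centraliser has the order of `oc z` times the quotient. -/
theorem card_centralizer_eq {Q : Type*} [Group Q] (hc : Nat.card ↥(oc z) = 512)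
    (e : (↥(centralizer ({z} : Set G)) ⧸ pCore 2 ↥(centralizer ({z} : Set G))) ≃* Q) :
    Nat.card ↥(centralizer ({z} : Set G)) = 512 * Nat.card Q := by
  have h := (pCore 2 ↥(centralizer ({z} : Set G))).card_eq_card_quotient_mul_card_subgroup
  rw [h, Nat.card_congr e.toEquiv, mul_comm]
  congr 1
  rw [← hc]
  exact (Nat.card_congr (equivMapOfInjective _ _ (subtype_injective _)).toEquiv)

theorem ker_quot {Q : Type*} [Group Q]
    (e : (↥(centralizer ({z} : Set G)) ⧸ pCore 2 ↥(centralizer ({z} : Set G))) ≃* Q)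
    (h : ↥(centralizer ({z} : Set G))) :
    e (QuotientGroup.mk h) = 1 ↔ (h : G) ∈ oc z := by
  rw [MulEquiv.map_eq_one_iff, QuotientGroup.eq_one_iff]
  exact ⟨fun hh => ⟨h, hh, rfl⟩, fun ⟨k, hk, e'⟩ => (Subtype.ext e' : k = h) ▸ hk⟩

/-- Coordinates when the quotient is PSp₄(3). -/
theorem mod_of_inner (S : Setting z) (hc : Nat.card ↥(oc z) = 512)
    (e : (↥(centralizer ({z} : Set G)) ⧸ pCore 2 ↥(centralizer ({z} : Set G))) ≃*
      Cfsg.PSp 2 (ZMod 3)) :
    ∃ c ∈ innerCfgs, Nonempty (Mod ⟨c.1, c.2⟩ z) := by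
  let φ : ↥(centralizer ({z} : Set G)) →* Cfsg.PSp 2 (ZMod 3) :=
    e.toMonoidHom.comp (QuotientGroup.mk' _)
  have hφ : Function.Surjective φ := e.surjective.comp (QuotientGroup.mk'_surjective _)
  obtain ⟨R, hB, hq, hA⟩ := exists_rep S hc φ hφ (ker_quot e)
  obtain ⟨c, hcm, ev, Fr, hl⟩ := dichotomy_inner (R := R) (M := Sp43.model) (i := MonoidHom.id _)
    Function.injective_id
  refine ⟨c, hcm, exists_mod S hc φ hφ (ker_quot e) hB hq hA Fr hl
    (codes_ok c (List.mem_append_left _ hcm)) ?_⟩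
  rw [eq_top_iff, ← Sp43.model.gen]
  refine closure_mono ?_
  rintro x ((⟨k, rfl⟩ | ⟨k, rfl⟩) | rfl)
  · fin_cases k <;> simp [elems]
  · fin_cases k <;> simp [elems]
  · simp [elems]

/-- Coordinates when the quotient is the automorphism group of PSp₄(3). -/
theorem mod_of_outer (S : Setting z) (hc : Nat.card ↥(oc z) = 512)
    (e : (↥(centralizer ({z} : Set G)) ⧸ pCore 2 ↥(centralizer ({z} : Set G))) ≃*
      MulAut (Cfsg.PSp 2 (ZMod 3))) :
    (∃ c ∈ outerCfgs, Nonempty (Mod ⟨c.1, c.2⟩ z)) ∧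
      Nat.card (MulAut (Cfsg.PSp 2 (ZMod 3))) = 51840 := by
  haveI : Fact (Nat.Prime 3) := ⟨by norm_num⟩
  let P := Cfsg.PSp 2 (ZMod 3)
  let M : Sp43.Model P := Sp43.model
  let D : Sp43.Diag M := Sp43.diag
  let i : P →* MulAut P := MulAut.conj
  have hi : Function.Injective i := by
    haveI := M.simple
    refine (MonoidHom.ker_eq_bot_iff i).1 ?_
    rcases (inferInstance : i.ker.Normal).eq_bot_or_eq_top with h | h
    · exact h
    · exfalso
      apply M.rels.ne
      have h1 : i (M.d 0) = 1 := MonoidHom.mem_ker.1 (h ▸ mem_top _)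
      have := DFunLike.congr_fun h1 M.u
      simp only [i, MulAut.conj_apply, MulAut.one_apply] at this
      exact (mul_inv_eq_iff_eq_mul.1 this).symm
  have hconj : ∀ (g : P), D.del * i g = i (D.del g) * D.del := fun g => by
    refine MulEquiv.ext fun w => ?_
    simp [i, MulAut.mul_apply, map_mul, map_inv]
  have hO : Act3.Outer (i ∘ M.d) (i ∘ M.s) D.del :=
    { sq := D.sq
      inv_d := fun k => by
        show D.del * i (M.d k) = (i (M.d k))⁻¹ * D.del
        rw [hconj, D.inv_d, map_inv]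
      fix_s := fun k => by
        show D.del * i (M.s k) = i (M.s k) * D.del
        rw [hconj, D.fix_s] }
  have hcard : Nat.card (MulAut P) = 51840 := by
    rw [AutPSp.card_mulAut 3 le_rfl, card_psp_three,
      AutPSp.index_inndiag 3 le_rfl (fun _ => by norm_num), Nat.card_zmod]
    have : Subsingleton (ZMod 3 ≃+* ZMod 3) := ⟨fun f g => RingEquiv.ext fun x => by
      exact RingHom.congr_fun (RingHom.ext_zmod (f : ZMod 3 →+* ZMod 3) g) x⟩
    rw [Nat.card_eq_one_iff_unique.2 ⟨this, ⟨RingEquiv.refl _⟩⟩]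
    rfl
  refine ⟨?_, hcard⟩
  let φ : ↥(centralizer ({z} : Set G)) →* MulAut P := e.toMonoidHom.comp (QuotientGroup.mk' _)
  have hφ : Function.Surjective φ := e.surjective.comp (QuotientGroup.mk'_surjective _)
  obtain ⟨R, hB, hq, hA⟩ := exists_rep S hc φ hφ (ker_quot e)
  obtain ⟨c, hcm, ev, Fr, hl⟩ := dichotomy_outer (R := R) (M := M) (i := i) hi hO
  refine ⟨c, hcm, exists_mod S hc φ hφ (ker_quot e) hB hq hA Fr hl
    (codes_ok c (List.mem_append_right _ hcm)) ?_⟩
  set K : Subgroup (MulAut P) := closure {x | x ∈ elems M i ++ [D.del]}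
  have hKi : i.range ≤ K := by
    rw [MonoidHom.range_eq_map, ← M.gen, MonoidHom.map_closure, closure_le]
    rintro _ ⟨x, ((⟨k, rfl⟩ | ⟨k, rfl⟩) | rfl), rfl⟩
    · exact subset_closure (by fin_cases k <;> simp [elems])
    · exact subset_closure (by fin_cases k <;> simp [elems])
    · exact subset_closure (by simp [elems])
  have hdel : D.del ∈ K := subset_closure (by simp)
  have hidx : i.range.index = 2 := by
    have h := i.range.card_mul_index
    rw [← Nat.card_congr (MonoidHom.ofInjective hi).toEquiv, hcard, card_psp_three] at h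
    omega
  rw [eq_top_iff]
  intro x _
  by_cases hx : x ∈ i.range
  · exact hKi hx
  · have hd : D.del ∉ i.range := fun ⟨g, hg⟩ => D.notInner g hg
    have := (Subgroup.mul_mem_iff_of_index_two hidx (a := D.del⁻¹) (b := x)).2
      (iff_of_false (fun h => hd (by simpa using inv_mem h)) hx)
    have := mul_mem hdel (hKi this)
    rwa [mul_inv_cancel_left] at this

end Cfsg.Agent.U62Rec
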