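import Cfsg.Agent.AutPSp.Aut
import Cfsg.Agent.Classical.SympGroup

/-!
# Elements of PSp₄(3)

Four transvections in the points of a totally isotropic line, three involutions permuting these
points, a further transvection and the diagonal automorphism, with the relations used later.
-/

set_option autoImplicit false
set_option maxRecDepth 100000

open Cfsg Cfsg.Agent.AutPSp
open scoped Matrix

namespace Cfsg.Agent.U62Rec.Sp43

local notation "Z3" => ZMod 3

instance : Fact (Nat.Prime 3) := ⟨by norm_num⟩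

/-- The transposition of two adjacent points. -/
def swp (k : Fin 3) (i : Fin 4) : Fin 4 := Equiv.swap k.castSucc k.succ i

/-- The relations. -/
structure Rels {Q : Type*} [Group Q] (d : Fin 4 → Q) (s : Fin 3 → Q) (u : Q) : Prop where
  d_cube : ∀ i, d i * d i * d i = 1
  d_comm : ∀ i j, d i * d j = d j * d i
  d_prod : d 0 * d 1 * d 2 * d 3 = 1
  s_sq : ∀ k, s k * s k = 1
  s_d : ∀ k i, s k * d i = d (swp k i) * s k
  s_braid0 : s 0 * s 1 * s 0 = s 1 * s 0 * s 1
  s_braid1 : s 1 * s 2 * s 1 = s 2 * s 1 * s 2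
  s_comm : s 0 * s 2 = s 2 * s 0
  u_cube : u * u * u = 1
  u_d : u * d 3 = d 3 * u
  u_s0 : u * s 0 = s 0 * u
  u_s1 : u * s 1 = s 1 * u
  braid : u * d 0 * u = d 0 * u * d 0
  ne : u * d 0 ≠ d 0 * u

theorem Rels.map {Q R : Type*} [Group Q] [Group R] {d : Fin 4 → Q} {s : Fin 3 → Q} {u : Q}
    (h : Rels d s u) (f : Q →* R) (hf : Function.Injective f) : Rels (f ∘ d) (f ∘ s) (f u) where
  d_cube i := by simp [← map_mul, h.d_cube]
  d_comm i j := by simp [← map_mul, h.d_comm i j]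
  d_prod := by simp [← map_mul, h.d_prod]
  s_sq k := by simp [← map_mul, h.s_sq]
  s_d k i := by simp [← map_mul, h.s_d k i]
  s_braid0 := by simp [← map_mul, h.s_braid0]
  s_braid1 := by simp [← map_mul, h.s_braid1]
  s_comm := by simp [← map_mul, h.s_comm]
  u_cube := by simp [← map_mul, h.u_cube]
  u_d := by simp [← map_mul, h.u_d]
  u_s0 := by simp [← map_mul, h.u_s0]
  u_s1 := by simp [← map_mul, h.u_s1]
  braid := by simp [← map_mul, h.braid]
  ne := fun e => h.ne (hf (by simpa using e))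

/-- The generators. -/
def gens {Q : Type*} (d : Fin 4 → Q) (s : Fin 3 → Q) (u : Q) : Set Q :=
  Set.range d ∪ Set.range s ∪ {u}

/-- A simple group generated by elements with the relations. -/
structure Model (P : Type*) [Group P] where
  d : Fin 4 → P
  s : Fin 3 → P
  u : P
  rels : Rels d s u
  gen : Subgroup.closure (gens d s u) = ⊤
  simple : IsSimpleGroup P

/-- The diagonal automorphism. -/
structure Diag {P : Type*} [Group P] (M : Model P) where
  del : MulAut P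
  sq : del * del = 1
  inv_d : ∀ i, del (M.d i) = (M.d i)⁻¹
  fix_s : ∀ k, del (M.s k) = M.s k
  inv_u : del M.u = M.u⁻¹
  notInner : ∀ g, MulAut.conj g ≠ del

/-- A vector. -/
def v4 (a b c e : Z3) : Vm 2 Z3 := Sum.elim ![a, b] ![c, e]

/-- The four points and the outside point. -/
def pt : Fin 5 → Vm 2 Z3 :=
  ![v4 1 0 0 0, v4 0 1 0 0, v4 1 1 0 0, v4 1 2 0 0, v4 0 0 1 1]

/-- The three involutory linear maps of the line. -/
def ln : Fin 3 → Matrix (Fin 2) (Fin 2) Z3 := ![!![0, 1; 1, 0], !![2, 1; 0, 1], !![1, 0; 0, 2]]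

/-- Their matrices. -/
def sMat (k : Fin 3) : Matrix (Fin 2 ⊕ Fin 2) (Fin 2 ⊕ Fin 2) Z3 :=
  Matrix.fromBlocks (ln k) 0 0 (ln k)ᵀ

theorem sMat_mem : ∀ k, sMat k * Matrix.J (Fin 2) Z3 * (sMat k)ᵀ = Matrix.J (Fin 2) Z3 := by
  decide +kernel

/-- The involutions. -/
def sS (k : Fin 3) : Spm 2 Z3 := ⟨sMat k, SymplecticGroup.mem_iff.2 (sMat_mem k)⟩

theorem tMat_mem (k : Fin 5) :
    Cfsg.sympTransvection 2 (pt k) (1 : Z3) ∈ Matrix.symplecticGroup (Fin 2) Z3 :=
  Classical.sympTransvection_mem _ _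

/-- The transvections. -/
def tS (k : Fin 5) : Spm 2 Z3 := ⟨Cfsg.sympTransvection 2 (pt k) 1, tMat_mem k⟩

theorem tS_eq (k : Fin 5) : tS k = tvS (pt k) 1 := rfl

theorem neg_one_mem : (-1 : Matrix (Fin 2 ⊕ Fin 2) (Fin 2 ⊕ Fin 2) Z3) ∈
    Matrix.symplecticGroup (Fin 2) Z3 :=
  SymplecticGroup.neg_mem (one_mem _)

theorem eqP {a b : Spm 2 Z3} (h : mat a = mat b ∨ mat a = -mat b) : mkS a = mkS b := by
  rcases h with h | h
  · rw [sp_ext h]
  · have e : a = (⟨-1, neg_one_mem⟩ : Spm 2 Z3) * b := sp_ext (by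
      show mat a = -1 * mat b
      rw [h, neg_one_mul])
    rw [e, map_mul, mkS_eq_one_iff.2, one_mul]
    exact mem_center_of_scalar (a := (-1 : Z3)) fun v => by
      show (-1 : Matrix (Fin 2 ⊕ Fin 2) (Fin 2 ⊕ Fin 2) Z3) *ᵥ v = (-1 : Z3) • v
      rw [Matrix.neg_mulVec, Matrix.one_mulVec, neg_one_smul]

theorem neP {a b : Spm 2 Z3} (h1 : mat a ≠ mat b) (h2 : mat a ≠ -mat b) : mkS a ≠ mkS b := by
  intro e
  have hc : a * b⁻¹ ∈ Subgroup.center (Spm 2 Z3) := mkS_eq_one_iff.1 (by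
    rw [map_mul, map_inv, e, mul_inv_cancel])
  obtain ⟨c, hc'⟩ := center_scalar hc
  have hm : ∀ v, mat a *ᵥ v = c • (mat b *ᵥ v) := fun v => by
    rw [← hc', ← mat_mul_mulVec, inv_mul_cancel_right]
  have hcase : ∀ c : Z3, c = 0 ∨ c = 1 ∨ c = -1 := by decide
  rcases hcase c with rfl | rfl | rfl
  · exact mat_mulVec_ne_zero a (v := v4 1 0 0 0) (by decide) (by rw [hm, zero_smul])
  · exact h1 (congrArg mat (sp_ext_mulVec fun v => by rw [hm, one_smul]))
  · refine h2 (Matrix.toLin'.injective (LinearMap.ext fun v => ?_))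
    rw [Matrix.toLin'_apply, Matrix.toLin'_apply, hm, neg_one_smul, Matrix.neg_mulVec]

theorem d_cube_mat : ∀ i : Fin 4,
    mat (tS i.castSucc) * mat (tS i.castSucc) * mat (tS i.castSucc) = 1 := by decide +kernel

theorem d_comm_mat : ∀ i j : Fin 4, mat (tS i.castSucc) * mat (tS j.castSucc) =
    mat (tS j.castSucc) * mat (tS i.castSucc) := by decide +kernel

theorem d_prod_mat : mat (tS 0) * mat (tS 1) * mat (tS 2) * mat (tS 3) = 1 := by decide +kernel

theorem s_sq_mat : ∀ k, sMat k * sMat k = 1 := by decide +kernel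

theorem s_d_mat : ∀ k i, sMat k * mat (tS (Fin.castSucc i)) =
    mat (tS (Fin.castSucc (swp k i))) * sMat k := by decide +kernel

theorem s_braid_mat : (sMat 0 * sMat 1 * sMat 0 = sMat 1 * sMat 0 * sMat 1 ∨
      sMat 0 * sMat 1 * sMat 0 = -(sMat 1 * sMat 0 * sMat 1)) ∧
    (sMat 1 * sMat 2 * sMat 1 = sMat 2 * sMat 1 * sMat 2 ∨
      sMat 1 * sMat 2 * sMat 1 = -(sMat 2 * sMat 1 * sMat 2)) ∧
    (sMat 0 * sMat 2 = sMat 2 * sMat 0 ∨ sMat 0 * sMat 2 = -(sMat 2 * sMat 0)) := by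
  decide +kernel

theorem u_mat : mat (tS 4) * mat (tS 4) * mat (tS 4) = 1 ∧
    mat (tS 4) * mat (tS 3) = mat (tS 3) * mat (tS 4) ∧
    mat (tS 4) * sMat 0 = sMat 0 * mat (tS 4) ∧ mat (tS 4) * sMat 1 = sMat 1 * mat (tS 4) ∧
    mat (tS 4) * mat (tS 0) * mat (tS 4) = mat (tS 0) * mat (tS 4) * mat (tS 0) ∧
    mat (tS 4) * mat (tS 0) ≠ mat (tS 0) * mat (tS 4) ∧
    mat (tS 4) * mat (tS 0) ≠ -(mat (tS 0) * mat (tS 4)) := by decide +kernel

/-- The transvections in `PSp`. -/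
def dP (i : Fin 4) : Cfsg.PSp 2 Z3 := mkS (tS i.castSucc)
/-- The involutions in `PSp`. -/
def sP (k : Fin 3) : Cfsg.PSp 2 Z3 := mkS (sS k)
/-- The outside transvection. -/
def uP : Cfsg.PSp 2 Z3 := mkS (tS 4)

theorem rels : Rels dP sP uP where
  d_cube i := by
    rw [dP, ← map_mul, ← map_mul, ← map_one (mkS (m := 2) (F := Z3))]
    exact eqP (Or.inl (d_cube_mat i))
  d_comm i j := by
    rw [dP, dP, ← map_mul, ← map_mul]
    exact eqP (Or.inl (d_comm_mat i j))
  d_prod := by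
    rw [dP, dP, dP, dP, ← map_mul, ← map_mul, ← map_mul, ← map_one (mkS (m := 2) (F := Z3))]
    exact eqP (Or.inl d_prod_mat)
  s_sq k := by
    rw [sP, ← map_mul, ← map_one (mkS (m := 2) (F := Z3))]
    exact eqP (Or.inl (s_sq_mat k))
  s_d k i := by
    rw [sP, dP, dP, ← map_mul, ← map_mul]
    exact eqP (Or.inl (s_d_mat k i))
  s_braid0 := by
    rw [sP, sP, ← map_mul, ← map_mul, ← map_mul, ← map_mul]
    exact eqP s_braid_mat.1
  s_braid1 := by
    rw [sP, sP, ← map_mul, ← map_mul, ← map_mul, ← map_mul]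
    exact eqP s_braid_mat.2.1
  s_comm := by
    rw [sP, sP, ← map_mul, ← map_mul]
    exact eqP s_braid_mat.2.2
  u_cube := by
    rw [uP, ← map_mul, ← map_mul, ← map_one (mkS (m := 2) (F := Z3))]
    exact eqP (Or.inl u_mat.1)
  u_d := by
    rw [uP, dP, ← map_mul, ← map_mul]
    exact eqP (Or.inl u_mat.2.1)
  u_s0 := by
    rw [uP, sP, ← map_mul, ← map_mul]
    exact eqP (Or.inl u_mat.2.2.1)
  u_s1 := by
    rw [uP, sP, ← map_mul, ← map_mul]
    exact eqP (Or.inl u_mat.2.2.2.1)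
  braid := by
    rw [uP, dP, ← map_mul, ← map_mul, ← map_mul, ← map_mul]
    exact eqP (Or.inl u_mat.2.2.2.2.1)
  ne := by
    rw [uP, dP, ← map_mul, ← map_mul]
    exact neP u_mat.2.2.2.2.2.1 u_mat.2.2.2.2.2.2

/-- The eight generating matrices. -/
def gMat : ℕ → Matrix (Fin 2 ⊕ Fin 2) (Fin 2 ⊕ Fin 2) Z3
  | 0 => mat (tS 0)
  | 1 => mat (tS 1)
  | 2 => mat (tS 2)
  | 3 => mat (tS 3)
  | 4 => sMat 0
  | 5 => sMat 1
  | 6 => sMat 2
  | _ => mat (tS 4)

/-- Words carrying the outside point to all points. -/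
def words : List (List ℕ) := [[], [0], [1], [2], [6], [0, 0], [1, 0], [2, 0], [6, 0], [7, 0],
  [6, 1], [7, 1], [6, 2], [7, 2], [5, 6], [1, 0, 0], [2, 0, 0], [6, 0, 0], [6, 1, 0], [6, 2, 0],
  [5, 6, 0], [7, 6, 0], [5, 6, 1], [7, 6, 1], [5, 6, 2], [6, 7, 2], [4, 5, 6], [6, 1, 0, 0],
  [6, 2, 0, 0], [5, 6, 0, 0], [5, 6, 1, 0], [5, 6, 2, 0], [7, 6, 2, 0], [7, 5, 6, 0], [1, 7, 6, 0],
  [2, 7, 6, 0], [6, 7, 6, 1], [7, 7, 6, 1], [7, 6, 1, 0, 0], [4, 5, 6, 1, 0]]

/-- The vector reached by a word. -/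
def reach (l : List ℕ) : Vm 2 Z3 := l.foldr (fun i v => gMat i *ᵥ v) (pt 4)

theorem reach_all : ∀ a b c e : Z3, v4 a b c e = 0 ∨
    ∃ l ∈ words, v4 a b c e = reach l ∨ v4 a b c e = -reach l := by decide +kernel

theorem gen : Subgroup.closure (gens dP sP uP) = ⊤ := by
  set H := (Subgroup.closure (gens dP sP uP)).comap (mkS (m := 2) (F := Z3)) with hH
  suffices h : H = ⊤ by
    rw [eq_top_iff]
    intro x _
    obtain ⟨a, rfl⟩ := mkS_surjective x
    exact (h ▸ Subgroup.mem_top a : a ∈ H)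
  have hg : ∀ i, ∃ g ∈ H, mat g = gMat i := by
    intro i
    have hd : ∀ j : Fin 4, tS j.castSucc ∈ H := fun j =>
      Subgroup.subset_closure (Or.inl (Or.inl ⟨j, rfl⟩))
    have hs : ∀ k, sS k ∈ H := fun k => Subgroup.subset_closure (Or.inl (Or.inr ⟨k, rfl⟩))
    have hu : tS 4 ∈ H := Subgroup.subset_closure (Or.inr rfl)
    match i with
    | 0 => exact ⟨_, hd 0, rfl⟩
    | 1 => exact ⟨_, hd 1, rfl⟩
    | 2 => exact ⟨_, hd 2, rfl⟩
    | 3 => exact ⟨_, hd 3, rfl⟩
    | 4 => exact ⟨_, hs 0, rfl⟩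
    | 5 => exact ⟨_, hs 1, rfl⟩
    | 6 => exact ⟨_, hs 2, rfl⟩
    | _ + 7 => exact ⟨_, hu, rfl⟩
  have key : ∀ l, tvS (reach l) 1 ∈ H := by
    intro l
    induction l with
    | nil => exact Subgroup.subset_closure (Or.inr rfl)
    | cons i l ih =>
      obtain ⟨g, hgH, hge⟩ := hg i
      have := mul_mem (mul_mem hgH ih) (inv_mem hgH)
      rw [conj_tvS, hge] at this
      exact this
  refine eq_top_of_tvS H fun v c => ?_
  have hv : v = v4 (v (.inl 0)) (v (.inl 1)) (v (.inr 0)) (v (.inr 1)) := by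
    funext i
    rcases i with i | i <;> fin_cases i <;> rfl
  have h1 : tvS v 1 ∈ H := by
    rcases reach_all (v (.inl 0)) (v (.inl 1)) (v (.inr 0)) (v (.inr 1)) with h | ⟨l, -, h | h⟩
    · have e : tvS v (1 : Z3) = 1 := sp_ext_mulVec fun x => by
        rw [tvS_mulVec, hv, h, smul_zero, add_zero]
        exact (Matrix.one_mulVec x).symm
      rw [e]; exact H.one_mem
    · rw [hv, h]; exact key l
    · rw [hv, h, ← neg_one_smul Z3 (reach l), tvS_smul,
        show ((-1 : Z3)) ^ 2 * 1 = 1 by decide]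
      exact key l
  have hcases : ∀ c : Z3, c = 0 ∨ c = 1 ∨ c = 1 + 1 := by decide
  rcases hcases c with rfl | rfl | rfl
  · rw [tvS_zero]; exact H.one_mem
  · exact h1
  · rw [← tvS_mul]; exact mul_mem h1 h1

/-- The model over the prime field. -/
def model : Model (Cfsg.PSp 2 Z3) where
  d := dP
  s := sP
  u := uP
  rels := rels
  gen := gen
  simple := Classical.isSimpleGroup_psp le_rfl fun _ => by rw [ZMod.card]

/-- The diagonal matrix. -/
def delMat : Matrix (Fin 2 ⊕ Fin 2) (Fin 2 ⊕ Fin 2) Z3 := Matrix.fromBlocks 1 0 0 (-1)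

theorem delMat_sq : delMat * delMat = 1 := by decide +kernel

/-- It as an element of `GL`. -/
def delGL : GL (Fin 2 ⊕ Fin 2) Z3 := ⟨delMat, delMat, delMat_sq, delMat_sq⟩

theorem del_form : ∀ u v : Fin 2 ⊕ Fin 2, (delMatᵀ * Matrix.J (Fin 2) Z3 * delMat) u v =
    -(Matrix.J (Fin 2) Z3 u v) := by decide +kernel

theorem delGL_mem : delGL ∈ Cfsg.GSp 2 Z3 := by
  refine mem_GSp_iff.2 ⟨-1, fun u v => ?_⟩
  show fB 2 Z3 (delMat *ᵥ u) (delMat *ᵥ v) = ((-1 : Z3ˣ) : Z3) * fB 2 Z3 u v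
  have e : delMatᵀ * Matrix.J (Fin 2) Z3 * delMat = -Matrix.J (Fin 2) Z3 :=
    Matrix.ext fun i j => del_form i j
  rw [fB, Classical.sympB_apply, Classical.sympB_apply, Cfsg.sympForm, Cfsg.sympForm,
    Matrix.dotProduct_mulVec, Matrix.vecMul_mulVec, ← Matrix.dotProduct_mulVec,
    Matrix.mulVec_mulVec, e]
  simp [Matrix.neg_mulVec]

/-- The diagonal automorphism of `PSp`. -/
def delA : MulAut (Cfsg.PSp 2 Z3) := conjA ⟨delGL, delGL_mem⟩

theorem delA_mkS (a : Spm 2 Z3) : delA (mkS a) = mkS (conjSp ⟨delGL, delGL_mem⟩ a) := rfl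

theorem mat_del (a : Spm 2 Z3) :
    mat (conjSp ⟨delGL, delGL_mem⟩ a) = delMat * mat a * delMat := rfl

theorem del_gen_mat : (∀ i, delMat * mat (tS i) * delMat * mat (tS i) = 1) ∧
    ∀ k, delMat * sMat k * delMat = sMat k := by decide +kernel

theorem delA_t (i : Fin 5) : delA (mkS (tS i)) = (mkS (tS i))⁻¹ := by
  refine eq_inv_of_mul_eq_one_left ?_
  rw [delA_mkS, ← map_mul, ← map_one (mkS (m := 2) (F := Z3))]
  exact eqP (Or.inl (del_gen_mat.1 i))

/-- No inner automorphism inverts a transvection. -/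
theorem conj_ne_del (g : Cfsg.PSp 2 Z3) : MulAut.conj g ≠ delA := by
  intro h
  obtain ⟨a, rfl⟩ := mkS_surjective g
  have e := DFunLike.congr_fun h (mkS (tS 0))
  rw [MulAut.conj_apply, delA_t, ← map_inv, ← map_mul, ← map_mul, tS_eq, conj_tvS, ← map_inv,
    show (tvS (pt 0) (1 : Z3))⁻¹ = tvS (pt 0) 2 from inv_eq_of_mul_eq_one_right (by
      rw [tvS_mul, show (1 + 2 : Z3) = 0 by decide, tvS_zero])] at e
  have h3 : ∀ (v : Vm 2 Z3) (c : Z3), tvS v c ^ 3 ^ 1 = 1 := fun v c => tvS_pow_p 3 v c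
  have e2 := eq_of_mkS_eq 3 (by norm_num) (h3 _ _) (h3 _ _) e
  have h0 : pt 0 ≠ 0 := by decide
  obtain ⟨c, hc⟩ := tvS_inj h0 (by decide : (2 : Z3) ≠ 0) e2.symm
  rw [hc, tvS_smul] at e2
  have h4 : tvS (pt 0) (c ^ 2 * 1 + 1) = 1 := by
    rw [← tvS_mul, e2, tvS_mul, show (2 + 1 : Z3) = 0 by decide, tvS_zero]
  rw [tvS_eq_one_iff h0] at h4
  exact (by decide : ∀ c : Z3, c ^ 2 * 1 + 1 ≠ 0) c h4

/-- The diagonal automorphism with its properties. -/
def diag : Diag model where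
  del := delA
  sq := by
    refine MulEquiv.ext fun x => ?_
    obtain ⟨a, rfl⟩ := mkS_surjective x
    show delA (delA (mkS a)) = mkS a
    rw [delA_mkS, delA_mkS]
    refine eqP (Or.inl ?_)
    rw [mat_del, mat_del]
    calc delMat * (delMat * mat a * delMat) * delMat
        = (delMat * delMat) * mat a * (delMat * delMat) := by simp only [Matrix.mul_assoc]
      _ = mat a := by rw [delMat_sq, Matrix.one_mul, Matrix.mul_one]
  inv_d i := delA_t i.castSucc
  fix_s k := by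
    show delA (mkS (sS k)) = mkS (sS k)
    rw [delA_mkS]
    exact eqP (Or.inl (del_gen_mat.2 k))
  inv_u := delA_t 4
  notInner := conj_ne_del

variable {P R : Type*} [Group P] [Group R]

/-- A model carried along an isomorphism. -/
def Model.map (M : Model P) (e : P ≃* R) : Model R where
  d := e ∘ M.d
  s := e ∘ M.s
  u := e M.u
  rels := M.rels.map e.toMonoidHom e.injective
  gen := by
    have h : gens (e ∘ M.d) (e ∘ M.s) (e M.u) = e.toMonoidHom '' gens M.d M.s M.u := by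
      simp [gens, Set.image_union, Set.range_comp, Set.image_insert_eq]
    rw [h, ← MonoidHom.map_closure, M.gen, ← MonoidHom.range_eq_map,
      MonoidHom.range_eq_top.2 e.surjective]
  simple := by
    haveI := M.simple
    haveI : Nontrivial R := e.symm.toEquiv.nontrivial
    exact IsSimpleGroup.isSimpleGroup_of_surjective e.toMonoidHom e.surjective

/-- A diagonal automorphism carried along an isomorphism. -/
def Diag.map {M : Model P} (D : Diag M) (e : P ≃* R) : Diag (M.map e) where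
  del := MulAut.congr e D.del
  sq := by rw [← map_mul, D.sq, map_one]
  inv_d i := by simp [MulAut.congr, Model.map, D.inv_d i]
  fix_s k := by simp [MulAut.congr, Model.map, D.fix_s k]
  inv_u := by simp [MulAut.congr, Model.map, D.inv_u]
  notInner g h := D.notInner (e.symm g) (MulEquiv.ext fun x => e.injective (by
    have := DFunLike.congr_fun h (e x)
    simpa [MulAut.congr] using this))

/-- Symplectic matrices over isomorphic fields. -/
def spFieldEquiv {A B : Type*} [Field A] [Field B] (σ : A ≃+* B) :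
    Matrix.symplecticGroup (Fin 2) A ≃* Matrix.symplecticGroup (Fin 2) B where
  toFun M := ⟨M.1.map σ, by
    have h := congrArg (fun N : Matrix _ _ A => N.map σ) (SymplecticGroup.mem_iff.1 M.2)
    rw [SymplecticGroup.mem_iff]
    simpa [Matrix.map_mul, Matrix.transpose_map, Matrix.J, Matrix.fromBlocks_map, Matrix.map_neg] using h⟩
  invFun M := ⟨M.1.map σ.symm, by
    have h := congrArg (fun N : Matrix _ _ B => N.map σ.symm) (SymplecticGroup.mem_iff.1 M.2)
    rw [SymplecticGroup.mem_iff]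
    simpa [Matrix.map_mul, Matrix.transpose_map, Matrix.J, Matrix.fromBlocks_map, Matrix.map_neg] using h⟩
  left_inv M := Subtype.ext (by ext i j; simp)
  right_inv M := Subtype.ext (by ext i j; simp)
  map_mul' M N := Subtype.ext (Matrix.map_mul)

/-- Any field of three elements gives the same group. -/
theorem psp_three_equiv {K : Type*} [Field K] [Fintype K] (hK : Fintype.card K = 3) :
    Nonempty (Cfsg.PSp 2 Z3 ≃* Cfsg.PSp 2 K) := by
  let e := spFieldEquiv (ZMod.ringEquivOfPrime K Nat.prime_three hK)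
  refine ⟨QuotientGroup.congr _ _ e ?_⟩
  ext x
  constructor
  · rintro ⟨y, hy, rfl⟩
    rw [Subgroup.mem_center_iff]
    intro g
    have := congrArg e (Subgroup.mem_center_iff.1 hy (e.symm g))
    simpa using this
  · intro hx
    refine ⟨e.symm x, Subgroup.mem_center_iff.2 fun g => e.injective ?_, by simp⟩
    simpa using Subgroup.mem_center_iff.1 hx (e g)

end Cfsg.Agent.U62Rec.Sp43
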