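import Cfsg.Agent.U62Rec.UniqueU

/-!
# The possible actions

A faithful action of PSp₄(3) or its automorphism group on a space of 256 vectors with a quadratic form is
described, in a suitable frame, by one of the listed configurations.
-/

set_option autoImplicit false
set_option maxRecDepth 100000

namespace Cfsg.Agent.U62Rec

/-- The codes in the natural case. -/
def listN : List ℕ := [gND 0, gND 1, gND 2, gND 3, gNS 0, gNS 1, gNS 2, gNU]

/-- The codes in the reducible case. -/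
def listR : List ℕ := [gRD 0, gRD 1, gRD 2, gRD 3, gRS 0, gRS 1, gRS 2, gRU]

/-- The configurations without an outer element. -/
def innerCfgs : List (List ℕ × ℕ) := [(listN, 255), (listR, 63), (listR, 255)]

/-- The configurations with an outer element. -/
def outerCfgs : List (List ℕ × ℕ) := [(listN ++ [gNX], 255), (listR ++ [gRX0], 63),
  (listR ++ [gRX0], 255), (listR ++ [gRX2], 63), (listR ++ [gRX2], 255)]

open Sp43 Act3

variable {Q : Type*} [Group Q] {V : Type*} [AddCommGroup V] {R : Rep Q V} {P : Type*} [Group P]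
  {M : Model P} {i : P →* Q} (hi : Function.Injective i)

/-- The elements of the configurations. -/
def elems (M : Model P) (i : P →* Q) : List Q :=
  [i (M.d 0), i (M.d 1), i (M.d 2), i (M.d 3), i (M.s 0), i (M.s 1), i (M.s 2), i M.u]

include hi

theorem act3_of : Act3 R (i ∘ M.d) (i ∘ M.s) (i M.u) := ⟨M.rels.map i hi⟩

theorem condU_of {l : ℕ} {w y : Fin 4 → V} (Fr : R.Frame (mkE w y) l) {c0 c3 e0 e1 g : ℕ}
    (hd0 : R.Moves (mkE w y) c0 (i (M.d 0))) (hd3 : R.Moves (mkE w y) c3 (i (M.d 3)))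
    (hs0 : R.Moves (mkE w y) e0 (i (M.s 0))) (hs1 : R.Moves (mkE w y) e1 (i (M.s 1)))
    (hg : R.Moves (mkE w y) g (i M.u)) : condU c0 c3 e0 e1 g = true := by
  have A := (act3_of (R := R) (M := M) hi).rels
  simp only [condU, Bool.and_eq_true, Nat.beq_eq, Bool.not_eq_true', ← Bool.not_eq_true]
  refine ⟨⟨⟨⟨⟨Fr.code_eq hg hd3 hd3 hg A.u_d, Fr.code_eq hg hs0 hs0 hg A.u_s0⟩,
    Fr.code_eq hg hs1 hs1 hg A.u_s1⟩, ?_⟩, ?_⟩, ?_⟩
  · refine Fr.moves_unique (isCode_cmp _ _) isCode_idm (R.moves_mul (R.moves_mul hg hg) hg) ?_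
    have e := A.u_cube
    rw [show i M.u * i M.u * i M.u = 1 from e]
    exact R.moves_one _
  · exact Fr.code_eq (R.moves_mul hg hd0) hg (R.moves_mul hd0 hg) hd0 A.braid
  · intro e
    apply A.ne
    refine Fr.eq_of_moves (R.moves_mul hg hd0) ?_
    rw [e]
    exact R.moves_mul hd0 hg

theorem moves_list {l : ℕ} {e : Fin 8 → V} (_Fr : R.Frame e l) {cd : Fin 4 → ℕ} {cs : Fin 3 → ℕ} {cu : ℕ}
    (hd : ∀ k, R.Moves e (cd k) (i (M.d k))) (hs : ∀ k, R.Moves e (cs k) (i (M.s k)))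
    (hu : R.Moves e cu (i M.u)) :
    List.Forall₂ (R.Moves e) [cd 0, cd 1, cd 2, cd 3, cs 0, cs 1, cs 2, cu] (elems M i) := by
  simp only [elems, List.forall₂_cons, List.Forall₂.nil, and_true]
  exact ⟨hd 0, hd 1, hd 2, hd 3, hs 0, hs 1, hs 2, hu⟩

/-- A frame in the case of four planes. -/
theorem nat_frame (hc : ∀ k, Nat.card ↥(piece R (i ∘ M.d) (chr (idN k))) = 4) {w0 : V}
    (hw0 : w0 ∈ piece R (i ∘ M.d) (chr (idN 0))) (hne : w0 ≠ 0) :
    ∃ e, R.Frame e 255 ∧ List.Forall₂ (R.Moves e) listN (elems M i) ∧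
      ∀ x, Outer (i ∘ M.d) (i ∘ M.s) x → R.act x w0 = w0 → R.Moves e gNX x := by
  obtain ⟨w, y, Fr, hd, hs, hx⟩ := (act3_of (R := R) (M := M) hi).nat_basis hc hw0 hne
  obtain ⟨g, hgc, hg⟩ := Fr.exists_code (i M.u)
  have hgU : g = gNU := natU_unique hgc (condU_of hi Fr (hd 0) (hd 3) (hs 0) (hs 1) hg)
  exact ⟨_, Fr, moves_list hi Fr hd hs (hgU ▸ hg), hx⟩

/-- The whole group fixes the fixed plane in the reducible case. -/
theorem fixed_trivial (hfix : ∀ v, R.act (i (M.d 3)) v = v → v ∈ piece R (i ∘ M.d) (chr 0))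
    (x : P) {v : V} (hv : v ∈ piece R (i ∘ M.d) (chr 0)) : R.act (i x) v = v := by
  have A := act3_of (R := R) (M := M) hi
  set W := piece R (i ∘ M.d) (chr 0)
  let St : Subgroup P :=
    { carrier := {x | ∀ v, v ∈ W ↔ R.act (i x) v ∈ W}
      one_mem' := fun v => by rw [map_one, R.act_one]
      mul_mem' := fun {x y} hx hy v => by rw [hy v, hx, map_mul, R.act_mul]
      inv_mem' := fun {x} hx v => by
        rw [hx (R.act (i x⁻¹) v), ← R.act_mul, ← map_mul, mul_inv_cancel, map_one, R.act_one] }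
  have hdfix : ∀ k, ∀ v ∈ W, R.act (i (M.d k)) v = v := fun k v hv =>
    A.d_fix hv (by simp [chr, dot])
  have hSt : St = ⊤ := by
    rw [eq_top_iff, ← M.gen, Subgroup.closure_le]
    rintro x ((⟨k, rfl⟩ | ⟨k, rfl⟩) | rfl)
    · intro v
      refine ⟨fun h => (hdfix k v h).symm ▸ h, fun h => ?_⟩
      rw [← R.act_inj (i (M.d k)) (hdfix k _ h)]
      exact h
    · intro v
      have hm : ∀ w ∈ W, R.act (i (M.s k)) w ∈ W := fun w hw =>
        A.act_s_mem (fun t => by simp [chr, dot]) hw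
      refine ⟨hm v, fun h => ?_⟩
      have := hm _ h
      rwa [← R.act_mul, show i (M.s k) * i (M.s k) = 1 from A.rels.s_sq k, R.act_one] at this
    · intro v
      have hc : ∀ w, R.act (i (M.d 3)) (R.act (i M.u) w) = R.act (i M.u) (R.act (i (M.d 3)) w) :=
        fun w => R.act_comm (show Commute (i (M.d 3)) (i M.u) from A.rels.u_d.symm) w
      refine ⟨fun h => hfix _ (by rw [hc, hdfix 3 v h]), fun h => hfix _ ?_⟩
      exact R.act_inj (i M.u) (by rw [← hc, hdfix 3 _ h])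
  let K : Subgroup P :=
    { carrier := {x | ∀ v ∈ W, R.act (i x) v = v}
      one_mem' := fun v _ => by rw [map_one, R.act_one]
      mul_mem' := fun {x y} hx hy v hv => by rw [map_mul, R.act_mul, hy v hv, hx v hv]
      inv_mem' := fun {x} hx v hv => by
        conv_lhs => rw [← hx v hv, ← R.act_mul, ← map_mul, inv_mul_cancel, map_one, R.act_one] }
  have hKn : K.Normal := ⟨fun x hx g v hv => by
    have hg : g⁻¹ ∈ St := hSt ▸ Subgroup.mem_top _
    rw [map_mul, map_mul, R.act_mul, R.act_mul, hx _ ((hg v).1 hv), ← R.act_mul, ← map_mul,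
      mul_inv_cancel, map_one, R.act_one]⟩
  have hd0 : M.d 0 ∈ K := hdfix 0
  have := M.simple
  have hK : K = ⊤ := (hKn.eq_bot_or_eq_top).resolve_left fun e => M.rels.ne (by
    have h1 : M.d 0 = 1 := by simpa [e] using hd0
    rw [h1, mul_one, one_mul])
  exact (hK ▸ Subgroup.mem_top x : x ∈ K) v hv

theorem W_pairs (hc : Nat.card ↥(piece R (i ∘ M.d) (chr 0)) = 4) {a b : V}
    (ha : a ∈ piece R (i ∘ M.d) (chr 0)) (hb : b ∈ piece R (i ∘ M.d) (chr 0)) (ha0 : a ≠ 0)
    (hb0 : b ≠ 0) (hab : a ≠ b) : R.B a b = true := by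
  classical
  have hVf : Finite V := Nat.finite_of_card_ne_zero (by rw [R.card]; norm_num)
  have h0 : a + b ≠ 0 := fun e => hab (by rw [add_eq_zero_iff_eq_neg, R.neg_eq] at e; exact e)
  have h1 : a + b ≠ a := fun e => hb0 (by simpa using e)
  have h2 : a + b ≠ b := fun e => ha0 (by simpa using e)
  have hsub : ({0, a, b, a + b} : Set V) ⊆ piece R (i ∘ M.d) (chr 0) := by
    rintro x (rfl | rfl | rfl | rfl)
    exacts [AddSubgroup.zero_mem _, ha, hb, AddSubgroup.add_mem _ ha hb]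
  have hcard : ({0, a, b, a + b} : Set V).ncard = 4 := by
    rw [Set.ncard_insert_of_notMem (by simp [ha0.symm, hb0.symm, h0.symm]),
      Set.ncard_insert_of_notMem (by simp [hab, h1.symm]), Set.ncard_pair h2.symm]
  have heq := Set.eq_of_subset_of_ncard_le hsub (by
    rw [hcard, ← Nat.card_coe_set_eq]; exact hc.le) (Set.toFinite _)
  obtain ⟨w, hw, h⟩ := (act3_of (R := R) (M := M) hi).exists_partner ha ha0
  have : w ∈ ({0, a, b, a + b} : Set V) := heq ▸ hw
  simp only [Set.mem_insert_iff, Set.mem_singleton_iff] at this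
  rcases this with rfl | rfl | rfl | rfl
  · rw [R.B_comm, R.B_zero] at h; cases h
  · rw [R.B_self] at h; cases h
  · exact h
  · rwa [R.B_add', R.B_self, Bool.false_xor] at h

theorem W_normal (hc : Nat.card ↥(piece R (i ∘ M.d) (chr 0)) = 4) :
    ∃ a ∈ piece R (i ∘ M.d) (chr 0), ∃ b ∈ piece R (i ∘ M.d) (chr 0),
      a ≠ 0 ∧ b ≠ 0 ∧ a ≠ b ∧ R.B a b = true ∧ R.q a = R.q b := by
  classical
  have hVf : Finite V := Nat.finite_of_card_ne_zero (by rw [R.card]; norm_num)
  set W := piece R (i ∘ M.d) (chr 0)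
  have hn : (W : Set V).ncard = 4 := by rw [← Nat.card_coe_set_eq]; exact hc
  obtain ⟨x, hx, hx0⟩ := Set.exists_ne_of_one_lt_ncard (s := (W : Set V)) (by omega) 0
  have h2 : ((W : Set V) \ {0, x}).Nonempty := by
    refine Set.nonempty_of_ncard_ne_zero fun e => ?_
    have := Set.le_ncard_diff ({0, x} : Set V) (W : Set V)
    rw [e, hn, Set.ncard_pair hx0.symm] at this
    omega
  obtain ⟨y, hy, hyn⟩ := h2
  simp only [Set.mem_insert_iff, Set.mem_singleton_iff, not_or] at hyn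
  have hB := W_pairs hi hc hx hy hx0 hyn.1 (Ne.symm hyn.2)
  have hs0 : x + y ≠ 0 := fun e => hyn.2 (by
    rw [add_eq_zero_iff_eq_neg, R.neg_eq] at e; exact e.symm)
  have hxs : x ≠ x + y := fun e => hyn.1 (by simpa using e.symm)
  have hys : y ≠ x + y := fun e => hx0 (by simpa using e.symm)
  have hq := R.q_add x y
  rw [hB] at hq
  cases ex : R.q x <;> cases ey : R.q y <;> rw [ex, ey] at hq
  · exact ⟨x, hx, y, hy, hx0, hyn.1, Ne.symm hyn.2, hB, by rw [ex, ey]⟩
  · exact ⟨x, hx, x + y, add_mem hx hy, hx0, hs0, hxs,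
      W_pairs hi hc hx (add_mem hx hy) hx0 hs0 hxs, by rw [ex, hq]; rfl⟩
  · exact ⟨y, hy, x + y, add_mem hx hy, hyn.1, hs0, hys,
      W_pairs hi hc hy (add_mem hx hy) hyn.1 hs0 hys, by rw [ey, hq]; rfl⟩
  · exact ⟨x, hx, y, hy, hx0, hyn.1, Ne.symm hyn.2, hB, by rw [ex, ey]⟩

/-- A frame in the case of three planes. -/
theorem red_frame (hc : ∀ k, Nat.card ↥(piece R (i ∘ M.d) (chr (idR k))) = 4)
    (hfix : ∀ v, R.act (i (M.d 3)) v = v → v ∈ piece R (i ∘ M.d) (chr 0)) {w0 : V}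
    (hw0 : w0 ∈ piece R (i ∘ M.d) (chr (idR 0))) (hne : w0 ≠ 0)
    (ht : R.act (i (M.s 1)) (R.act (i (M.s 2)) (R.act (i (M.s 0)) (R.act (i (M.s 1)) w0))) = w0)
    {a b : V} (ha : a ∈ piece R (i ∘ M.d) (chr 0)) (hb : b ∈ piece R (i ∘ M.d) (chr 0))
    (hab : R.B a b = true) (hq : R.q a = R.q b) :
    ∃ e, R.Frame e (if R.q a then 255 else 63) ∧ List.Forall₂ (R.Moves e) listR (elems M i) ∧
      ∀ x, Outer (i ∘ M.d) (i ∘ M.s) x → R.act x w0 = w0 →
        (R.act x a = a ∧ R.act x b = b → R.Moves e gRX0 x) ∧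
        (R.act x a = b ∧ R.act x b = a → R.Moves e gRX2 x) := by
  have hW : ∀ x, ∀ {v : V}, v ∈ piece R (i ∘ M.d) (chr 0) → R.act (i x) v = v :=
    fun x {v} hv => fixed_trivial hi hfix x hv
  obtain ⟨w, y, ⟨hwa, hyb⟩, Fr, hd, hs, hx⟩ := (act3_of (R := R) (M := M) hi).red_basis hc hw0 hne ht
    ha hb hab (fun j v hv => hW (M.s j) hv) (l := if R.q a then 255 else 63)
    (fun k hk => by cases R.q a <;> revert k <;> decide +kernel)
    (by cases R.q a <;> decide +kernel) (by rw [← hq]; cases R.q a <;> decide +kernel)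
  obtain ⟨g, hgc, hg⟩ := Fr.exists_code (i M.u)
  have h64 : app g 64 = 64 := by
    have e := hg (ix0 3)
    rw [mkE_ix0, hwa, hW M.u ha, ← hwa, ← vec_u0 w y 3] at e
    exact (Fr.vec_inj (by decide) (app_lt _ _) e).symm
  have h128 : app g 128 = 128 := by
    have e := hg (ix1 3)
    rw [mkE_ix1, hyb, hW M.u hb, ← hyb, ← vec_u1 w y 3] at e
    exact (Fr.vec_inj (by decide) (app_lt _ _) e).symm
  have hgU : g = gRU := redU_unique hgc (condU_of hi Fr (hd 0) (hd 3) (hs 0) (hs 1) hg) h64 h128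
  exact ⟨_, Fr, moves_list hi Fr hd hs (hgU ▸ hg), hx⟩

theorem fix_of_cards (hc : ∀ j : Fin 14, j ∉ [0, 5, 6, 7] →
      Nat.card ↥(piece R (i ∘ M.d) (chr j)) = 1) (v : V) (hv : R.act (i (M.d 3)) v = v) :
    v ∈ piece R (i ∘ M.d) (chr 0) := by
  classical
  have A := act3_of (R := R) (M := M) hi
  obtain ⟨g, rfl⟩ := A.sumMap_bijective.2 v
  let g' : (j : Fin 14) → ↥(piece R (i ∘ M.d) (chr j)) :=
    fun j => ⟨R.act (i (M.d 3)) (g j), A.act_d_mem (g j).2 3⟩
  have hsum : sumMap R (i ∘ M.d) g' = R.act (i (M.d 3)) (sumMap R (i ∘ M.d) g) := by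
    let f : V →+ V := AddMonoidHom.mk' (R.act (i (M.d 3))) (R.act_add _)
    exact (map_sum f (fun j => (g j : V)) Finset.univ).symm
  have hgg : g' = g := A.sumMap_bijective.1 (by rw [hsum, hv])
  have hz : ∀ j, j ≠ 0 → (g j : V) = 0 := by
    intro j hj
    by_cases hm : j ∈ ([0, 5, 6, 7] : List (Fin 14))
    · have hmv : dot (chr j) (ev 3) ≠ 0 := by
        have : ∀ j ∈ ([0, 5, 6, 7] : List (Fin 14)), j ≠ 0 → dot (chr j) (ev 3) ≠ 0 := by
          decide +kernel
        exact this j hm hj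
      have hF := A.d_moved (g j).2 hmv
      simp only [Function.comp_apply] at hF
      rwa [R.F_of_fix (congrArg Subtype.val (congrFun hgg j))] at hF
    · have := (Nat.card_eq_one_iff_unique.1 (hc j hm)).1
      exact congrArg Subtype.val (Subsingleton.elim (g j) 0)
  rw [sumMap, Finset.sum_eq_single (0 : Fin 14) (fun j _ hj => hz j hj) (by simp)]
  exact (g 0).2

omit hi in
/-- The element normalising the first plane. -/
def tel (M : Model P) (i : P →* Q) : Q := i (M.s 1) * i (M.s 2) * i (M.s 0) * i (M.s 1)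

theorem tel_facts (hc : ∀ k, Nat.card ↥(piece R (i ∘ M.d) (chr (idR k))) = 4) :
    (∀ w, R.act (tel M i) (R.act (tel M i) w) = w) ∧
    ∀ w ∈ piece R (i ∘ M.d) (chr (idR 0)), R.act (tel M i) w ∈ piece R (i ∘ M.d) (chr (idR 0)) := by
  have A := act3_of (R := R) (M := M) hi
  refine ⟨fun w => ?_, fun w hw => ?_⟩
  · have e1 : i (M.s 1) * i (M.s 1) = 1 := A.rels.s_sq 1
    have e2 : i (M.s 2) * i (M.s 2) = 1 := A.rels.s_sq 2
    have e0 : i (M.s 0) * i (M.s 0) = 1 := A.rels.s_sq 0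
    have ec : i (M.s 0) * i (M.s 2) = i (M.s 2) * i (M.s 0) := A.rels.s_comm
    rw [← R.act_mul, show tel M i * tel M i = 1 by
      calc tel M i * tel M i = i (M.s 1) * i (M.s 2) * i (M.s 0) * (i (M.s 1) * i (M.s 1)) *
            (i (M.s 2) * i (M.s 0)) * i (M.s 1) := by simp only [tel, mul_assoc]
        _ = i (M.s 1) * i (M.s 2) * (i (M.s 0) * i (M.s 0)) * i (M.s 2) * i (M.s 1) := by
          rw [e1, mul_one, ← ec]; simp only [mul_assoc]
        _ = i (M.s 1) * (i (M.s 2) * i (M.s 2)) * i (M.s 1) := by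
          rw [e0, mul_one]; simp only [mul_assoc]
        _ = 1 := by rw [e2, mul_one, e1], R.act_one]
  · simp only [tel, R.act_mul]
    have h1 := A.act_s_R hc (j := 1) (k := 0) hw
    have h2 := A.act_s_R hc (j := 0) (k := 1) h1
    have h3 := A.act_s_R hc (j := 2) (k := 2) h2
    exact A.act_s_R hc (j := 1) (k := 1) h3

/-- The configurations of PSp₄(3). -/
theorem dichotomy_inner : ∃ c ∈ innerCfgs, ∃ e, R.Frame e c.2 ∧
    List.Forall₂ (R.Moves e) c.1 (elems M i) := by
  have A := act3_of (R := R) (M := M) hi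
  rcases A.cards with ⟨h4, -⟩ | ⟨h4, h1⟩
  · have hc : ∀ k, Nat.card ↥(piece R (i ∘ M.d) (chr (idN k))) = 4 := fun k =>
      h4 _ (by revert k; decide)
    obtain ⟨w0, hw0, hne⟩ := A.exists_ne_zero (planeN hc 0)
    obtain ⟨e, Fr, hl, -⟩ := nat_frame hi hc hw0 hne
    exact ⟨(listN, 255), by simp [innerCfgs], e, Fr, hl⟩
  · have hc : ∀ k, Nat.card ↥(piece R (i ∘ M.d) (chr (idR k))) = 4 := fun k =>
      h4 _ (by revert k; decide)
    obtain ⟨hsq, hm⟩ := tel_facts hi hc
    obtain ⟨w0, hw0, hne, ht⟩ := A.exists_fixed (planeR hc (by decide : (0 : Fin 4) ≠ 3)) hm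
      (fun w _ => hsq w)
    simp only [tel, R.act_mul] at ht
    obtain ⟨a, ha, b, hb, -, -, -, hab, hq⟩ := W_normal hi (hc 3)
    obtain ⟨e, Fr, hl, -⟩ := red_frame hi hc (fix_of_cards hi h1) hw0 hne ht ha hb hab hq
    exact ⟨(listR, if R.q a then 255 else 63), by cases R.q a <;> simp [innerCfgs], e, Fr, hl⟩

/-- The configurations of the automorphism group. -/
theorem dichotomy_outer {x : Q} (hx : Outer (i ∘ M.d) (i ∘ M.s) x) :
    ∃ c ∈ outerCfgs, ∃ e, R.Frame e c.2 ∧ List.Forall₂ (R.Moves e) c.1 (elems M i ++ [x]) := by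
  have A := act3_of (R := R) (M := M) hi
  have hxm : ∀ {a : Ex}, ∀ w ∈ piece R (i ∘ M.d) a, R.act x w ∈ piece R (i ∘ M.d) a :=
    fun {a} w hw => A.outer_mem hx hw
  have key : ∀ {e : Fin 8 → V} {cl : List ℕ} {g : ℕ}, List.Forall₂ (R.Moves e) cl (elems M i) →
      R.Moves e g x → List.Forall₂ (R.Moves e) (cl ++ [g]) (elems M i ++ [x]) := fun h hg =>
    List.rel_append h (List.Forall₂.cons hg List.Forall₂.nil)
  rcases A.cards with ⟨h4, -⟩ | ⟨h4, h1⟩
  · have hc : ∀ k, Nat.card ↥(piece R (i ∘ M.d) (chr (idN k))) = 4 := fun k =>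
      h4 _ (by revert k; decide)
    obtain ⟨w0, hw0, hne, hf⟩ := A.exists_fixed (planeN hc 0) hxm (fun w _ => outer_sq hx w)
    obtain ⟨e, Fr, hl, hX⟩ := nat_frame hi hc hw0 hne
    exact ⟨(listN ++ [gNX], 255), by simp [outerCfgs], e, Fr, key hl (hX x hx hf)⟩
  · have hc : ∀ k, Nat.card ↥(piece R (i ∘ M.d) (chr (idR k))) = 4 := fun k =>
      h4 _ (by revert k; decide)
    obtain ⟨hsq, hm⟩ := tel_facts hi hc
    have P0 := planeR hc (by decide : (0 : Fin 4) ≠ 3)
    obtain ⟨w0, hw0, hne, ht⟩ := A.exists_fixed P0 hm (fun w _ => hsq w)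
    have hxt : ∀ w, R.act x (R.act (tel M i) w) = R.act (tel M i) (R.act x w) := fun w => by
      refine R.act_comm ?_ w
      exact (((show Commute x (i (M.s 1)) from hx.fix_s 1).mul_right (hx.fix_s 2)).mul_right
        (hx.fix_s 0)).mul_right (hx.fix_s 1)
    have hfix0 : R.act x w0 = w0 := by
      have hid : R.act (x * tel M i) w0 = w0 := by
        refine A.invol_id P0 hw0 (fun w hw => by rw [R.act_mul]; exact hxm _ (hm w hw))
          (fun w _ => by rw [R.act_mul, R.act_mul, hxt w, hsq, outer_sq hx]) fun w hw => ?_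
        have et : tel M i * i (M.d 0) = i (M.d 2) * tel M i := by
          have e := fun j k => (A.rels.s_d j k)
          simp only [Function.comp_apply] at e
          have a1 : i (M.s 1) * i (M.d 0) = i (M.d 0) * i (M.s 1) := e 1 0
          have a2 : i (M.s 0) * i (M.d 0) = i (M.d 1) * i (M.s 0) := e 0 0
          have a3 : i (M.s 2) * i (M.d 1) = i (M.d 1) * i (M.s 2) := e 2 1
          have a4 : i (M.s 1) * i (M.d 1) = i (M.d 2) * i (M.s 1) := e 1 1
          calc tel M i * i (M.d 0)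
              = i (M.s 1) * i (M.s 2) * i (M.s 0) * (i (M.s 1) * i (M.d 0)) := by
                simp only [tel, mul_assoc]
            _ = i (M.s 1) * i (M.s 2) * (i (M.s 0) * i (M.d 0)) * i (M.s 1) := by
                rw [a1]; simp only [mul_assoc]
            _ = i (M.s 1) * (i (M.s 2) * i (M.d 1)) * i (M.s 0) * i (M.s 1) := by
                rw [a2]; simp only [mul_assoc]
            _ = (i (M.s 1) * i (M.d 1)) * i (M.s 2) * i (M.s 0) * i (M.s 1) := by
                rw [a3]; simp only [mul_assoc]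
            _ = i (M.d 2) * tel M i := by rw [a4]; simp only [tel, mul_assoc]
        show R.act (x * tel M i) (R.act (i (M.d 0)) w) = R.act (i (M.d 0)) _
        have htw := hxm _ (hm w hw)
        rw [R.act_mul, ← R.act_mul (tel M i), et, R.act_mul,
          show R.act x (R.act (i (M.d 2)) (R.act (tel M i) w)) =
            R.act (i (M.d 2)) (R.act (i (M.d 2)) (R.act x (R.act (tel M i) w))) from
            outer_d hx 2 (A.rels.d_cube 2) _]
        rw [show R.act (i (M.d 2)) (R.act x (R.act (tel M i) w)) =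
            R.act (i (M.d 0)) (R.act (i (M.d 0)) (R.act x (R.act (tel M i) w))) from
            A.d_inv (i := 0) (j := 2) htw (by decide +kernel),
          (show ∀ v ∈ piece R (i ∘ M.d) (chr (idR 0)), R.act (i (M.d 2)) v =
            R.act (i (M.d 0)) (R.act (i (M.d 0)) v) from fun v hv =>
            A.d_inv (i := 0) (j := 2) hv (by decide +kernel))
            (R.act (i (M.d 0)) (R.act (i (M.d 0)) (R.act x (R.act (tel M i) w))))
            (A.act_d_mem (A.act_d_mem htw 0) 0)]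
        have e3 : ∀ v, R.act (i (M.d 0)) (R.act (i (M.d 0)) (R.act (i (M.d 0)) v)) = v := fun v => by
          rw [← R.act_mul, ← R.act_mul, show i (M.d 0) * i (M.d 0) * i (M.d 0) = 1 from
            A.rels.d_cube 0, R.act_one]
        rw [e3, R.act_mul]
      rwa [R.act_mul, ht] at hid
    simp only [tel, R.act_mul] at ht
    obtain ⟨a, ha, b, hb, ha0, hb0, hab', hab, hq⟩ := W_normal hi (hc 3)
    by_cases hf : R.act x a = a ∧ R.act x b = b
    · obtain ⟨e, Fr, hl, hX⟩ := red_frame hi hc (fix_of_cards hi h1) hw0 hne ht ha hb hab hq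
      exact ⟨(listR ++ [gRX0], if R.q a then 255 else 63), by cases R.q a <;> simp [outerCfgs], e,
        Fr, key hl ((hX x hx hfix0).1 hf)⟩
    · obtain ⟨v, hv, hv0, hmv⟩ : ∃ v ∈ piece R (i ∘ M.d) (chr 0), v ≠ 0 ∧ R.act x v ≠ v := by
        rcases not_and_or.1 hf with h | h
        exacts [⟨a, ha, ha0, h⟩, ⟨b, hb, hb0, h⟩]
      have hv1 : R.act x v ≠ 0 := fun e => hv0 (R.act_inj _ (e.trans (R.act_zero _).symm))
      obtain ⟨e, Fr, hl, hX⟩ := red_frame hi hc (fix_of_cards hi h1) hw0 hne ht hv (hxm v hv)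
        (W_pairs hi (hc 3) hv (hxm v hv) hv0 hv1 hmv.symm) (R.q_act x v).symm
      exact ⟨(listR ++ [gRX2], if R.q v then 255 else 63), by cases R.q v <;> simp [outerCfgs], e,
        Fr, key hl ((hX x hx hfix0).2 ⟨rfl, outer_sq hx v⟩)⟩

end Cfsg.Agent.U62Rec
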