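import Cfsg.Agent.U62Rec.Whole
import Cfsg.Agent.Invol.IsolatedApps

/-!
# The recognition theorem from coordinates

Reducible configurations give `G = H·O(G)`; natural ones give this or a normal subgroup `U₆(2)`.
-/

set_option autoImplicit false

open Cfsg Subgroup

namespace Cfsg.Agent.U62Rec

open Cfsg.Agent.LargeExtra Cfsg.Agent.ThreeTrans Cfsg.Agent.ThreeTrans.SpPSU

variable {G : Type*} [Group G] [Finite G]

theorem decomp_of_isolated {z : G} (hz : orderOf z = 2)
    (h : ∀ g, g * z * g⁻¹ ∈ centralizer ({z} : Set G) → g * z * g⁻¹ = z) :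
    centralizer ({z} : Set G) ⊔ Cfsg.oddCore G = ⊤ := by
  refine eq_top_iff.2 fun g _ => ?_
  obtain ⟨o, ho, hc⟩ := Cfsg.Agent.Invol.isolated_decomp (z := z)
    ⟨hz, fun g hg => h g (mem_centralizer_singleton_iff.2 hg.eq.symm)⟩ g
  rw [show g = o * (o⁻¹ * g) by group]
  exact mul_mem (mem_sup_right ho) (mem_sup_left (mem_centralizer_singleton_iff.2 hc.eq))

/-- A reducible configuration. -/
theorem red_main {C : Cfg} {z : G} (M : Mod C z) {outs : List Out} (hF : Facts C outs)
    (hs : sidesOK outs = true) (hr : ∀ o ∈ outs, o.2.2.2.2 ≠ 1) :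
    centralizer ({z} : Set G) ⊔ Cfsg.oddCore G = ⊤ :=
  decomp_of_isolated M.set.ord fun _ hg => M.isolated hF hs hr hg

/-- A natural configuration. -/
theorem nat_main {C : Cfg} {outs : List Out} {c : ℕ} {P : List ℕ} {W : Prop}
    (N : NatCfg C outs c P) (S : Shapes C.gens C.l P (outs.map fun o => o.1.c) W) {z : G}
    (M : Mod C z) (hb : Nat.card ↥(centralizer ({z} : Set G)) ≤ 512 * 51840)
    (ho : W → Nat.card ↥(centralizer ({z} : Set G)) ≠ 512 * 25920)
    {F : Type*} [Field F] [Fintype F] (hF : Fintype.card F = 4) :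
    centralizer ({z} : Set G) ⊔ Cfsg.oddCore G = ⊤ ∨
      ∃ G₀ : Subgroup G, G₀.Normal ∧ Nonempty (↥G₀ ≃* Cfsg.PSU 6 F 2) ∧
        G₀.index * (512 * 25920) = Nat.card ↥(centralizer ({z} : Set G)) ∧
        centralizer (G₀ : Set G) = ⊥ := by
  classical
  by_cases hiso : ∀ g, g * z * g⁻¹ ∈ centralizer ({z} : Set G) → g * z * g⁻¹ = z
  · exact Or.inl (decomp_of_isolated M.set.ord hiso)
  right
  push Not at hiso
  obtain ⟨g, hg, hne⟩ := hiso
  set D : Set G := {y | ∃ g, g * z * g⁻¹ = y} with hD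
  have hz : z ∈ D := ⟨1, by group⟩
  have hy : g * z * g⁻¹ ∈ dperp D z :=
    ⟨⟨g, rfl⟩, hne, (mem_centralizer_singleton_iff.1 hg).symm⟩
  have K : Full C outs c P D z W := ⟨⟨N, Env.ofMod M, hz, _, hy⟩, S, hb, ho⟩
  have hX := K.comp2_eq_class
  obtain ⟨hiso, hcard⟩ := K.toCtx.ident hb hF
  rw [hX] at hiso hcard
  obtain ⟨hZ, hcl⟩ : (∀ n, (∀ u ∈ D, Commute n u) → n = 1) ∧
      (closure D).Normal := by
    refine ⟨fun n hn => K.toCtx.eq_one fun u hu => hn u (by rw [← hX]; exact hu), ?_⟩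
    refine ⟨fun n hn g => ?_⟩
    have hle : closure D ≤ (closure D).comap (MulAut.conj g).toMonoidHom :=
      (closure_le _).2 fun a ⟨h, ha⟩ => subset_closure ⟨g * h, by rw [← ha]; show _ = g * _ * g⁻¹; group⟩
    exact hle hn
  refine ⟨closure D, hcl, hiso, ?_, ?_⟩
  · have hDc : D.ncard = 693 := by
      rw [← hX]; exact N.comp2_ncard K.env M hz hy
    have hiff : ∀ (X : Subgroup G), ∀ a ∈ X, ∀ b ∈ X, (a * z * a⁻¹ = b * z * b⁻¹ ↔
        a⁻¹ * b ∈ X ⊓ centralizer ({z} : Set G)) := by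
      intro X a ha b hb'
      rw [Subgroup.mem_inf, mem_centralizer_singleton_iff]
      constructor
      · intro e
        refine ⟨mul_mem (inv_mem ha) hb', ?_⟩
        calc a⁻¹ * b * z = a⁻¹ * (b * z * b⁻¹) * b := by group
          _ = z * (a⁻¹ * b) := by rw [← e]; group
      · rintro ⟨-, e⟩
        calc a * z * a⁻¹ = a * (z * (a⁻¹ * b)) * b⁻¹ := by group
          _ = b * z * b⁻¹ := by rw [← e]; group
    have hG : Nat.card G = 693 * Nat.card ↥(centralizer ({z} : Set G)) := by
      rw [← Subgroup.card_top (G := G), card_fibres (fun g => g * z * g⁻¹) ⊤ _ inf_le_left (hiff ⊤),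
        top_inf_eq]
      congr 1
      rw [← hDc]
      congr 1
      ext u
      simp [hD]
    have hU : Nat.card ↥(closure D) = 693 * (512 * 25920) := by
      rw [card_fibres (fun g => g * z * g⁻¹) (closure D) _ inf_le_left (hiff _), hcard]
      congr 1
      rw [← hDc]
      congr 1
      ext u
      simp only [Set.mem_image, SetLike.mem_coe]
      constructor
      · rintro ⟨a, -, e⟩; exact ⟨a, e⟩
      · intro hu
        obtain ⟨a, ha, e⟩ := K.toCtx.trans (a := z) (b := u) K.self_mem (by rw [hX]; exact hu)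
        exact ⟨a, by rw [← hX]; exact ha, e⟩
    have := (closure D).card_mul_index
    rw [hU, hG, mul_assoc] at this
    have h2 := Nat.eq_of_mul_eq_mul_left (by norm_num : 0 < 693) this
    rw [← h2, mul_comm]
  · rw [Subgroup.eq_bot_iff_forall]
    exact fun n hn => hZ n fun u hu => (mem_centralizer_iff.1 hn u (subset_closure hu)).symm

end Cfsg.Agent.U62Rec
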