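import Cfsg.Agent.U62Rec.Points

/-!
# Involutory maps of a natural configuration in terms of transvections

Each class is a transvection, a product of two commuting transvections, or together with the
transvections generates all maps.
-/

set_option autoImplicit false

namespace Cfsg.Agent.U62Rec

/-- The product of the listed members. -/
def evalW (Q : List ℕ) (w : List ℕ) : ℕ := w.foldr (fun i acc => cmp (Q.getD i idm) acc) idm

/-- The shape of one class. -/
def shapeOK (gens Q : List ℕ) (c : ℕ) (ws : List (List ℕ)) : Bool :=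
  mem c Q || (Q.any fun a => Q.any fun b => !Nat.beq a b && com a b && Nat.beq (cmp a b) c) ||
    (Nat.beq ws.length gens.length && (gens.zip ws).all fun p => Nat.beq (evalW (c :: Q) p.2) p.1)

/-- The finite conditions. -/
def involOK (gens : List ℕ) (l : ℕ) (P : List (ℕ × List ℕ)) (cs : List (ℕ × List (List ℕ))) :
    Bool :=
  P.all (fun a => P.all fun b => Nat.beq a.1 b.1 || !com a.1 b.1 ||
    (P.all (fun q => !Nat.beq (cmp a.1 b.1) q.1) &&
      (List.range 256).all fun v => !Nat.beq (app (cmp a.1 b.1) v) v ||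
        a.2.any fun i => b.2.any fun j => Nat.beq (i ^^^ j) v)) &&
  (List.range 256).all (fun v => Nat.beq v 0 || qv l v || P.any fun p => mem v p.2) &&
  P.all (fun p => P.all fun q => com p.1 q.1 ||
    q.2.all fun v => Nat.beq v 0 || !Nat.beq (app p.1 v) v) &&
  P.all (fun p => p.2.all fun v => (List.range 256).any fun w => Nat.beq (app p.1 w ^^^ w) v) &&
  cs.all (fun c => shapeOK gens (P.map (·.1)) c.1 c.2)

/-- What the conditions say. -/
structure Shapes (gens : List ℕ) (l : ℕ) (P : List ℕ) (cs : List ℕ) (W : Prop) : Prop where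
  noProd : ∀ a ∈ P, ∀ b ∈ P, a ≠ b → com a b = true → cmp a b ∉ P
  fixSum : ∀ a ∈ P, ∀ b ∈ P, a ≠ b → com a b = true → ∀ v < 256, app (cmp a b) v = v →
    ∃ i ∈ moved a, ∃ j ∈ moved b, i ^^^ j = v
  sing : ∀ v < 256, v ≠ 0 → qv l v = false → ∃ p ∈ P, v ∈ moved p
  fixT : ∀ p ∈ P, ∀ q ∈ P, ∀ v ∈ moved q, v ≠ 0 → app p v = v → com p q = true
  shape : ∀ c ∈ cs, c ∈ P ∨ (∃ a ∈ P, ∃ b ∈ P, a ≠ b ∧ com a b = true ∧ cmp a b = c) ∨
    (W ∧ ∀ g ∈ gens, ∃ w, evalW (c :: P) w = g)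

theorem shapes_of_ok {gens : List ℕ} {l : ℕ} {P : List (ℕ × List ℕ)}
    {cs : List (ℕ × List (List ℕ))} (hT : ∀ p ∈ P, ∀ v < 256, app p.1 v ^^^ v ∈ p.2)
    (h : involOK gens l P cs = true) :
    Shapes gens l (P.map (·.1)) (cs.map (·.1)) (∃ p ∈ cs, p.2.length = gens.length) := by
  simp only [involOK, shapeOK, Bool.and_eq_true, List.all_eq_true, List.any_eq_true, Nat.beq_eq,
    mem_iff, Bool.or_eq_true, Bool.not_eq_true', List.mem_range] at h
  obtain ⟨⟨⟨⟨hpair, hsing⟩, hfix⟩, hsub⟩, hcls⟩ := h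
  have hbeq : ∀ {x y : ℕ}, Nat.beq x y = false → x ≠ y := fun h e => by
    rw [Nat.beq_eq.mpr e] at h
    simp at h
  have hsub' : ∀ p ∈ P, ∀ v ∈ p.2, v ∈ moved p.1 := fun p hp v hv => by
    obtain ⟨w, hw, e⟩ := hsub p hp v hv
    exact List.mem_map.2 ⟨w, List.mem_range.2 hw, e⟩
  refine ⟨fun a ha b hb hne hab => ?_, fun a ha b hb hne hab v hv hfv => ?_, fun v hv h0 hq => ?_,
    fun p hp q hq v hv h0 hfv => ?_, fun c hc => ?_⟩
  · obtain ⟨a, ha', rfl⟩ := List.mem_map.1 ha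
    obtain ⟨b, hb', rfl⟩ := List.mem_map.1 hb
    rcases hpair a ha' b hb' with (e | e) | ⟨e, -⟩
    · exact absurd e hne
    · rw [hab] at e; simp at e
    · intro hm
      obtain ⟨q, hq, e'⟩ := List.mem_map.1 hm
      exact hbeq (e q hq) e'.symm
  · obtain ⟨a, ha', rfl⟩ := List.mem_map.1 ha
    obtain ⟨b, hb', rfl⟩ := List.mem_map.1 hb
    rcases hpair a ha' b hb' with (e | e) | ⟨-, e⟩
    · exact absurd e hne
    · rw [hab] at e; simp at e
    · rcases e v hv with e | ⟨i, hi, j, hj, e⟩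
      · exact absurd hfv (hbeq e)
      · exact ⟨i, hsub' a ha' i hi, j, hsub' b hb' j hj, e⟩
  · rcases hsing v hv with (e | e) | ⟨p, hp, e⟩
    · exact absurd e h0
    · rw [hq] at e; simp at e
    · exact ⟨p.1, List.mem_map.2 ⟨p, hp, rfl⟩, hsub' p hp v e⟩
  · obtain ⟨p, hp', rfl⟩ := List.mem_map.1 hp
    obtain ⟨q, hq', rfl⟩ := List.mem_map.1 hq
    obtain ⟨w, hw, rfl⟩ := List.mem_map.1 hv
    rcases hfix p hp' q hq' with e | e
    · exact e
    · rcases e _ (hT q hq' w (List.mem_range.1 hw)) with e | e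
      · exact absurd e h0
      · exact absurd hfv (hbeq e)
  · obtain ⟨⟨c, ws⟩, hc', rfl⟩ := List.mem_map.1 hc
    rcases hcls _ hc' with (e | ⟨a, ha, b, hb, ⟨e1, e2⟩, e3⟩) | ⟨e1, e2⟩
    · exact Or.inl e
    · exact Or.inr (Or.inl ⟨a, ha, b, hb, hbeq e1, e2, e3⟩)
    · refine Or.inr (Or.inr ⟨⟨_, hc', e1⟩, fun g hg => ?_⟩)
      obtain ⟨i, hi, rfl⟩ := List.getElem_of_mem hg
      have hi' : i < (gens.zip ws).length := by simp only at e1; simp [e1, hi]
      have := e2 _ (List.getElem_mem hi')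
      simp only [List.getElem_zip] at this
      exact ⟨_, this⟩

end Cfsg.Agent.U62Rec
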