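import Cfsg.Agent.U62Rec.Setup
import Cfsg.Agent.U62Rec.Points.NatI
import Cfsg.Agent.U62Rec.Red.RedIP
import Cfsg.Agent.U62Rec.Red.RedIM

/-!
# Centraliser `2^{1+8}.PSp₄(3)`
-/

set_option autoImplicit false

open Cfsg Subgroup

namespace Cfsg.Agent.U62Rec

open Cfsg.Agent.LargeExtra

theorem inner_lists : innerCfgs =
    [(NatI.gens, NatI.lin), (RedIP.gens, RedIP.lin), (RedIM.gens, RedIM.lin)] := by decide +kernel

theorem natI_W : ¬∃ p ∈ NatI.shapes, p.2.length = NatI.gens.length := by decide +kernel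

variable {G : Type*} [Group G] [Finite G] {z : G}

/-- `G ≅ U₆(2)` or `G = H·O(G)`. -/
theorem recognise_inner (S : Setting z) (hc : Nat.card ↥(oc z) = 512)
    (e : (↥(centralizer ({z} : Set G)) ⧸ pCore 2 ↥(centralizer ({z} : Set G))) ≃*
      Cfsg.PSp 2 (ZMod 3))
    {K : Type*} [Field K] [Fintype K] (hK : Fintype.card K = 4) :
    Nonempty (G ≃* Cfsg.PSU 6 K 2) ∨ centralizer ({z} : Set G) ⊔ Cfsg.oddCore G = ⊤ := by
  obtain ⟨c, hcm, ⟨M⟩⟩ := mod_of_inner S hc e
  rw [inner_lists] at hcm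
  simp only [List.mem_cons, List.not_mem_nil, or_false] at hcm
  have hN : Nat.card ↥(centralizer ({z} : Set G)) = 512 * 25920 := by
    rw [card_centralizer_eq hc e, card_psp_three]
  rcases hcm with rfl | rfl | rfl
  · rcases NatI.main M (by omega) (fun h => absurd h natI_W) hK with
      h | ⟨G₀, -, ⟨i⟩, hidx, -⟩
    · exact Or.inr h
    · left
      rw [hN] at hidx
      have htop : G₀ = ⊤ := index_eq_one.1 (by omega)
      subst htop
      exact ⟨topEquiv.symm.trans i⟩
  · exact Or.inr (RedIP.main M)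
  · exact Or.inr (RedIM.main M)

end Cfsg.Agent.U62Rec
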