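import Mathlib

/-!
# Linear maps of an eight-dimensional space over two elements, as numbers

A vector is a number below `256`, addition is `^^^`; a map is the number whose eight bytes are the
images of the unit vectors.
-/

set_option autoImplicit false

namespace Cfsg.Agent.U62Rec

/-- The byte at position `k`. -/
def byte (m k : ℕ) : ℕ := Nat.land (Nat.shiftRight m (Nat.mul 8 k)) 255

/-- `b` if the bit `k` of `v` is set, and zero otherwise. -/
def sel (v k b : ℕ) : ℕ := Nat.mul (Nat.land (Nat.shiftRight v k) 1) b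

/-- The image of a vector. -/
def app (m v : ℕ) : ℕ :=
  sel v 0 (byte m 0) ^^^ sel v 1 (byte m 1) ^^^ sel v 2 (byte m 2) ^^^ sel v 3 (byte m 3) ^^^
    sel v 4 (byte m 4) ^^^ sel v 5 (byte m 5) ^^^ sel v 6 (byte m 6) ^^^ sel v 7 (byte m 7)

/-- The number with the given bytes. -/
def pack (b0 b1 b2 b3 b4 b5 b6 b7 : ℕ) : ℕ :=
  b0 + 256 * (b1 + 256 * (b2 + 256 * (b3 + 256 * (b4 + 256 * (b5 + 256 * (b6 + 256 * b7))))))

/-- Bit `k` of every byte of `n`, times `b`. -/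
def spread (n k b : ℕ) : ℕ := Nat.mul (Nat.land (Nat.shiftRight n k) 0x0101010101010101) b

/-- The composite map: first `n`, then `m`. -/
def cmp (m n : ℕ) : ℕ :=
  spread n 0 (byte m 0) ^^^ spread n 1 (byte m 1) ^^^ spread n 2 (byte m 2) ^^^ spread n 3 (byte m 3) ^^^
    spread n 4 (byte m 4) ^^^ spread n 5 (byte m 5) ^^^ spread n 6 (byte m 6) ^^^ spread n 7 (byte m 7)

/-- The identity. -/
def idm : ℕ := pack 1 2 4 8 16 32 64 128

theorem byte_def (m k : ℕ) : byte m k = m / 2 ^ (8 * k) % 256 := by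
  show (m >>> (8 * k)) &&& 255 = _
  rw [Nat.shiftRight_eq_div_pow]
  exact Nat.and_two_pow_sub_one_eq_mod _ 8

theorem byte_lt (m k : ℕ) : byte m k < 256 := by rw [byte_def]; exact Nat.mod_lt _ (by norm_num)

theorem sel_def (v k b : ℕ) : sel v k b = if v.testBit k then b else 0 := by
  show ((v >>> k) &&& 1) * b = _
  rw [Nat.and_one_is_mod, Nat.testBit_eq_decide_div_mod_eq, Nat.shiftRight_eq_div_pow]
  rcases Nat.mod_two_eq_zero_or_one (v / 2 ^ k) with e | e <;> simp [e]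

theorem sel_lt {v k b : ℕ} (hb : b < 256) : sel v k b < 256 := by
  rw [sel_def]; cases v.testBit k <;> simp [hb]

theorem app_lt (m v : ℕ) : app m v < 256 := by
  have h : ∀ {a b : ℕ}, a < 256 → b < 256 → a ^^^ b < 256 := fun ha hb =>
    Nat.xor_lt_two_pow (n := 8) ha hb
  exact h (h (h (h (h (h (h (sel_lt (byte_lt _ _)) (sel_lt (byte_lt _ _))) (sel_lt (byte_lt _ _)))
    (sel_lt (byte_lt _ _))) (sel_lt (byte_lt _ _))) (sel_lt (byte_lt _ _))) (sel_lt (byte_lt _ _)))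
    (sel_lt (byte_lt _ _))

theorem sel_xor (a b k c : ℕ) : sel (a ^^^ b) k c = sel a k c ^^^ sel b k c := by
  simp only [sel_def, Nat.testBit_xor]
  cases a.testBit k <;> cases b.testBit k <;> simp

theorem sel_arg_xor (v k a b : ℕ) : sel v k (a ^^^ b) = sel v k a ^^^ sel v k b := by
  simp only [sel_def]
  cases v.testBit k <;> simp

theorem app_xor (m a b : ℕ) : app m (a ^^^ b) = app m a ^^^ app m b := by
  simp only [app, sel_xor]
  ac_rfl

theorem app_zero (m : ℕ) : app m 0 = 0 := by simp [app, sel_def]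

theorem app_sel (m v k b : ℕ) : app m (sel v k b) = sel v k (app m b) := by
  simp only [sel_def]
  cases v.testBit k <;> simp [app_zero]

theorem byte_pack {b0 b1 b2 b3 b4 b5 b6 b7 : ℕ} (h0 : b0 < 256) (h1 : b1 < 256) (h2 : b2 < 256)
    (h3 : b3 < 256) (h4 : b4 < 256) (h5 : b5 < 256) (h6 : b6 < 256) (h7 : b7 < 256) :
    byte (pack b0 b1 b2 b3 b4 b5 b6 b7) 0 = b0 ∧ byte (pack b0 b1 b2 b3 b4 b5 b6 b7) 1 = b1 ∧
    byte (pack b0 b1 b2 b3 b4 b5 b6 b7) 2 = b2 ∧ byte (pack b0 b1 b2 b3 b4 b5 b6 b7) 3 = b3 ∧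
    byte (pack b0 b1 b2 b3 b4 b5 b6 b7) 4 = b4 ∧ byte (pack b0 b1 b2 b3 b4 b5 b6 b7) 5 = b5 ∧
    byte (pack b0 b1 b2 b3 b4 b5 b6 b7) 6 = b6 ∧ byte (pack b0 b1 b2 b3 b4 b5 b6 b7) 7 = b7 := by
  simp only [byte_def, pack]
  refine ⟨?_, ?_, ?_, ?_, ?_, ?_, ?_, ?_⟩ <;> omega

theorem and_step (x r : ℕ) : x &&& (1 + 256 * r) = x % 2 + 256 * ((x / 256) &&& r) := by
  have h1 : (x &&& (1 + 256 * r)) % 2 ^ 8 = x % 2 := by
    rw [Nat.and_mod_two_pow, show (1 + 256 * r) % 2 ^ 8 = 1 by omega, Nat.and_one_is_mod]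
    omega
  have h2 : (x &&& (1 + 256 * r)) / 2 ^ 8 = (x / 256) &&& r := by
    rw [Nat.and_div_two_pow, show (1 + 256 * r) / 2 ^ 8 = r by omega]
  omega

theorem spread_eq (n k b : ℕ) : spread n k b =
    pack (sel (byte (n / 2 ^ k) 0) 0 b) (sel (byte (n / 2 ^ k) 1) 0 b) (sel (byte (n / 2 ^ k) 2) 0 b)
      (sel (byte (n / 2 ^ k) 3) 0 b) (sel (byte (n / 2 ^ k) 4) 0 b) (sel (byte (n / 2 ^ k) 5) 0 b)
      (sel (byte (n / 2 ^ k) 6) 0 b) (sel (byte (n / 2 ^ k) 7) 0 b) := by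
  show ((n >>> k) &&& 0x0101010101010101) * b = _
  rw [Nat.shiftRight_eq_div_pow,
    show (0x0101010101010101 : ℕ) = 1 + 256 * (1 + 256 * (1 + 256 * (1 + 256 * (1 + 256 *
      (1 + 256 * (1 + 256 * (1 + 256 * 0))))))) by norm_num]
  simp only [and_step, Nat.and_zero, Nat.div_div_eq_div_mul]
  have hs : ∀ x, sel x 0 b = x % 2 * b := fun x => by
    show ((x >>> 0) &&& 1) * b = _
    rw [Nat.shiftRight_zero, Nat.and_one_is_mod]
  simp only [hs, byte_def, pack]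
  norm_num [Nat.mod_mod_of_dvd, show (2 : ℕ) ∣ 256 by norm_num]
  simp only [Nat.div_div_eq_div_mul]
  ring_nf

theorem sel_byte (n j k b : ℕ) (hk : k < 8) : sel (byte (n / 2 ^ k) j) 0 b = sel (byte n j) k b := by
  simp only [sel_def]
  congr 1
  rw [byte_def, byte_def, show (256 : ℕ) = 2 ^ 8 by norm_num, Nat.testBit_mod_two_pow,
    Nat.testBit_mod_two_pow, Nat.testBit_div_two_pow, Nat.testBit_div_two_pow,
    Nat.testBit_div_two_pow]
  simp [hk, Nat.add_comm]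

theorem byte_xor (a b k : ℕ) : byte (a ^^^ b) k = byte a k ^^^ byte b k := by
  show ((a ^^^ b) >>> (8 * k)) &&& 255 = (a >>> (8 * k) &&& 255) ^^^ (b >>> (8 * k) &&& 255)
  rw [Nat.shiftRight_xor_distrib, Nat.and_xor_distrib_right]

theorem byte_spread (n k b : ℕ) (hk : k < 8) (hb : b < 256) :
    byte (spread n k b) 0 = sel (byte n 0) k b ∧ byte (spread n k b) 1 = sel (byte n 1) k b ∧
    byte (spread n k b) 2 = sel (byte n 2) k b ∧ byte (spread n k b) 3 = sel (byte n 3) k b ∧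
    byte (spread n k b) 4 = sel (byte n 4) k b ∧ byte (spread n k b) 5 = sel (byte n 5) k b ∧
    byte (spread n k b) 6 = sel (byte n 6) k b ∧ byte (spread n k b) 7 = sel (byte n 7) k b := by
  simp only [spread_eq, sel_byte _ _ _ _ hk]
  exact byte_pack (sel_lt hb) (sel_lt hb) (sel_lt hb) (sel_lt hb) (sel_lt hb) (sel_lt hb) (sel_lt hb)
    (sel_lt hb)

theorem byte_cmp (m n : ℕ) :
    byte (cmp m n) 0 = app m (byte n 0) ∧ byte (cmp m n) 1 = app m (byte n 1) ∧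
    byte (cmp m n) 2 = app m (byte n 2) ∧ byte (cmp m n) 3 = app m (byte n 3) ∧
    byte (cmp m n) 4 = app m (byte n 4) ∧ byte (cmp m n) 5 = app m (byte n 5) ∧
    byte (cmp m n) 6 = app m (byte n 6) ∧ byte (cmp m n) 7 = app m (byte n 7) := by
  have h0 := byte_spread n 0 (byte m 0) (by norm_num) (byte_lt _ _)
  have h1 := byte_spread n 1 (byte m 1) (by norm_num) (byte_lt _ _)
  have h2 := byte_spread n 2 (byte m 2) (by norm_num) (byte_lt _ _)
  have h3 := byte_spread n 3 (byte m 3) (by norm_num) (byte_lt _ _)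
  have h4 := byte_spread n 4 (byte m 4) (by norm_num) (byte_lt _ _)
  have h5 := byte_spread n 5 (byte m 5) (by norm_num) (byte_lt _ _)
  have h6 := byte_spread n 6 (byte m 6) (by norm_num) (byte_lt _ _)
  have h7 := byte_spread n 7 (byte m 7) (by norm_num) (byte_lt _ _)
  simp only [cmp, app, byte_xor, h0, h1, h2, h3, h4, h5, h6, h7, and_self]

theorem app_cmp (m n v : ℕ) : app (cmp m n) v = app m (app n v) := by
  obtain ⟨h0, h1, h2, h3, h4, h5, h6, h7⟩ := byte_cmp m n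
  conv_rhs => arg 2; rw [app]
  simp only [app_xor, app_sel]
  rw [app, h0, h1, h2, h3, h4, h5, h6, h7]

/-- A code of a map: below `2 ^ 64`. -/
def IsCode (m : ℕ) : Prop := m < 2 ^ 64

theorem isCode_pack {b0 b1 b2 b3 b4 b5 b6 b7 : ℕ} (h0 : b0 < 256) (h1 : b1 < 256) (h2 : b2 < 256)
    (h3 : b3 < 256) (h4 : b4 < 256) (h5 : b5 < 256) (h6 : b6 < 256) (h7 : b7 < 256) :
    IsCode (pack b0 b1 b2 b3 b4 b5 b6 b7) := by
  simp only [IsCode, pack]; omega

theorem isCode_cmp (m n : ℕ) : IsCode (cmp m n) := by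
  have hs : ∀ k b, k < 8 → b < 256 → spread n k b < 2 ^ 64 := fun k b hk hb => by
    rw [spread_eq]
    exact isCode_pack (sel_lt hb) (sel_lt hb) (sel_lt hb) (sel_lt hb) (sel_lt hb) (sel_lt hb)
      (sel_lt hb) (sel_lt hb)
  have h : ∀ {a b : ℕ}, a < 2 ^ 64 → b < 2 ^ 64 → a ^^^ b < 2 ^ 64 := fun ha hb =>
    Nat.xor_lt_two_pow (n := 64) ha hb
  exact h (h (h (h (h (h (h (hs 0 _ (by norm_num) (byte_lt _ _)) (hs 1 _ (by norm_num) (byte_lt _ _)))
    (hs 2 _ (by norm_num) (byte_lt _ _))) (hs 3 _ (by norm_num) (byte_lt _ _)))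
    (hs 4 _ (by norm_num) (byte_lt _ _))) (hs 5 _ (by norm_num) (byte_lt _ _)))
    (hs 6 _ (by norm_num) (byte_lt _ _))) (hs 7 _ (by norm_num) (byte_lt _ _))

theorem pack_byte {m : ℕ} (hm : IsCode m) :
    pack (byte m 0) (byte m 1) (byte m 2) (byte m 3) (byte m 4) (byte m 5) (byte m 6) (byte m 7) = m := by
  simp only [IsCode] at hm
  simp only [byte_def, pack]
  omega

theorem app_unit (m : ℕ) : app m 1 = byte m 0 ∧ app m 2 = byte m 1 ∧ app m 4 = byte m 2 ∧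
    app m 8 = byte m 3 ∧ app m 16 = byte m 4 ∧ app m 32 = byte m 5 ∧ app m 64 = byte m 6 ∧
    app m 128 = byte m 7 := by
  refine ⟨?_, ?_, ?_, ?_, ?_, ?_, ?_, ?_⟩ <;> simp [app, sel_def, Nat.testBit_eq_decide_div_mod_eq]

/-- Two maps agreeing everywhere are equal. -/
theorem code_ext {m n : ℕ} (hm : IsCode m) (hn : IsCode n)
    (h : ∀ v < 256, app m v = app n v) : m = n := by
  obtain ⟨a0, a1, a2, a3, a4, a5, a6, a7⟩ := app_unit m
  obtain ⟨b0, b1, b2, b3, b4, b5, b6, b7⟩ := app_unit n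
  rw [← pack_byte hm, ← pack_byte hn, ← a0, ← a1, ← a2, ← a3, ← a4, ← a5, ← a6, ← a7,
    h 1 (by norm_num), h 2 (by norm_num), h 4 (by norm_num), h 8 (by norm_num), h 16 (by norm_num),
    h 32 (by norm_num), h 64 (by norm_num), h 128 (by norm_num), b0, b1, b2, b3, b4, b5, b6, b7]

theorem cmp_assoc (a b c : ℕ) : cmp (cmp a b) c = cmp a (cmp b c) :=
  code_ext (isCode_cmp _ _) (isCode_cmp _ _) fun v _ => by simp only [app_cmp]

theorem sel_all : ∀ v < 256, sel v 0 1 ^^^ sel v 1 2 ^^^ sel v 2 4 ^^^ sel v 3 8 ^^^ sel v 4 16 ^^^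
    sel v 5 32 ^^^ sel v 6 64 ^^^ sel v 7 128 = v := by
  decide +kernel

theorem app_idm {v : ℕ} (hv : v < 256) : app idm v = v := by
  obtain ⟨h0, h1, h2, h3, h4, h5, h6, h7⟩ := byte_pack (b0 := 1) (b1 := 2) (b2 := 4) (b3 := 8)
    (b4 := 16) (b5 := 32) (b6 := 64) (b7 := 128) (by norm_num) (by norm_num) (by norm_num)
    (by norm_num) (by norm_num) (by norm_num) (by norm_num) (by norm_num)
  rw [app, idm, h0, h1, h2, h3, h4, h5, h6, h7]
  exact sel_all v hv

theorem isCode_idm : IsCode idm := by norm_num [IsCode, idm, pack]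

theorem idm_cmp {m : ℕ} (hm : IsCode m) : cmp idm m = m :=
  code_ext (isCode_cmp _ _) hm fun v _ => by rw [app_cmp, app_idm (app_lt _ _)]

theorem cmp_idm {m : ℕ} (hm : IsCode m) : cmp m idm = m :=
  code_ext (isCode_cmp _ _) hm fun v hv => by rw [app_cmp, app_idm hv]

end Cfsg.Agent.U62Rec
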