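import Cfsg.Agent.LargeExtra.Singular
import Cfsg.Agent.LargeExtra.SingularSubgroup
import Cfsg.Agent.U62Rec.Code

/-!
# Coordinates for `O₂(C(z))` modulo `⟨z⟩` and the action of `C(z)`

`bar` gives a vector, `rho` a map; all configurations share the alternating form `fv` and differ in
the generators and in the linear part of the quadratic form.
-/

set_option autoImplicit false

open Cfsg Subgroup

namespace Cfsg.Agent.U62Rec

open Cfsg.Agent.LargeExtra

/-- The parity of the low eight bits. -/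
def par (x : ℕ) : ℕ :=
  let y := Nat.xor x (Nat.shiftRight x 4)
  let w := Nat.xor y (Nat.shiftRight y 2)
  Nat.land (Nat.xor w (Nat.shiftRight w 1)) 1

/-- The alternating form: the pairs of bits `(0,1), (2,3), (4,5), (6,7)`. -/
def fv (a b : ℕ) : Bool :=
  Nat.beq (par (Nat.land a
    (Nat.xor (Nat.mul (Nat.land b 85) 2) (Nat.land (Nat.shiftRight b 1) 85)))) 1

/-- The linear functional with coefficients `l`. -/
def lv (l v : ℕ) : Bool := Nat.beq (par (Nat.land (Nat.land l 255) v)) 1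

/-- The quadratic form with linear part `l`. -/
def qv (l v : ℕ) : Bool :=
  Nat.beq (par (Nat.land (Nat.land v (Nat.shiftRight v 1)) 85)) 1 ^^ lv l v

theorem par_lt (x : ℕ) : par x < 2 := by
  show _ &&& 1 < 2
  rw [Nat.and_one_is_mod]
  omega

theorem par_xor (x y : ℕ) : par (x ^^^ y) = par x ^^^ par y := by
  have e : ∀ t, par t = ((t ^^^ (t >>> 4)) ^^^ ((t ^^^ (t >>> 4)) >>> 2) ^^^
      (((t ^^^ (t >>> 4)) ^^^ ((t ^^^ (t >>> 4)) >>> 2)) >>> 1)) &&& 1 := fun t => rfl
  simp only [e, Nat.shiftRight_xor_distrib, Nat.and_xor_distrib_right]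
  ac_rfl

theorem parB_xor (x y : ℕ) :
    Nat.beq (par (x ^^^ y)) 1 = (Nat.beq (par x) 1 ^^ Nat.beq (par y) 1) := by
  have key : ∀ u < 2, ∀ v < 2, Nat.beq (u ^^^ v) 1 = (Nat.beq u 1 ^^ Nat.beq v 1) := by decide
  rw [par_xor]
  exact key _ (par_lt x) _ (par_lt y)

theorem lv_xor (l a b : ℕ) : lv l (a ^^^ b) = (lv l a ^^ lv l b) := by
  show Nat.beq (par ((l &&& 255) &&& (a ^^^ b))) 1 = _
  rw [Nat.and_xor_distrib_left, parB_xor]
  rfl

theorem fv_xor (a b c : ℕ) : fv (a ^^^ b) c = (fv a c ^^ fv b c) := by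
  show Nat.beq (par ((a ^^^ b) &&& _)) 1 = _
  rw [Nat.and_xor_distrib_right, parB_xor]
  rfl

theorem and_mask (a : ℕ) {x : ℕ} (hx : x < 256) : a &&& x = a % 256 &&& x := by
  conv_lhs => rw [← Nat.mod_eq_of_lt (lt_of_le_of_lt (Nat.and_le_right (n := a) (m := x)) hx),
    show (256 : ℕ) = 2 ^ 8 by norm_num, Nat.and_mod_two_pow, Nat.mod_eq_of_lt (show x < 2 ^ 8 from hx)]

theorem shift_mask (a : ℕ) : (a >>> 1) &&& 85 = ((a % 256) >>> 1) &&& 85 := by
  apply Nat.eq_of_testBit_eq
  intro i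
  simp only [Nat.testBit_and, Nat.testBit_shiftRight,
    show (256 : ℕ) = 2 ^ 8 by norm_num, Nat.testBit_mod_two_pow]
  by_cases hi : 1 + i < 8
  · simp [hi]
  · have : Nat.testBit 85 i = false := Nat.testBit_eq_false_of_lt
      (lt_of_lt_of_le (show 85 < 2 ^ 7 by norm_num) (Nat.pow_le_pow_right (by norm_num) (by omega)))
    simp [this]

theorem fv_mod (a b : ℕ) : fv a b = fv (a % 256) (b % 256) := by
  show Nat.beq (par (a &&& (((b &&& 85) * 2) ^^^ ((b >>> 1) &&& 85)))) 1 =
    Nat.beq (par (a % 256 &&& (((b % 256 &&& 85) * 2) ^^^ ((b % 256) >>> 1 &&& 85)))) 1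
  rw [← shift_mask, ← and_mask b (by norm_num : (85 : ℕ) < 256), ← and_mask a]
  exact Nat.xor_lt_two_pow (n := 8)
    (by have := Nat.and_le_right (n := b) (m := 85); omega)
    (by have := Nat.and_le_right (n := b >>> 1) (m := 85); omega)

theorem fv_table : ∀ a < 256, ∀ b < 256, fv a b = fv b a ∧ fv a a = false := by decide +kernel

theorem fv_comm (a b : ℕ) : fv a b = fv b a := by
  rw [fv_mod, fv_mod b a]
  exact (fv_table _ (Nat.mod_lt _ (by norm_num)) _ (Nat.mod_lt _ (by norm_num))).1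

theorem fv_xor' (a b c : ℕ) : fv a (b ^^^ c) = (fv a b ^^ fv a c) := by
  rw [fv_comm, fv_xor, fv_comm b, fv_comm c]

theorem fv_self (a : ℕ) : fv a a = false := by
  rw [fv_mod]
  exact (fv_table (a % 256) (Nat.mod_lt _ (by norm_num)) (a % 256) (Nat.mod_lt _ (by norm_num))).2

theorem fv_zero (a : ℕ) : fv a 0 = false := by
  show Nat.beq (par (a &&& 0)) 1 = false
  rw [Nat.and_zero]; rfl

theorem qv_zero (l : ℕ) : qv l 0 = false := by simp [qv, lv, par, Nat.land, Nat.xor, Nat.shiftRight]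

theorem qv_table : ∀ a < 256, ∀ b < 256, Nat.beq (par ((a ^^^ b) &&& ((a ^^^ b) >>> 1) &&& 85)) 1 =
    (Nat.beq (par (a &&& (a >>> 1) &&& 85)) 1 ^^ Nat.beq (par (b &&& (b >>> 1) &&& 85)) 1 ^^ fv a b) := by
  decide +kernel

theorem qq_mod (a : ℕ) : a &&& (a >>> 1) &&& 85 = a % 256 &&& ((a % 256) >>> 1) &&& 85 := by
  rw [Nat.and_assoc, Nat.and_assoc, ← shift_mask]
  exact and_mask a (by have := Nat.and_le_right (n := a >>> 1) (m := 85); omega)

theorem qv_xor (l a b : ℕ) : qv l (a ^^^ b) = (qv l a ^^ qv l b ^^ fv a b) := by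
  have hd : (a ^^^ b) % 256 = a % 256 ^^^ b % 256 := Nat.xor_mod_two_pow (n := 8)
  show (Nat.beq (par ((a ^^^ b) &&& ((a ^^^ b) >>> 1) &&& 85)) 1 ^^ lv l (a ^^^ b)) =
    ((Nat.beq (par (a &&& (a >>> 1) &&& 85)) 1 ^^ lv l a) ^^
      (Nat.beq (par (b &&& (b >>> 1) &&& 85)) 1 ^^ lv l b) ^^ fv a b)
  rw [qq_mod, hd, qv_table _ (Nat.mod_lt _ (by norm_num)) _ (Nat.mod_lt _ (by norm_num)), lv_xor,
    ← fv_mod, ← qq_mod, ← qq_mod]
  have : Std.Commutative (α := Bool) Bool.xor := ⟨Bool.xor_comm⟩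
  ac_rfl

theorem fv_nondeg : ∀ a < 256, a ≠ 0 → ∃ w ∈ [1, 2, 4, 8, 16, 32, 64, 128], fv a w = true := by
  decide +kernel

/-- Nondegeneracy, refined: what is orthogonal to the hyperplane of `v` is in `⟨v⟩`. -/
theorem perp_perp {a v : ℕ} (ha : a < 256) (hv : v < 256) (h0 : v ≠ 0)
    (h : ∀ w < 256, fv w v = false → fv w a = false) : a = 0 ∨ a = v := by
  by_contra hc
  push Not at hc
  have hav : a ^^^ v ≠ 0 := fun e => hc.2 (Nat.xor_eq_zero_iff.1 e)
  have hav' : a ^^^ v < 256 := Nat.xor_lt_two_pow (n := 8) ha hv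
  obtain ⟨w1, hw1, h1⟩ := fv_nondeg a ha hc.1
  obtain ⟨w2, hw2, h2⟩ := fv_nondeg _ hav' hav
  have hlt : ∀ w ∈ [1, 2, 4, 8, 16, 32, 64, 128], w < 256 := by decide
  have l1 := hlt _ hw1
  have l2 := hlt _ hw2
  rw [fv_xor] at h2
  have key : ∀ w < 256, fv w v = false → fv a w = false := fun w hw hwv => by
    rw [fv_comm]; exact h w hw hwv
  cases e1 : fv w1 v with
  | false => exact absurd (key _ l1 e1) (by simp [h1])
  | true =>
    cases e2 : fv w2 v with
    | false => exact absurd (key _ l2 e2) (by rw [fv_comm v] at h2; simp [e2] at h2; simp [h2])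
    | true =>
      have h3 := key (w1 ^^^ w2) (Nat.xor_lt_two_pow (n := 8) l1 l2) (by rw [fv_xor, e1, e2]; rfl)
      rw [fv_xor', h1] at h3
      rw [fv_comm v, e2] at h2
      simp at h2 h3
      simp [h2] at h3

theorem perp_card : ∀ v < 256, v ≠ 0 →
    ((List.range 256).filter fun w => !fv w v).length = 128 := by
  decide +kernel

/-- The maps generated by a list of generators. -/
inductive Gen (gens : List ℕ) : ℕ → Prop
  | one : Gen gens idm
  | step {g m : ℕ} : g ∈ gens → Gen gens m → Gen gens (cmp g m)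

theorem Gen.isCode {gens : List ℕ} {m : ℕ} (h : Gen gens m) : IsCode m := by
  cases h with
  | one => exact isCode_idm
  | step _ _ => exact isCode_cmp _ _

theorem Gen.mul {gens : List ℕ} {m n : ℕ} (hm : Gen gens m) (hn : Gen gens n) :
    Gen gens (cmp m n) := by
  induction hm with
  | one => rwa [idm_cmp hn.isCode]
  | step hg _ ih => rw [cmp_assoc]; exact Gen.step hg ih

theorem Gen.of_mem {gens : List ℕ} (hc : ∀ g ∈ gens, IsCode g) {g : ℕ} (hg : g ∈ gens) :
    Gen gens g := by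
  have h := Gen.step hg (Gen.one (gens := gens))
  rwa [cmp_idm (hc g hg)] at h

/-- A configuration: generators of the group of maps and the linear part of the form. -/
structure Cfg where
  gens : List ℕ
  l : ℕ

variable {G : Type*} [Group G]

/-- Coordinates for `oc z` modulo `⟨z⟩`. -/
structure Mod (C : Cfg) (z : G) where
  set : Setting z
  bar : G → ℕ
  rho : G → ℕ
  bar_lt : ∀ a, bar a < 256
  bar_mul : ∀ a ∈ oc z, ∀ b ∈ oc z, bar (a * b) = bar a ^^^ bar b
  bar_z : bar z = 0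
  bar_eq : ∀ a ∈ oc z, bar a = 0 → a = 1 ∨ a = z
  bar_surj : ∀ v < 256, ∃ a ∈ oc z, bar a = v
  sq : ∀ a ∈ oc z, a * a = if qv C.l (bar a) then z else 1
  rho_code : ∀ h, IsCode (rho h)
  rho_mul : ∀ g ∈ centralizer ({z} : Set G), ∀ h ∈ centralizer ({z} : Set G),
    rho (g * h) = cmp (rho g) (rho h)
  rho_act : ∀ h ∈ centralizer ({z} : Set G), ∀ a ∈ oc z,
    bar (h * a * h⁻¹) = app (rho h) (bar a)
  rho_ker : ∀ h ∈ centralizer ({z} : Set G), (rho h = idm ↔ h ∈ oc z)
  rho_gen : ∀ h ∈ centralizer ({z} : Set G), Gen C.gens (rho h)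
  rho_surj : ∀ g ∈ C.gens, ∃ h ∈ centralizer ({z} : Set G), rho h = g

namespace Mod

variable [Finite G] {C : Cfg} {z : G} (M : Mod C z)
include M

theorem z_mem : z ∈ oc z := mem_oc_self M.set.ord

theorem zz : z * z = 1 := M.set.sq_one

theorem z_ne : z ≠ 1 := M.set.ne_one

theorem zi : z⁻¹ = z := inv_eq_of_mul_eq_one_right M.zz

theorem hz : z ∈ centralizer ({z} : Set G) := oc_le z M.z_mem

theorem commz {h : G} (hh : h ∈ centralizer ({z} : Set G)) : Commute h z :=
  mem_centralizer_singleton_iff.1 hh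

theorem bar_one : M.bar 1 = 0 := by
  have h := M.bar_mul 1 (one_mem _) 1 (one_mem _)
  rw [mul_one, Nat.xor_self] at h
  exact h

theorem bar_inv {a : G} (ha : a ∈ oc z) : M.bar a⁻¹ = M.bar a := by
  have h := M.bar_mul a⁻¹ (inv_mem ha) a ha
  rw [inv_mul_cancel, M.bar_one] at h
  exact Nat.xor_eq_zero_iff.1 h.symm

theorem bar_mul_z {a : G} (ha : a ∈ oc z) : M.bar (a * z) = M.bar a := by
  rw [M.bar_mul a ha z M.z_mem, M.bar_z, Nat.xor_zero]

theorem bar_eq_iff {a b : G} (ha : a ∈ oc z) (hb : b ∈ oc z) :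
    M.bar a = M.bar b ↔ (b = a ∨ b = a * z) := by
  constructor
  · intro h
    have h0 : M.bar (a⁻¹ * b) = 0 := by
      rw [M.bar_mul _ (inv_mem ha) _ hb, M.bar_inv ha, h, Nat.xor_self]
    rcases M.bar_eq _ (mul_mem (inv_mem ha) hb) h0 with e | e
    · exact Or.inl (inv_mul_eq_one.1 e).symm
    · exact Or.inr (inv_mul_eq_iff_eq_mul.1 e)
  · rintro (rfl | rfl)
    · rfl
    · exact (M.bar_mul_z ha).symm

theorem sq_eq {a : G} (ha : a ∈ oc z) : a * a = 1 ↔ qv C.l (M.bar a) = false := by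
  rw [M.sq a ha]
  cases qv C.l (M.bar a) <;> simp [M.z_ne]

/-- The commutator is given by the form. -/
theorem comm {a b : G} (ha : a ∈ oc z) (hb : b ∈ oc z) :
    a * b = b * a * (if fv (M.bar a) (M.bar b) then z else 1) := by
  have h1 := M.sq _ (mul_mem ha hb)
  have h2 := M.sq a ha
  have h3 := M.sq b hb
  rw [M.bar_mul a ha b hb, qv_xor] at h1
  have hca : Commute a z := M.set.comm_z ha
  have hcb : Commute b z := M.set.comm_z hb
  have hz : ∀ {x : G}, Commute x z → ∀ p : Bool, Commute x (if p then z else 1) := by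
    intro x hx p; cases p
    · exact Commute.one_right x
    · exact hx
  set e1 : G := if qv C.l (M.bar a) then z else 1 with he1
  set e2 : G := if qv C.l (M.bar b) then z else 1 with he2
  set e3 : G := if fv (M.bar a) (M.bar b) then z else 1 with he3
  have hsplit : a * b * (a * b) = e1 * e2 * e3 := by
    rw [h1, he1, he2, he3]
    cases qv C.l (M.bar a) <;> cases qv C.l (M.bar b) <;> cases fv (M.bar a) (M.bar b) <;>
      simp [M.zz]
  have h6 : b * a * (a * b) = e1 * e2 := by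
    calc b * a * (a * b) = b * (a * a) * b := by group
      _ = b * e1 * b := by rw [h2]
      _ = e1 * (b * b) := by rw [he1, (hz hcb _).eq, mul_assoc]
      _ = e1 * e2 := by rw [h3]
  have h7 : a * b = (b * a)⁻¹ * (e1 * e2) := by rw [← h6]; group
  have he : Commute (e1 * e2) e3 := by
    rw [he1, he2, he3]
    exact (hz ((hz (Commute.refl z) _).symm) _).mul_left (hz ((hz (Commute.refl z) _).symm) _)
  have h8 : a * b * (b * a)⁻¹ = e3 := by
    have h9 : a * b * (b * a)⁻¹ * (e1 * e2) = e3 * (e1 * e2) := by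
      rw [mul_assoc, ← h7, hsplit, he.eq]
    exact mul_right_cancel h9
  have c3 : Commute (b * a) e3 := by
    rw [he3]; exact hz (hcb.mul_left hca) _
  rw [c3.eq, ← h8, inv_mul_cancel_right]

theorem commute_iff {a b : G} (ha : a ∈ oc z) (hb : b ∈ oc z) :
    Commute a b ↔ fv (M.bar a) (M.bar b) = false := by
  rw [Commute, SemiconjBy, M.comm ha hb]
  cases fv (M.bar a) (M.bar b) <;> simp [M.z_ne]

theorem oc_norm {h a : G} (hh : h ∈ centralizer ({z} : Set G)) (ha : a ∈ oc z) :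
    h * a * h⁻¹ ∈ oc z := oc_conj_mem hh ha

theorem rho_one : M.rho 1 = idm := (M.rho_ker 1 (one_mem _)).2 (one_mem _)

theorem rho_cancel {h : G} (hh : h ∈ centralizer ({z} : Set G)) :
    cmp (M.rho h) (M.rho h⁻¹) = idm ∧ cmp (M.rho h⁻¹) (M.rho h) = idm := by
  rw [← M.rho_mul h hh _ (inv_mem hh), ← M.rho_mul _ (inv_mem hh) h hh, mul_inv_cancel,
    inv_mul_cancel]
  exact ⟨M.rho_one, M.rho_one⟩

theorem rho_inj {g h : G} (hg : g ∈ centralizer ({z} : Set G)) (hh : h ∈ centralizer ({z} : Set G)) :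
    M.rho g = M.rho h ↔ g⁻¹ * h ∈ oc z := by
  rw [← M.rho_ker _ (mul_mem (inv_mem hg) hh), M.rho_mul _ (inv_mem hg) h hh]
  constructor
  · intro e; rw [← e]; exact (M.rho_cancel hg).2
  · intro e
    calc M.rho g = cmp (M.rho g) (cmp (M.rho g⁻¹) (M.rho h)) := by rw [e, cmp_idm (M.rho_code g)]
      _ = M.rho h := by rw [← cmp_assoc, (M.rho_cancel hg).1, idm_cmp (M.rho_code h)]

/-- Every generated map is induced. -/
theorem exists_rho {m : ℕ} (hm : Gen C.gens m) : ∃ h ∈ centralizer ({z} : Set G), M.rho h = m := by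
  induction hm with
  | one => exact ⟨1, one_mem _, M.rho_one⟩
  | step hg _ ih =>
    obtain ⟨a, ha, rfl⟩ := M.rho_surj _ hg
    obtain ⟨b, hb, rfl⟩ := ih
    exact ⟨a * b, mul_mem ha hb, M.rho_mul a ha b hb⟩

/-- The maps preserve the form. -/
theorem q_inv {h : G} (hh : h ∈ centralizer ({z} : Set G)) {v : ℕ} (hv : v < 256) :
    qv C.l (app (M.rho h) v) = qv C.l v := by
  obtain ⟨a, ha, rfl⟩ := M.bar_surj v hv
  rw [← M.rho_act h hh a ha]
  have h1 : h * a * h⁻¹ * (h * a * h⁻¹) = 1 ↔ a * a = 1 := by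
    rw [conjm, mul_inv_eq_one]
    exact ⟨fun e => mul_eq_left.1 e, fun e => by rw [e, mul_one]⟩
  rw [M.sq_eq (M.oc_norm hh ha), M.sq_eq ha] at h1
  cases e1 : qv C.l (M.bar (h * a * h⁻¹)) <;> cases e2 : qv C.l (M.bar a) <;> simp_all

/-- The conjugate coordinates. -/
def conj (g : G) : Mod C (g * z * g⁻¹) where
  set :=
    have hoc : oc (g * z * g⁻¹) = (oc z).map (MulAut.conj g).toMonoidHom := by
      refine le_antisymm (fun c hc => ⟨g⁻¹ * c * g,
        by simpa [mul_assoc] using conj_mem_oc (g := g⁻¹) hc, by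
          show g * (g⁻¹ * c * g) * g⁻¹ = c
          group⟩) ?_
      rintro _ ⟨c, hc, rfl⟩
      exact conj_mem_oc hc
    { ord := by
        rw [show g * z * g⁻¹ = (MulAut.conj g).toMonoidHom z from rfl,
          orderOf_injective _ (MulAut.conj g).injective, M.set.ord]
      es := by
        rw [hoc]
        exact extraspecial_congr ((oc z).equivMapOfInjective _ (MulAut.conj g).injective) M.set.es
      cent := by
        intro c hc
        have h1 : g⁻¹ * c * g ∈ centralizer ((oc z : Subgroup G) : Set G) := by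
          rw [mem_centralizer_iff]
          intro a ha
          have h2 := mem_centralizer_iff.1 hc _ (conj_mem_oc (g := g) ha)
          calc a * (g⁻¹ * c * g) = g⁻¹ * (g * a * g⁻¹ * c) * g := by group
            _ = g⁻¹ * c * g * a := by rw [h2]; group
        have h3 := conj_mem_oc (g := g) (M.set.cent h1)
        simpa [mul_assoc] using h3 }
  bar a := M.bar (g⁻¹ * a * g)
  rho h := M.rho (g⁻¹ * h * g)
  bar_lt a := M.bar_lt _
  bar_mul a ha b hb := by
    rw [← M.bar_mul _ (back ha) _ (back hb)]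
    congr 1; group
  bar_z := by rw [show g⁻¹ * (g * z * g⁻¹) * g = z by group]; exact M.bar_z
  bar_eq a ha h := by
    rcases M.bar_eq _ (back ha) h with e | e
    · left; rw [show a = g * (g⁻¹ * a * g) * g⁻¹ by group, e]; group
    · right; rw [show a = g * (g⁻¹ * a * g) * g⁻¹ by group, e]
  bar_surj v hv := by
    obtain ⟨a, ha, rfl⟩ := M.bar_surj v hv
    exact ⟨g * a * g⁻¹, conj_mem_oc ha, by congr 1; group⟩
  sq a ha := by
    rw [show a * a = g * ((g⁻¹ * a * g) * (g⁻¹ * a * g)) * g⁻¹ by group, M.sq _ (back ha)]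
    split_ifs <;> group
  rho_code h := M.rho_code _
  rho_mul a ha b hb := by
    rw [← M.rho_mul _ (backC ha) _ (backC hb)]
    congr 1; group
  rho_act h hh a ha := by
    rw [← M.rho_act _ (backC hh) _ (back ha)]
    congr 1; group
  rho_ker h hh := by
    rw [M.rho_ker _ (backC hh)]
    refine ⟨fun e => ?_, back⟩
    have := conj_mem_oc (g := g) e
    simpa [mul_assoc] using this
  rho_gen h hh := M.rho_gen _ (backC hh)
  rho_surj m hm := by
    obtain ⟨h, hh, rfl⟩ := M.rho_surj m hm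
    refine ⟨g * h * g⁻¹, ?_, by congr 1; group⟩
    rw [mem_centralizer_singleton_iff] at hh ⊢
    rw [conjm, conjm, hh]
where
  back {a : G} (ha : a ∈ oc (g * z * g⁻¹)) : g⁻¹ * a * g ∈ oc z := by
    simpa [mul_assoc] using conj_mem_oc (g := g⁻¹) ha
  backC {a : G} (ha : a ∈ centralizer ({g * z * g⁻¹} : Set G)) :
      g⁻¹ * a * g ∈ centralizer ({z} : Set G) := by
    rw [mem_centralizer_singleton_iff] at ha ⊢
    calc g⁻¹ * a * g * z = g⁻¹ * (a * (g * z * g⁻¹)) * g := by group
      _ = z * (g⁻¹ * a * g) := by rw [ha]; group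

end Mod

/-- Cardinality through a map whose fibres are cosets. -/
theorem card_fibres {α : Type*} [Finite G] (f : G → α) (X K : Subgroup G) (hK : K ≤ X)
    (h : ∀ a ∈ X, ∀ b ∈ X, (f a = f b ↔ a⁻¹ * b ∈ K)) :
    Nat.card X = (f '' X).ncard * Nat.card K := by
  classical
  let F : ↥X ⧸ K.subgroupOf X → ↥(f '' (X : Set G)) :=
    Quotient.lift (fun a : ↥X => (⟨f a, a, a.2, rfl⟩ : ↥(f '' (X : Set G)))) fun a b hab =>
      Subtype.ext ((h a a.2 b b.2).2 (by
        have := QuotientGroup.leftRel_apply.1 hab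
        simpa [mem_subgroupOf] using this))
  have hF : Function.Bijective F := by
    constructor
    · refine fun p q => Quotient.inductionOn₂ p q fun a b e => Quotient.sound ?_
      apply QuotientGroup.leftRel_apply.2
      rw [mem_subgroupOf]
      simpa using (h a a.2 b b.2).1 (congrArg Subtype.val e)
    · rintro ⟨_, a, ha, rfl⟩
      exact ⟨QuotientGroup.mk ⟨a, ha⟩, rfl⟩
  rw [(K.subgroupOf X).card_eq_card_quotient_mul_card_subgroup, Nat.card_congr (Equiv.ofBijective F hF),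
    Nat.card_coe_set_eq, Nat.card_congr (subgroupOfEquivOfLe hK).toEquiv]

end Cfsg.Agent.U62Rec
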