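import Cfsg.Agent.U62Rec.Cases

/-!
# What the checks of one configuration give
-/

set_option autoImplicit false

namespace Cfsg.Agent.U62Rec

/-- A configuration with excluded singular vectors and classified involutory maps with bounds. -/
structure Facts (C : Cfg) (outs : List (OutCase × (ℕ × ℕ × ℕ × ℕ))) : Prop where
  covered : Covered C
  hyp : ∀ o ∈ outs, OutHyp C.gens C.l o.1 (rowP o.1 o.2)
  cls : ∀ m, Gen C.gens m → m ≠ idm → cmp m m = idm →
    ∃ o ∈ outs, ∃ h, Gen C.gens h ∧ cmp m h = cmp h o.1.c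

theorem caseOK_tab {gens ginv : List ℕ} {l : ℕ} {T : Tab} {c : InCase}
    (h : caseOK gens ginv l T c = true) : T.ok gens ginv = true := by
  simp only [caseOK, Bool.and_eq_true] at h
  exact h.1.1.1.1.1

theorem outOK_tab {gens ginv : List ℕ} {l : ℕ} {T : Tab} {c : OutCase} {r : ℕ × ℕ × ℕ × ℕ}
    (h : outOK gens ginv l T c r = true) : T.ok gens ginv = true := by
  simp only [outOK, Bool.and_eq_true] at h
  exact h.1.1.1.1

theorem cls_of_classified {gens ginv : List ℕ} {T : Tab} {u : ℕ} {cs : List (OutCase × Tab)}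
    {w : List (ℕ × ℕ)} (hT : T.ok gens ginv = true) (hu : T.stabOK u = true)
    (hodd : (T.ts.map fun p => app p.1 u).toFinset.card % 2 = 1)
    (hw : witOK T cs T.S w = true) (hct : ∀ ct ∈ cs, ct.2.ok gens ginv = true)
    {outs : List (OutCase × (ℕ × ℕ × ℕ × ℕ))} (ho : ∀ ct ∈ cs, ∃ r, (ct.1, r) ∈ outs)
    (m : ℕ) (hm : Gen gens m) (h1 : m ≠ idm) (h2 : cmp m m = idm) :
    ∃ o ∈ outs, ∃ h, Gen gens h ∧ cmp m h = cmp h o.1.c := by
  obtain ⟨ct, hct', h, hh, e⟩ := classified hT hu hodd hw hct hm h1 h2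
  obtain ⟨r, hr⟩ := ho ct hct'
  exact ⟨_, hr, h, hh, e⟩

end Cfsg.Agent.U62Rec
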