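import Cfsg.Agent.U62Rec.Setup
import Cfsg.Agent.U62Rec.Points.NatO
import Cfsg.Agent.U62Rec.Red.RedAP
import Cfsg.Agent.U62Rec.Red.RedAM
import Cfsg.Agent.U62Rec.Red.RedBP
import Cfsg.Agent.U62Rec.Red.RedBM

/-!
# Centraliser `2^{1+8}.Aut(PSp₄(3))`
-/

set_option autoImplicit false

open Cfsg Subgroup

namespace Cfsg.Agent.U62Rec

open Cfsg.Agent.LargeExtra

theorem outer_lists : outerCfgs = [(NatO.gens, NatO.lin), (RedAP.gens, RedAP.lin),
    (RedAM.gens, RedAM.lin), (RedBP.gens, RedBP.lin), (RedBM.gens, RedBM.lin)] := by decide +kernel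

variable {G : Type*} [Group G] [Finite G] {z : G}

/-- A subgroup `U₆(2)` of index 2 or `G = H·O(G)`. -/
theorem recognise_outer (S : Setting z) (hc : Nat.card ↥(oc z) = 512)
    (e : (↥(centralizer ({z} : Set G)) ⧸ pCore 2 ↥(centralizer ({z} : Set G))) ≃*
      MulAut (Cfsg.PSp 2 (ZMod 3)))
    {K : Type*} [Field K] [Fintype K] (hK : Fintype.card K = 4) :
    (∃ G₀ : Subgroup G, G₀.index = 2 ∧ Nonempty (↥G₀ ≃* Cfsg.PSU 6 K 2) ∧
      centralizer (G₀ : Set G) = ⊥) ∨ centralizer ({z} : Set G) ⊔ Cfsg.oddCore G = ⊤ := by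
  obtain ⟨⟨c, hcm, ⟨M⟩⟩, hQ⟩ := mod_of_outer S hc e
  rw [outer_lists] at hcm
  simp only [List.mem_cons, List.not_mem_nil, or_false] at hcm
  have hN : Nat.card ↥(centralizer ({z} : Set G)) = 512 * 51840 := by
    rw [card_centralizer_eq hc e, hQ]
  rcases hcm with rfl | rfl | rfl | rfl | rfl
  · rcases NatO.main M (by omega) (fun _ => by omega) hK with h | ⟨G₀, -, hi, hidx, hcen⟩
    · exact Or.inr h
    · rw [hN] at hidx
      exact Or.inl ⟨G₀, by omega, hi, hcen⟩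
  · exact Or.inr (RedAP.main M)
  · exact Or.inr (RedAM.main M)
  · exact Or.inr (RedBP.main M)
  · exact Or.inr (RedBM.main M)

end Cfsg.Agent.U62Rec
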