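import Cfsg.Agent.U62Rec.InJ

/-!
# Coordinates from a basis

Eight elements of `oc z` with the squares and commutators of the standard form give coordinates: the
bit pattern of an element is read off from its commutators with them.
-/

set_option autoImplicit false

open Cfsg Subgroup

namespace Cfsg.Agent.U62Rec

open Cfsg.Agent.LargeExtra

/-- The values of the form on the unit vectors. -/
def fvBits (v : Fin 256) : Fin 8 → Bool := fun k => fv v (2 ^ (k : ℕ))

theorem fvBits_inj : Function.Injective fvBits := by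
  intro a b h
  have hk : ∀ k : Fin 8, fv ((a : ℕ) ^^^ b) (2 ^ (k : ℕ)) = false := fun k => by
    rw [fv_xor, show fv (a : ℕ) (2 ^ (k : ℕ)) = fv (b : ℕ) (2 ^ (k : ℕ)) from congrFun h k,
      Bool.xor_self]
  apply Fin.ext
  by_contra hne
  obtain ⟨w, hw, e⟩ := fv_nondeg _ (Nat.xor_lt_two_pow (n := 8) a.2 b.2) (fun h => hne (Nat.xor_eq_zero_iff.1 h))
  simp only [List.mem_cons, List.not_mem_nil, or_false] at hw
  rcases hw with rfl | rfl | rfl | rfl | rfl | rfl | rfl | rfl
  exacts [absurd ((hk 0).symm.trans e) (by simp), absurd ((hk 1).symm.trans e) (by simp),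
    absurd ((hk 2).symm.trans e) (by simp), absurd ((hk 3).symm.trans e) (by simp),
    absurd ((hk 4).symm.trans e) (by simp), absurd ((hk 5).symm.trans e) (by simp),
    absurd ((hk 6).symm.trans e) (by simp), absurd ((hk 7).symm.trans e) (by simp)]

/-- Functionals are given by vectors. -/
noncomputable def fvEquiv : Fin 256 ≃ (Fin 8 → Bool) :=
  Equiv.ofBijective fvBits ((Fintype.bijective_iff_injective_and_card _).2 ⟨fvBits_inj,
    by rw [Fintype.card_fun, Fintype.card_fin, Fintype.card_fin, Fintype.card_bool]; norm_num⟩)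

theorem unit_step : ∀ v < 256, v = 0 ∨ ∃ k : Fin 8, v ^^^ 2 ^ (k : ℕ) < v := by decide +kernel

variable {G : Type*} [Group G]

/-- Eight elements with the standard squares and commutators. -/
structure Basis [Finite G] (C : Cfg) (z : G) (b : Fin 8 → G) : Prop where
  set : Setting z
  card : Nat.card ↥(oc z) = 512
  mem : ∀ k, b k ∈ oc z
  sq : ∀ k : Fin 8, b k * b k = if qv C.l (2 ^ (k : ℕ)) then z else 1
  comm : ∀ i j : Fin 8, Commute (b i) (b j) ↔ fv (2 ^ (i : ℕ)) (2 ^ (j : ℕ)) = false

open scoped Classical in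
/-- The coordinates of an element. -/
noncomputable def coord (b : Fin 8 → G) (a : G) : ℕ :=
  (fvEquiv.symm fun k => decide ¬Commute a (b k) : Fin 256)

/-- The code of the action of an element. -/
noncomputable def code8 (b : Fin 8 → G) (h : G) : ℕ :=
  pack (coord b (h * b 0 * h⁻¹)) (coord b (h * b 1 * h⁻¹)) (coord b (h * b 2 * h⁻¹))
    (coord b (h * b 3 * h⁻¹)) (coord b (h * b 4 * h⁻¹)) (coord b (h * b 5 * h⁻¹))
    (coord b (h * b 6 * h⁻¹)) (coord b (h * b 7 * h⁻¹))

theorem coord_lt (b : Fin 8 → G) (a : G) : coord b a < 256 := Fin.isLt _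

namespace Basis

variable [Finite G] {C : Cfg} {z : G} {b : Fin 8 → G} (B : Basis C z b)
include B

omit B in
theorem fv_coord (a : G) (k : Fin 8) :
    fv (coord b a) (2 ^ (k : ℕ)) = true ↔ ¬Commute a (b k) := by
  classical
  have h := congrFun (fvEquiv.apply_symm_apply fun k => decide ¬Commute a (b k)) k
  show fvBits (fvEquiv.symm fun k => decide ¬Commute a (b k)) k = true ↔ _
  change fvBits _ k = _ at h
  rw [h]
  simp

omit B in
theorem coord_unique {a : G} {v : ℕ} (hv : v < 256)
    (h : ∀ k : Fin 8, fv v (2 ^ (k : ℕ)) = true ↔ ¬Commute a (b k)) : coord b a = v := by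
  have : (⟨coord b a, coord_lt b a⟩ : Fin 256) = ⟨v, hv⟩ := fvBits_inj <| funext fun k => by
    show fv (coord b a) _ = fv v _
    rw [Bool.eq_iff_iff]
    exact (fv_coord a k).trans (h k).symm
  exact congrArg Fin.val this

theorem hzz : z * z = 1 := B.set.sq_one

theorem hz : z ∈ oc z := mem_oc_self B.set.ord

/-- Commutation with a product. -/
theorem commute_mul {a c x : G} (ha : a ∈ oc z) (hc : c ∈ oc z) (hx : x ∈ oc z) :
    Commute (a * c) x ↔ (Commute a x ↔ Commute c x) := by
  have key : ∀ {u v : G}, u ∈ oc z → v ∈ oc z →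
      (Commute u v ∧ u * v * u⁻¹ = v) ∨ (¬Commute u v ∧ u * v * u⁻¹ = z * v) := by
    intro u v hu hv
    by_cases h : Commute u v
    · exact Or.inl ⟨h, by rw [h.eq, mul_inv_cancel_right]⟩
    refine Or.inr ⟨h, ?_⟩
    rcases B.set.commutator_cases hu hv with e | e
    · exact absurd (commutatorElement_eq_one_iff_mul_comm.1 e) h
    · exact mul_inv_eq_iff_eq_mul.1 e
  have e1 : a * c * x * (a * c)⁻¹ = a * (c * x * c⁻¹) * a⁻¹ := by group
  have haz : a * (z * x) * a⁻¹ = z * (a * x * a⁻¹) := by
    rw [← mul_assoc, (B.set.comm_z ha).eq]; group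
  have iff1 : Commute (a * c) x ↔ a * c * x * (a * c)⁻¹ = x := by
    rw [mul_inv_eq_iff_eq_mul]; rfl
  have hzx : z * x ≠ x := fun e => B.set.ne_one (mul_eq_right.1 e)
  rw [iff1, e1]
  rcases key hc hx with ⟨hc', e⟩ | ⟨hc', e⟩ <;> rcases key ha hx with ⟨ha', e'⟩ | ⟨ha', e'⟩ <;> rw [e]
  · simp [e', ha', hc']
  · simp [e', ha', hc', hzx]
  · rw [haz, e']; simp [ha', hc', hzx]
  · rw [haz, e', ← mul_assoc, B.hzz, one_mul]; simp [ha', hc']

theorem coord_mul {a c : G} (ha : a ∈ oc z) (hc : c ∈ oc z) :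
    coord b (a * c) = coord b a ^^^ coord b c := by
  refine coord_unique (Nat.xor_lt_two_pow (n := 8) (coord_lt b a) (coord_lt b c)) fun k => ?_
  rw [B.commute_mul ha hc (B.mem k), fv_xor]
  have h1 := fv_coord (b := b) a k
  have h2 := fv_coord (b := b) c k
  cases e1 : fv (coord b a) (2 ^ (k : ℕ)) <;> cases e2 : fv (coord b c) (2 ^ (k : ℕ)) <;>
    simp [e1, e2] at h1 h2 ⊢ <;> tauto

theorem coord_b (j : Fin 8) : coord b (b j) = 2 ^ (j : ℕ) := by
  refine coord_unique (Nat.pow_lt_pow_right (a := 2) (by norm_num) j.2) fun k => ?_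
  rw [B.comm j k]
  simp

theorem coord_one : coord b (1 : G) = 0 := by
  have h := B.coord_mul (one_mem (oc z)) (one_mem (oc z))
  rw [mul_one, Nat.xor_self] at h
  exact h

theorem coord_z : coord b z = 0 := coord_unique (by norm_num) fun k => by
  rw [fv_comm, fv_zero]
  simp only [Bool.false_eq_true, false_iff, not_not]
  exact (B.set.comm_z (B.mem k)).symm

theorem coord_inv {a : G} (ha : a ∈ oc z) : coord b a⁻¹ = coord b a := by
  have h := B.coord_mul (inv_mem ha) ha
  rw [inv_mul_cancel, B.coord_one] at h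
  exact Nat.xor_eq_zero_iff.1 h.symm

theorem coord_surj : ∀ v < 256, ∃ a ∈ oc z, coord b a = v := by
  intro v
  induction v using Nat.strong_induction_on with
  | _ v ih =>
    intro hv
    rcases unit_step v hv with rfl | ⟨k, hk⟩
    · exact ⟨1, one_mem _, B.coord_one⟩
    · obtain ⟨a, ha, e⟩ := ih _ hk (hk.trans hv)
      refine ⟨a * b k, mul_mem ha (B.mem k), ?_⟩
      rw [B.coord_mul ha (B.mem k), e, B.coord_b, Nat.xor_assoc, Nat.xor_self, Nat.xor_zero]

theorem coord_eq {a : G} (ha : a ∈ oc z) (h : coord b a = 0) : a = 1 ∨ a = z := by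
  classical
  let K : Subgroup G :=
    { carrier := {a | a ∈ oc z ∧ coord b a = 0}
      one_mem' := ⟨one_mem _, B.coord_one⟩
      mul_mem' := fun {x y} hx hy =>
        ⟨mul_mem hx.1 hy.1, by rw [B.coord_mul hx.1 hy.1, hx.2, hy.2]; rfl⟩
      inv_mem' := fun {x} hx => ⟨inv_mem hx.1, by rw [B.coord_inv hx.1, hx.2]⟩ }
  have hcard := card_fibres (coord b) (oc z) K (fun x hx => hx.1) fun x hx y hy => by
    constructor
    · intro e
      exact ⟨mul_mem (inv_mem hx) hy,
        by rw [B.coord_mul (inv_mem hx) hy, B.coord_inv hx, e, Nat.xor_self]⟩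
    · rintro ⟨-, e⟩
      rw [B.coord_mul (inv_mem hx) hy, B.coord_inv hx, Nat.xor_eq_zero_iff] at e
      exact e
  have himg : coord b '' (oc z : Set G) = ((Finset.range 256 : Finset ℕ) : Set ℕ) := by
    ext v
    simp only [Set.mem_image, Finset.coe_range, Set.mem_Iio]
    exact ⟨fun ⟨x, _, e⟩ => e ▸ coord_lt b x, fun hv => B.coord_surj v hv⟩
  rw [B.card, himg, Set.ncard_coe_finset, Finset.card_range] at hcard
  have hK : ((K : Subgroup G) : Set G).ncard = 2 := by
    rw [← Nat.card_coe_set_eq]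
    show Nat.card ↥K = 2
    omega
  have hsub : ({1, z} : Set G) ⊆ (K : Set G) := by
    rintro x (rfl | rfl)
    exacts [one_mem K, ⟨B.hz, B.coord_z⟩]
  have heq := Set.eq_of_subset_of_ncard_le hsub
    (by rw [hK, Set.ncard_pair (Ne.symm B.set.ne_one)]) (Set.toFinite _)
  have : a ∈ ({1, z} : Set G) := heq ▸ (show a ∈ K from ⟨ha, h⟩)
  simpa using this

/-- Induction on the elements of `oc z`. -/
theorem induct {P : G → Prop} (h1 : P 1) (hz : P z) (hb : ∀ k, P (b k))
    (hm : ∀ x ∈ oc z, ∀ y ∈ oc z, P x → P y → P (x * y)) : ∀ a ∈ oc z, P a := by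
  suffices key : ∀ v, ∀ a ∈ oc z, coord b a = v → P a from fun a ha => key _ a ha rfl
  intro v
  induction v using Nat.strong_induction_on with
  | _ v ih =>
    intro a ha e
    rcases unit_step v (e ▸ coord_lt b a) with rfl | ⟨k, hk⟩
    · rcases B.coord_eq ha e with rfl | rfl
      exacts [h1, hz]
    · have hmem : a * (b k)⁻¹ ∈ oc z := mul_mem ha (inv_mem (B.mem k))
      have := hm _ hmem _ (B.mem k) (ih _ hk _ hmem (by
        rw [B.coord_mul ha (inv_mem (B.mem k)), e, B.coord_inv (B.mem k), B.coord_b])) (hb k)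
      rwa [inv_mul_cancel_right] at this

theorem commute_iff {a c : G} (ha : a ∈ oc z) (hc : c ∈ oc z) :
    Commute a c ↔ fv (coord b a) (coord b c) = false := by
  revert c hc
  refine fun {c} hc => ?_
  refine B.induct (P := fun c => Commute a c ↔ fv (coord b a) (coord b c) = false)
    ?_ ?_ (fun k => ?_) (fun x hx y hy hX hY => ?_) c hc
  · rw [B.coord_one, fv_zero]; simp
  · rw [B.coord_z, fv_zero]
    simp only [iff_true]
    exact B.set.comm_z ha
  · rw [B.coord_b, ← Bool.not_eq_true, fv_coord]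
    simp
  · rw [Commute.symm_iff, B.commute_mul hx hy ha, Commute.symm_iff, hX, Commute.symm_iff, hY,
      B.coord_mul hx hy, fv_xor']
    cases fv (coord b a) (coord b x) <;> cases fv (coord b a) (coord b y) <;> simp

theorem sq_all {a : G} (ha : a ∈ oc z) : a * a = if qv C.l (coord b a) then z else 1 := by
  refine B.induct (P := fun a => a * a = if qv C.l (coord b a) then z else 1)
    ?_ ?_ (fun k => ?_) (fun x hx y hy hX hY => ?_) a ha
  · rw [B.coord_one, qv_zero]; simp
  · rw [B.coord_z, qv_zero]; simp [B.hzz]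
  · rw [B.coord_b]; exact B.sq k
  · have hxy : y * x = x * y * (if fv (coord b x) (coord b y) then z else 1) := by
      cases hf : fv (coord b x) (coord b y) with
      | false => simp [((B.commute_iff hx hy).2 hf).eq]
      | true =>
        simp only [if_true]
        have hn : ¬Commute x y := fun h => by rw [(B.commute_iff hx hy).1 h] at hf; simp at hf
        rcases B.set.commutator_cases hy hx with e | e
        · exact absurd (Commute.symm (commutatorElement_eq_one_iff_mul_comm.1 e)) hn
        · rw [mul_inv_eq_iff_eq_mul, mul_inv_eq_iff_eq_mul] at e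
          rw [e, mul_assoc z x, ← (B.set.comm_z (mul_mem hx hy)).eq]
    rw [B.coord_mul hx hy, qv_xor]
    have e : x * y * (x * y) = x * x * (y * y) * (if fv (coord b x) (coord b y) then z else 1) := by
      calc x * y * (x * y) = x * (y * x) * y := by group
        _ = x * (x * y * (if fv (coord b x) (coord b y) then z else 1)) * y := by rw [hxy]
        _ = _ := by
          cases fv (coord b x) (coord b y)
          · simp [mul_assoc]
          · simp only [if_true, mul_assoc]
            rw [(B.set.comm_z hy).symm.eq]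
    rw [e, hX, hY]
    cases qv C.l (coord b x) <;> cases qv C.l (coord b y) <;> cases fv (coord b x) (coord b y) <;>
      simp [B.hzz, mul_assoc]

omit B in
theorem isCode_code8 (h : G) : IsCode (code8 b h) :=
  isCode_pack (coord_lt _ _) (coord_lt _ _) (coord_lt _ _) (coord_lt _ _) (coord_lt _ _)
    (coord_lt _ _) (coord_lt _ _) (coord_lt _ _)

omit B in
theorem app_code8 (h : G) (k : Fin 8) :
    app (code8 b h) (2 ^ (k : ℕ)) = coord b (h * b k * h⁻¹) := by
  obtain ⟨e0, e1, e2, e3, e4, e5, e6, e7⟩ := byte_pack (coord_lt b (h * b 0 * h⁻¹))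
    (coord_lt b (h * b 1 * h⁻¹)) (coord_lt b (h * b 2 * h⁻¹)) (coord_lt b (h * b 3 * h⁻¹))
    (coord_lt b (h * b 4 * h⁻¹)) (coord_lt b (h * b 5 * h⁻¹)) (coord_lt b (h * b 6 * h⁻¹))
    (coord_lt b (h * b 7 * h⁻¹))
  obtain ⟨u0, u1, u2, u3, u4, u5, u6, u7⟩ := app_unit (code8 b h)
  fin_cases k
  · exact u0.trans e0
  · exact u1.trans e1
  · exact u2.trans e2
  · exact u3.trans e3
  · exact u4.trans e4
  · exact u5.trans e5
  · exact u6.trans e6
  · exact u7.trans e7

theorem act {h : G} (hh : h ∈ centralizer ({z} : Set G)) {a : G} (ha : a ∈ oc z) :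
    coord b (h * a * h⁻¹) = app (code8 b h) (coord b a) := by
  refine B.induct (P := fun a => coord b (h * a * h⁻¹) = app (code8 b h) (coord b a))
    ?_ ?_ (fun k => ?_) (fun x hx y hy hX hY => ?_) a ha
  · rw [mul_one, mul_inv_cancel, B.coord_one, app_zero]
  · rw [mem_centralizer_singleton_iff.1 hh, mul_inv_cancel_right, B.coord_z, app_zero]
  · rw [B.coord_b, app_code8]
  · rw [show h * (x * y) * h⁻¹ = h * x * h⁻¹ * (h * y * h⁻¹) by group,
      B.coord_mul (oc_conj_mem hh hx) (oc_conj_mem hh hy), hX, hY, B.coord_mul hx hy, app_xor]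

theorem code8_mul {g h : G} (hg : g ∈ centralizer ({z} : Set G))
    (hh : h ∈ centralizer ({z} : Set G)) : code8 b (g * h) = cmp (code8 b g) (code8 b h) := by
  refine code_ext (isCode_code8 _) (isCode_cmp _ _) fun v hv => ?_
  obtain ⟨a, ha, rfl⟩ := B.coord_surj v hv
  rw [app_cmp, ← B.act (mul_mem hg hh) ha, ← B.act hh ha, ← B.act hg (oc_conj_mem hh ha)]
  congr 1
  group

theorem code8_ker {h : G} (hh : h ∈ centralizer ({z} : Set G)) :
    code8 b h = idm ↔ h ∈ oc z := by
  constructor
  · intro e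
    have hk : ∀ k, coord b (h * b k * h⁻¹) = coord b (b k) := fun k => by
      rw [B.act hh (B.mem k), e, app_idm (coord_lt _ _)]
    classical
    obtain ⟨a, ha, hae⟩ := B.coord_surj _
      (fvEquiv.symm fun k => decide (h * b k * h⁻¹ ≠ b k) : Fin 256).2
    have hbit : ∀ k, ¬Commute a (b k) ↔ h * b k * h⁻¹ ≠ b k := by
      intro k
      rw [← fv_coord, hae]
      show fvBits (fvEquiv.symm fun k => decide (h * b k * h⁻¹ ≠ b k)) k = true ↔ _
      have := congrFun (fvEquiv.apply_symm_apply fun k => decide (h * b k * h⁻¹ ≠ b k)) k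
      change fvBits _ k = _ at this
      rw [this]
      simp
    have hfix : ∀ k, h * b k * h⁻¹ = a * b k * a⁻¹ := by
      intro k
      have hd := B.coord_eq (mul_mem (oc_conj_mem hh (B.mem k)) (inv_mem (B.mem k))) (by
        rw [B.coord_mul (oc_conj_mem hh (B.mem k)) (inv_mem (B.mem k)), B.coord_inv (B.mem k), hk,
          Nat.xor_self])
      by_cases hc : Commute a (b k)
      · rw [hc.eq, mul_inv_cancel_right]
        by_contra hne
        exact (hbit k).2 hne hc
      · rcases hd with e1 | e1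
        · exact absurd (mul_inv_eq_one.1 e1) ((hbit k).1 hc)
        rcases B.set.commutator_cases ha (B.mem k) with e2 | e2
        · exact absurd (commutatorElement_eq_one_iff_mul_comm.1 e2) hc
        · rw [mul_inv_eq_iff_eq_mul.1 e1]
          exact (mul_inv_eq_iff_eq_mul.1 e2).symm
    have hc : a⁻¹ * h ∈ centralizer ((oc z : Subgroup G) : Set G) := by
      rw [mem_centralizer_iff]
      intro x hx
      refine B.induct (P := fun x => x * (a⁻¹ * h) = a⁻¹ * h * x) (by simp) ?_ (fun k => ?_)
        (fun u _ v _ hu hv => by rw [mul_assoc, hv, ← mul_assoc, hu, mul_assoc]) x hx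
      · exact (mem_centralizer_singleton_iff.1
          (mul_mem (inv_mem (oc_le z ha)) hh : a⁻¹ * h ∈ centralizer ({z} : Set G))).symm
      · calc b k * (a⁻¹ * h) = a⁻¹ * (a * b k * a⁻¹) * h := by group
          _ = a⁻¹ * (h * b k * h⁻¹) * h := by rw [hfix]
          _ = a⁻¹ * h * b k := by group
    have := mul_mem ha (B.set.cent hc)
    rwa [mul_inv_cancel_left] at this
  · intro ho
    refine code_ext (isCode_code8 _) isCode_idm fun v hv => ?_
    obtain ⟨a, ha, rfl⟩ := B.coord_surj v hv
    rw [← B.act hh ha, app_idm (coord_lt _ _), B.coord_mul (mul_mem ho ha) (inv_mem ho),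
      B.coord_mul ho ha, B.coord_inv ho, Nat.xor_comm (coord b h), Nat.xor_assoc, Nat.xor_self,
      Nat.xor_zero]

theorem gen_of_closure {S : Set G} (hS : ∀ h ∈ S, h ∈ centralizer ({z} : Set G) ∧
      Gen C.gens (code8 b h)) (htop : centralizer ({z} : Set G) ≤ closure S ⊔ oc z) {h : G}
    (hh : h ∈ centralizer ({z} : Set G)) : Gen C.gens (code8 b h) := by
  let T : Submonoid G :=
    { carrier := {h | h ∈ centralizer ({z} : Set G) ∧ Gen C.gens (code8 b h)}
      one_mem' := ⟨one_mem _, by
        rw [(B.code8_ker (one_mem _)).2 (one_mem _)]; exact Gen.one⟩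
      mul_mem' := fun {x y} hx hy =>
        ⟨mul_mem hx.1 hy.1, by rw [B.code8_mul hx.1 hy.1]; exact hx.2.mul hy.2⟩ }
  let U : Subgroup G :=
    { T with
      inv_mem' := fun {x} hx => by
        have hpow := pow_mem (show x ∈ T from hx) (orderOf x - 1)
        have e : x⁻¹ = x ^ (orderOf x - 1) := by
          refine inv_eq_of_mul_eq_one_right ?_
          rw [← pow_succ', Nat.sub_add_cancel (orderOf_pos x), pow_orderOf_eq_one]
        show x⁻¹ ∈ T
        rw [e]
        exact hpow }
  have h1 : closure S ⊔ oc z ≤ U := sup_le ((closure_le U).2 fun x hx => hS x hx) fun x hx =>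
    ⟨oc_le z hx, by rw [(B.code8_ker (oc_le z hx)).2 hx]; exact Gen.one⟩
  exact (h1 (htop hh)).2

/-- The coordinates form a `Mod`. -/
noncomputable def toMod (hgen : ∀ h ∈ centralizer ({z} : Set G), Gen C.gens (code8 b h))
    (hsurj : ∀ g ∈ C.gens, ∃ h ∈ centralizer ({z} : Set G), code8 b h = g) : Mod C z where
  set := B.set
  bar := coord b
  rho := code8 b
  bar_lt := coord_lt b
  bar_mul := fun _ ha _ hc => B.coord_mul ha hc
  bar_z := B.coord_z
  bar_eq := fun _ ha h => B.coord_eq ha h
  bar_surj := B.coord_surj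
  sq := fun _ ha => B.sq_all ha
  rho_code := isCode_code8
  rho_mul := fun _ hg _ hh => B.code8_mul hg hh
  rho_act := fun _ hh _ ha => B.act hh ha
  rho_ker := fun _ hh => B.code8_ker hh
  rho_gen := hgen
  rho_surj := hsurj

end Basis

end Cfsg.Agent.U62Rec
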