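import Cfsg.Agent.U62Rec.Planes
import Cfsg.Agent.U62Rec.ModOfBasis

/-!
# Frames of a space of 256 vectors

Eight vectors with the standard form give a bijection with the numbers below 256; maps are then
described by codes.
-/

set_option autoImplicit false
set_option maxRecDepth 100000

namespace Cfsg.Agent.U62Rec

variable {Q : Type*} [Group Q] {V : Type*} [AddCommGroup V]

/-- The vector with given coordinates. -/
def vec (e : Fin 8 → V) (n : ℕ) : V := ∑ k : Fin 8, if n.testBit k then e k else 0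

theorem vec_zero (e : Fin 8 → V) : vec e 0 = 0 := by simp [vec]

theorem vec_unit (e : Fin 8 → V) (k : Fin 8) : vec e (2 ^ (k : ℕ)) = e k := by
  rw [vec, Finset.sum_eq_single k]
  · simp
  · intro j _ hj
    rw [Nat.testBit_two_pow]
    simp [Fin.val_ne_of_ne (Ne.symm hj)]
  · simp

namespace Rep

variable (R : Rep Q V)

include R in
theorem vec_xor (e : Fin 8 → V) (a b : ℕ) : vec e (a ^^^ b) = vec e a + vec e b := by
  rw [vec, vec, vec, ← Finset.sum_add_distrib]
  refine Finset.sum_congr rfl fun k _ => ?_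
  rw [Nat.testBit_xor]
  cases a.testBit k <;> cases b.testBit k <;> simp [R.two]

/-- Vectors with the standard form. -/
structure Frame (e : Fin 8 → V) (l : ℕ) : Prop where
  B_e : ∀ i j : Fin 8, R.B (e i) (e j) = fv (2 ^ (i : ℕ)) (2 ^ (j : ℕ))
  q_e : ∀ k : Fin 8, R.q (e k) = qv l (2 ^ (k : ℕ))

/-- A code describes an element. -/
def Moves (e : Fin 8 → V) (g : ℕ) (x : Q) : Prop :=
  ∀ k : Fin 8, R.act x (e k) = vec e (app g (2 ^ (k : ℕ)))

theorem moves_vec {e : Fin 8 → V} {g : ℕ} {x : Q} (h : R.Moves e g x) :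
    ∀ v < 256, R.act x (vec e v) = vec e (app g v) := by
  intro v
  induction v using Nat.strong_induction_on with
  | _ v ih =>
    intro hv
    rcases unit_step v hv with rfl | ⟨k, hk⟩
    · rw [vec_zero, app_zero, vec_zero, R.act_zero]
    · have e1 : v = (v ^^^ 2 ^ (k : ℕ)) ^^^ 2 ^ (k : ℕ) := by
        rw [Nat.xor_assoc, Nat.xor_self, Nat.xor_zero]
      conv_lhs => rw [e1, R.vec_xor, R.act_add, ih _ hk (hk.trans hv), vec_unit, h k]
      conv_rhs => rw [e1, app_xor, R.vec_xor]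

theorem moves_mul {e : Fin 8 → V} {g h : ℕ} {x y : Q} (hx : R.Moves e g x) (hy : R.Moves e h y) :
    R.Moves e (cmp g h) (x * y) := fun k => by
  rw [R.act_mul, hy k, R.moves_vec hx _ (app_lt _ _), app_cmp]

theorem moves_one (e : Fin 8 → V) : R.Moves e idm 1 := fun k => by
  rw [R.act_one, app_idm (Nat.pow_lt_pow_right (a := 2) (by norm_num) k.2), vec_unit]

namespace Frame

variable {R} {e : Fin 8 → V} {l : ℕ} (Fr : R.Frame e l)
include Fr

theorem B_vec (k : Fin 8) : ∀ n < 256, R.B (vec e n) (e k) = fv n (2 ^ (k : ℕ)) := by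
  intro n
  induction n using Nat.strong_induction_on with
  | _ n ih =>
    intro hn
    rcases unit_step n hn with rfl | ⟨j, hj⟩
    · rw [vec_zero, R.B_zero, fv_comm, fv_zero]
    · have e1 : n = (n ^^^ 2 ^ (j : ℕ)) ^^^ 2 ^ (j : ℕ) := by
        rw [Nat.xor_assoc, Nat.xor_self, Nat.xor_zero]
      conv_lhs => rw [e1, R.vec_xor, R.B_add, ih _ hj (hj.trans hn), vec_unit, Fr.B_e]
      conv_rhs => rw [e1, fv_xor]

theorem vec_inj {a b : ℕ} (ha : a < 256) (hb : b < 256) (h : vec e a = vec e b) : a = b := by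
  have := fvBits_inj (a₁ := (⟨a, ha⟩ : Fin 256)) (a₂ := ⟨b, hb⟩) <| funext fun k => by
    show fv a (2 ^ (k : ℕ)) = fv b (2 ^ (k : ℕ))
    rw [← Fr.B_vec k a ha, ← Fr.B_vec k b hb, h]
  exact congrArg Fin.val this

theorem vec_bijective : Function.Bijective fun n : Fin 256 => vec e n := by
  have hVf : Finite V := Nat.finite_of_card_ne_zero (by rw [R.card]; norm_num)
  refine (Nat.bijective_iff_injective_and_card _).2 ⟨fun a b h => Fin.ext (Fr.vec_inj a.2 b.2 h), ?_⟩
  rw [R.card, Nat.card_eq_fintype_card, Fintype.card_fin]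

theorem exists_vec (v : V) : ∃ n < 256, vec e n = v := by
  obtain ⟨n, hn⟩ := Fr.vec_bijective.2 v
  exact ⟨n, n.2, hn⟩

theorem exists_code (x : Q) : ∃ g, IsCode g ∧ R.Moves e g x := by
  choose co hco1 hco2 using fun k : Fin 8 => Fr.exists_vec (R.act x (e k))
  refine ⟨pack (co 0) (co 1) (co 2) (co 3) (co 4) (co 5) (co 6) (co 7),
    isCode_pack (hco1 0) (hco1 1) (hco1 2) (hco1 3) (hco1 4) (hco1 5) (hco1 6) (hco1 7), fun k => ?_⟩
  obtain ⟨e0, e1, e2, e3, e4, e5, e6, e7⟩ := byte_pack (hco1 0) (hco1 1) (hco1 2) (hco1 3) (hco1 4)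
    (hco1 5) (hco1 6) (hco1 7)
  obtain ⟨u0, u1, u2, u3, u4, u5, u6, u7⟩ :=
    app_unit (pack (co 0) (co 1) (co 2) (co 3) (co 4) (co 5) (co 6) (co 7))
  rw [← hco2 k]
  congr 1
  fin_cases k
  · exact (u0.trans e0).symm
  · exact (u1.trans e1).symm
  · exact (u2.trans e2).symm
  · exact (u3.trans e3).symm
  · exact (u4.trans e4).symm
  · exact (u5.trans e5).symm
  · exact (u6.trans e6).symm
  · exact (u7.trans e7).symm

theorem moves_unique {g h : ℕ} {x : Q} (hg : IsCode g) (hh : IsCode h) (h1 : R.Moves e g x)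
    (h2 : R.Moves e h x) : g = h :=
  code_ext hg hh fun v hv => Fr.vec_inj (app_lt _ _) (app_lt _ _)
    (by rw [← R.moves_vec h1 v hv, ← R.moves_vec h2 v hv])

theorem code_eq {g h g' h' : ℕ} {x y x' y' : Q} (h1 : R.Moves e g x) (h2 : R.Moves e h y)
    (h1' : R.Moves e g' x') (h2' : R.Moves e h' y') (he : x * y = x' * y') :
    cmp g h = cmp g' h' :=
  Fr.moves_unique (isCode_cmp _ _) (isCode_cmp _ _) (R.moves_mul h1 h2)
    (he ▸ R.moves_mul h1' h2')

theorem eq_of_moves {g : ℕ} {x y : Q} (h1 : R.Moves e g x) (h2 : R.Moves e g y) : x = y := by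
  have hall : ∀ v, R.act x v = R.act y v := fun v => by
    obtain ⟨n, hn, rfl⟩ := Fr.exists_vec v
    rw [R.moves_vec h1 n hn, R.moves_vec h2 n hn]
  refine (inv_mul_eq_one.1 (R.faith (y⁻¹ * x) fun v => ?_)).symm
  rw [R.act_mul, hall, R.act_inv_act]

end Frame

end Rep

end Cfsg.Agent.U62Rec
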