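import Cfsg.Agent.U62Rec.PlaneFacts
import Cfsg.Agent.U62Rec.Frame

/-!
# A frame from vectors in four orthogonal eigenspaces
-/

set_option autoImplicit false
set_option maxRecDepth 100000

namespace Cfsg.Agent.U62Rec

/-- The even index of a coordinate. -/
def ix0 (k : Fin 4) : Fin 8 := ⟨2 * k, by omega⟩
/-- The odd index of a coordinate. -/
def ix1 (k : Fin 4) : Fin 8 := ⟨2 * k + 1, by omega⟩

theorem ix_cases : ∀ j : Fin 8, ∃ k, j = ix0 k ∨ j = ix1 k := by decide +kernel

/-- Eight vectors from two families of four. -/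
def mkE {V : Type*} (w y : Fin 4 → V) (j : Fin 8) : V :=
  if (j : ℕ) % 2 = 0 then w ⟨(j : ℕ) / 2, by omega⟩ else y ⟨(j : ℕ) / 2, by omega⟩

theorem mkE_ix0 {V : Type*} (w y : Fin 4 → V) (k : Fin 4) : mkE w y (ix0 k) = w k := by
  rw [mkE, if_pos (by simp [ix0])]
  congr 1
  exact Fin.ext (by simp [ix0])

theorem mkE_ix1 {V : Type*} (w y : Fin 4 → V) (k : Fin 4) : mkE w y (ix1 k) = y k := by
  rw [mkE, if_neg (by simp [ix1, Nat.add_mod])]
  congr 1
  exact Fin.ext (by simp [ix1]; omega)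

/-- The numbers of the unit vectors. -/
def u0 (k : Fin 4) : ℕ := 2 ^ (ix0 k : ℕ)
/-- The numbers of the odd unit vectors. -/
def u1 (k : Fin 4) : ℕ := 2 ^ (ix1 k : ℕ)

section
variable {Q : Type*} [Group Q] {V : Type*} [AddCommGroup V] {R : Rep Q V} {d : Fin 4 → Q}
  {s : Fin 3 → Q} {u : Q}

theorem vec_u0 (w y : Fin 4 → V) (k : Fin 4) : vec (mkE w y) (u0 k) = w k := by
  rw [u0, vec_unit, mkE_ix0]

theorem vec_u1 (w y : Fin 4 → V) (k : Fin 4) : vec (mkE w y) (u1 k) = y k := by
  rw [u1, vec_unit, mkE_ix1]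

theorem vec_both (R : Rep Q V) (w y : Fin 4 → V) (k : Fin 4) :
    vec (mkE w y) (u0 k ^^^ u1 k) = w k + y k := by
  rw [R.vec_xor, vec_u0, vec_u1]

theorem moves_of (R : Rep Q V) {w y : Fin 4 → V} {g : ℕ} {x : Q}
    (h0 : ∀ k, R.act x (w k) = vec (mkE w y) (app g (u0 k)))
    (h1 : ∀ k, R.act x (y k) = vec (mkE w y) (app g (u1 k))) : R.Moves (mkE w y) g x := by
  intro j
  obtain ⟨k, rfl | rfl⟩ := ix_cases j
  · rw [mkE_ix0]; exact h0 k
  · rw [mkE_ix1]; exact h1 k

theorem frame_of (A : Act3 R d s u) {w y : Fin 4 → V} {l : ℕ} (idx : Fin 4 → Fin 14)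
    (hinj : Function.Injective idx) (hw : ∀ k, w k ∈ Act3.piece R d (chr (idx k)))
    (hy : ∀ k, y k ∈ Act3.piece R d (chr (idx k))) (hB : ∀ k, R.B (w k) (y k) = true)
    (hq0 : ∀ k, R.q (w k) = qv l (u0 k)) (hq1 : ∀ k, R.q (y k) = qv l (u1 k)) :
    R.Frame (mkE w y) l := by
  have tab : ∀ k k' : Fin 4, fv (u0 k) (u0 k') = false ∧ fv (u1 k) (u1 k') = false ∧
      (fv (u0 k) (u1 k') = if k = k' then true else false) ∧
      (fv (u1 k) (u0 k') = if k = k' then true else false) := by decide +kernel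
  constructor
  · intro i j
    obtain ⟨k, hi⟩ := ix_cases i
    obtain ⟨k', hj⟩ := ix_cases j
    obtain ⟨t0, t1, t2, t3⟩ := tab k k'
    have hne : ∀ {a b : V}, k ≠ k' → a ∈ Act3.piece R d (chr (idx k)) →
        b ∈ Act3.piece R d (chr (idx k')) → R.B a b = false :=
      fun h ha hb => A.sep (fun e => h (hinj e)) ha hb
    rcases hi with rfl | rfl <;> rcases hj with rfl | rfl <;>
      simp only [mkE_ix0, mkE_ix1]
    · show _ = fv (u0 k) (u0 k'); rw [t0]
      by_cases h : k = k'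
      · rw [h, R.B_self]
      · exact hne h (hw k) (hw k')
    · show _ = fv (u0 k) (u1 k'); rw [t2]
      by_cases h : k = k'
      · rw [if_pos h, ← h, hB]
      · rw [if_neg h]; exact hne h (hw k) (hy k')
    · show _ = fv (u1 k) (u0 k'); rw [t3]
      by_cases h : k = k'
      · rw [if_pos h, ← h, R.B_comm, hB]
      · rw [if_neg h]; exact hne h (hy k) (hw k')
    · show _ = fv (u1 k) (u1 k'); rw [t1]
      by_cases h : k = k'
      · rw [h, R.B_self]
      · exact hne h (hy k) (hy k')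
  · intro j
    obtain ⟨k, rfl | rfl⟩ := ix_cases j
    · rw [mkE_ix0]; exact hq0 k
    · rw [mkE_ix1]; exact hq1 k

namespace Act3

/-- An outer element inverting the four elements and fixing the three involutions. -/
structure Outer (d : Fin 4 → Q) (s : Fin 3 → Q) (x : Q) : Prop where
  sq : x * x = 1
  inv_d : ∀ i, x * d i = (d i)⁻¹ * x
  fix_s : ∀ k, x * s k = s k * x

variable (A : Act3 R d s u) {x : Q} (O : Outer d s x)
include A

theorem outer_el (hO : Outer d s x) (t : Ex) : x * el d t = (el d t)⁻¹ * x := by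
  let T : AddSubmonoid Ex :=
    { carrier := {t | x * el d t = (el d t)⁻¹ * x}
      zero_mem' := by simp [el_zero]
      add_mem' := fun {a b} ha hb => by
        show x * el d (a + b) = (el d (a + b))⁻¹ * x
        rw [A.el_add, ← mul_assoc, ha, mul_assoc, hb, ← mul_assoc, ← mul_inv_rev,
          (A.el_comm b a).eq] }
  have hu : ∀ i, eu i ∈ T := fun i => by
    show x * el d (eu i) = _
    rw [el_eu]
    exact hO.inv_d _
  have et : t = (t 0).val • eu 0 + (t 1).val • eu 1 + (t 2).val • eu 2 := by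
    revert t; decide
  have := T.add_mem (T.add_mem (T.nsmul_mem (hu 0) (t 0).val)
    (T.nsmul_mem (hu 1) (t 1).val)) (T.nsmul_mem (hu 2) (t 2).val)
  rw [← et] at this
  exact this

include O

theorem outer_mem {a : Ex} {v : V} (hv : v ∈ piece R d a) : R.act x v ∈ piece R d a := by
  intro t
  have e : ∀ w, R.act (el d t) (R.act x w) = R.act x (R.act (el d t)⁻¹ w) := fun w => by
    have h := A.outer_el O (-t)
    have hinv : (el d (-t))⁻¹ = el d t := inv_eq_of_mul_eq_one_right (by
      rw [← A.el_add, neg_add_cancel, el_zero])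
    rw [hinv, show el d (-t) = (el d t)⁻¹ by rw [← hinv, inv_inv]] at h
    rw [← R.act_mul, ← R.act_mul, h]
  refine ⟨fun ht => ?_, fun ht => ?_⟩
  · rw [e]
    conv_lhs => rw [← (hv t).1 ht, R.act_inv_act]
  · have h3 : (el d t)⁻¹ = el d t * el d t := inv_eq_of_mul_eq_one_right (by
      rw [← mul_assoc, A.el_cube])
    have hF := (hv t).2 ht
    rw [Rep.F] at hF
    rw [Rep.F, e, e, ← R.act_add, ← R.act_add, h3]
    simp only [R.act_mul]
    have e4 : ∀ w, R.act (el d t) (R.act (el d t) (R.act (el d t) w)) = w := fun w => by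
      rw [← R.act_mul, ← R.act_mul, A.el_cube, R.act_one]
    rw [e4, add_right_comm, hF, R.act_zero]

omit A in
theorem outer_sq (v : V) : R.act x (R.act x v) = v := by rw [← R.act_mul, O.sq, R.act_one]

omit A in
theorem outer_d (i : Fin 4) (hc : d i * d i * d i = 1) (v : V) :
    R.act x (R.act (d i) v) = R.act (d i) (R.act (d i) (R.act x v)) := by
  rw [← R.act_mul, O.inv_d, R.act_mul, ← R.act_mul,
    inv_eq_of_mul_eq_one_right (show d i * (d i * d i) = 1 by rw [← mul_assoc, hc]), R.act_mul,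
    R.act_mul]

end Act3

end

end Cfsg.Agent.U62Rec
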