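import Cfsg.Agent.U62Rec.OutJ

/-!
# From data to the hypotheses

Each configuration supplies orbit tables, excluded vectors, involutory maps and rows of bounds; the
Boolean checks below give the hypotheses used for conjugates of `z` in and outside `oc z`.
-/

set_option autoImplicit false

namespace Cfsg.Agent.U62Rec

theorem Gen.exists_inv {gens ginv : List ℕ} (hc : ∀ g ∈ gens, IsCode g)
    (h : invOK gens ginv = true) {m : ℕ} (hm : Gen gens m) :
    ∃ n, Gen gens n ∧ cmp m n = idm := by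
  induction hm with
  | one => exact ⟨idm, Gen.one, cmp_idm isCode_idm⟩
  | @step g m hg hm' ih =>
    obtain ⟨n, hn, hmn⟩ := ih
    obtain ⟨i, hi, rfl⟩ := List.getElem_of_mem hg
    have hh := h
    simp only [invOK, Bool.and_eq_true, List.all_eq_true, Nat.beq_eq] at hh
    have hi' : i < ginv.length := hh.2 ▸ hi
    have hz : i < (gens.zip ginv).length := by simp [hi, hi']
    have h2 := (hh.1 _ (List.getElem_mem hz)).2
    simp only [List.getElem_zip] at h2
    refine ⟨cmp n (ginv.getD i idm), hn.mul (ginv_gen hc h i), ?_⟩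
    rw [List.getD_eq_getElem _ _ hi', cmp_assoc, ← cmp_assoc m, hmn, idm_cmp, h2]
    have := ginv_gen hc h i
    rw [List.getD_eq_getElem _ _ hi'] at this
    exact this.isCode

/-- Surjective maps of the vectors are injective. -/
theorem app_inj {m n : ℕ} (h : cmp m n = idm) {a b : ℕ} (ha : a < 256) (hb : b < 256)
    (he : app m a = app m b) : a = b := by
  have hs : Function.Surjective fun x : Fin 256 => (⟨app m x, app_lt _ _⟩ : Fin 256) := fun y =>
    ⟨⟨app n y, app_lt _ _⟩, Fin.ext (by show app m (app n y) = y; rw [← app_cmp, h, app_idm y.2])⟩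
  have hi := Finite.injective_iff_surjective.2 hs
  exact congrArg Fin.val (@hi ⟨a, ha⟩ ⟨b, hb⟩ (Fin.ext he))

/-- Generated maps are cancellable on the left and on the right. -/
theorem cancel_left {m n a b : ℕ} (h : cmp m n = idm) (ha : IsCode a) (hb : IsCode b)
    (he : cmp m a = cmp m b) : a = b :=
  code_ext ha hb fun v _ => app_inj h (app_lt _ _) (app_lt _ _) (by rw [← app_cmp, he, app_cmp])

theorem left_inv_of_right {m n : ℕ} (hn : IsCode n) (hm : IsCode m) (h : cmp m n = idm) :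
    cmp n m = idm :=
  cancel_left h (isCode_cmp _ _) isCode_idm (by rw [← cmp_assoc, h, idm_cmp hm, cmp_idm hm])

theorem cancel_right {s u a b : ℕ} (h : cmp s u = idm) (ha : IsCode a) (hb : IsCode b)
    (he : cmp a s = cmp b s) : a = b := by
  rw [← cmp_idm ha, ← cmp_idm hb, ← h, ← cmp_assoc, ← cmp_assoc, he]

/-- The maps of a table fixing its vector are listed. -/
def Tab.stabOK (T : Tab) (v : ℕ) : Bool :=
  T.A.all (fun a => Nat.beq (app a v) v) && decide (v < 256) &&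
    T.ts.all (fun p => Nat.beq p.1 idm || !Nat.beq (app p.1 v) v)

/-- The maps of a table commuting with its map are listed. -/
def Tab.centOK (T : Tab) (c : ℕ) : Bool :=
  T.A.all (fun a => Nat.beq (cmp a c) (cmp c a)) && decide (c < 2 ^ 64) &&
    T.ts.all (fun p => Nat.beq p.1 idm || !Nat.beq (cmp p.1 c) (cmp c p.1))

theorem Tab.S_induct {T : Tab} {gens ginv : List ℕ} (hT : T.ok gens ginv = true) {P : ℕ → Prop}
    (h1 : P idm) (hA : ∀ a ∈ T.A, ∀ x, P x → P (cmp a x)) (h0 : ∀ x, P x → P (cmp idm x)) :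
    ∀ s ∈ T.S, P s := by
  simp only [Tab.ok, Bool.and_eq_true] at hT
  obtain ⟨⟨⟨⟨_, hch⟩, -⟩, -⟩, -⟩ := hT
  intro s hs
  rcases List.mem_cons.1 hs with rfl | hs
  · exact h1
  · obtain ⟨e, he, rfl⟩ := List.mem_map.1 hs
    refine chain_induct (gens := T.A) (P := P) h1 (fun i x hx => ?_) T.st _ ?_ hch e he
    · rw [List.getD_eq_getElem?_getD]
      cases e : T.A[i]? with
      | none => exact h0 x hx
      | some a => exact hA a (List.mem_of_getElem? e) x hx
    · intro x hx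
      rw [List.mem_singleton.1 hx]; exact h1

theorem Tab.S_fix {T : Tab} {gens ginv : List ℕ} (hT : T.ok gens ginv = true) {v : ℕ}
    (hv : T.stabOK v = true) : ∀ s ∈ T.S, app s v = v := by
  simp only [Tab.stabOK, Bool.and_eq_true, List.all_eq_true, Nat.beq_eq, decide_eq_true_eq] at hv
  exact Tab.S_induct hT (app_idm hv.1.2) (fun a ha x hx => by rw [app_cmp, hx, hv.1.1 a ha])
    (fun x hx => by rw [app_cmp, hx, app_idm hv.1.2])

theorem Tab.mem_of_fix {T : Tab} {gens ginv : List ℕ} (hT : T.ok gens ginv = true) {v : ℕ}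
    (hv : T.stabOK v = true) {m : ℕ} (hm : Gen gens m) (hf : app m v = v) : m ∈ T.S := by
  obtain ⟨p, hp, s, hs, rfl⟩ := (Tab.spec_of_ok hT).factor m hm
  have hv' := hv
  simp only [Tab.stabOK, Bool.and_eq_true, List.all_eq_true, Nat.beq_eq, Bool.or_eq_true,
    Bool.not_eq_true', ← Bool.not_eq_true] at hv'
  rcases hv'.2 p hp with e | e
  · rw [e, idm_cmp ((Tab.spec_of_ok hT).S_gen s hs).isCode]; exact hs
  · rw [app_cmp, Tab.S_fix hT hv s hs] at hf
    exact absurd hf e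

theorem Tab.S_comm {T : Tab} {gens ginv : List ℕ} (hT : T.ok gens ginv = true) {c : ℕ}
    (hc : T.centOK c = true) : ∀ s ∈ T.S, cmp s c = cmp c s := by
  simp only [Tab.centOK, Bool.and_eq_true, List.all_eq_true, Nat.beq_eq, decide_eq_true_eq] at hc
  have hcode : IsCode c := hc.1.2
  refine Tab.S_induct hT (by rw [idm_cmp hcode, cmp_idm hcode]) (fun a ha x hx => ?_) fun x hx => ?_
  · rw [cmp_assoc, hx, ← cmp_assoc, hc.1.1 a ha, cmp_assoc]
  · rw [cmp_assoc, hx, ← cmp_assoc, idm_cmp hcode, ← cmp_assoc c idm, cmp_idm hcode]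

theorem Tab.mem_of_comm {T : Tab} {gens ginv : List ℕ} (hT : T.ok gens ginv = true) {c : ℕ}
    (hc : T.centOK c = true) {m : ℕ} (hm : Gen gens m) (hf : cmp m c = cmp c m) : m ∈ T.S := by
  obtain ⟨p, hp, s, hs, rfl⟩ := (Tab.spec_of_ok hT).factor m hm
  have hv' := hc
  simp only [Tab.centOK, Bool.and_eq_true, List.all_eq_true, Nat.beq_eq, Bool.or_eq_true,
    Bool.not_eq_true', ← Bool.not_eq_true] at hv'
  have hsg := (Tab.spec_of_ok hT).S_gen s hs
  rcases hv'.2 p hp with e | e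
  · rw [e, idm_cmp hsg.isCode]; exact hs
  · exfalso
    have hh := hT
    simp only [Tab.ok, Bool.and_eq_true] at hh
    obtain ⟨⟨⟨⟨⟨⟨⟨_, hinv⟩, -⟩, -⟩, -⟩, -⟩, -⟩, -⟩ := hh
    obtain ⟨u, -, hsu⟩ := hsg.exists_inv (Tab.spec_of_ok hT).code hinv
    refine e (cancel_right hsu (isCode_cmp _ _) (isCode_cmp _ _) ?_)
    rw [cmp_assoc, ← Tab.S_comm hT hc s hs, ← cmp_assoc, hf, ← cmp_assoc]

/-- An excluded vector with its table: every relevant map is listed. -/
def caseOK (gens ginv : List ℕ) (l : ℕ) (T : Tab) (c : InCase) : Bool :=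
  T.ok gens ginv && T.stabOK c.v && c.ok l &&
    c.A.all (fun a => mem a T.A) &&
    c.cj.all (fun p => mem p.1 T.A && Nat.beq (cmp p.1 p.2) idm) &&
    T.S.all (fun g => !Nat.beq (cmp g g) idm || mem g c.S)

theorem caseHyp_of_ok {gens ginv : List ℕ} {l : ℕ} {T : Tab} {c : InCase}
    (h : caseOK gens ginv l T c = true) : CaseHyp gens l c := by
  simp only [caseOK, Bool.and_eq_true, List.all_eq_true, mem_iff, Nat.beq_eq, Bool.or_eq_true,
    Bool.not_eq_true', ← Bool.not_eq_true] at h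
  obtain ⟨⟨⟨⟨⟨hT, hv⟩, hok⟩, hA⟩, hcj⟩, hS⟩ := h
  have hfix : ∀ a ∈ T.A, Gen gens a ∧ app a c.v = c.v := by
    intro a ha
    refine ⟨(Tab.spec_of_ok hT).A_gen a ha, ?_⟩
    have hv' := hv
    simp only [Tab.stabOK, Bool.and_eq_true, List.all_eq_true, Nat.beq_eq] at hv'
    exact hv'.1.1 a ha
  refine ⟨InCase.okX_of_ok hok, fun m hm => hfix m (hA m hm), fun p hp =>
    ⟨(hfix _ (hcj p hp).1).1, (hfix _ (hcj p hp).1).2, (hcj p hp).2⟩, ?_⟩
  intro B hB hB2 _ _ g hg
  rcases hS g (Tab.mem_of_fix hT hv (hB g hg).1 (hB g hg).2) with e | e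
  · exact absurd (hB2 g hg) e
  · exact e

/-- A vector fixed by a transitive group on an odd orbit with no small normal elementary group. -/
def fixedOK (gens ginv : List ℕ) (l : ℕ) (T : Tab) (u : ℕ) (cj : List (ℕ × ℕ)) (c : InCase) : Bool :=
  T.ok gens ginv && T.stabOK u && c.ok l && decide (c.v < 256) &&
    c.A.all (fun a => cj.any fun p => Nat.beq p.1 a) &&
    c.cj.all (fun p => cj.any fun r => Nat.beq r.1 p.1 && Nat.beq p.2 r.2) &&
    cj.all (fun p => (gens.contains p.1) && Nat.beq (cmp p.1 p.2) idm &&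
      (ginv.contains p.2) && Nat.beq (app p.1 c.v) c.v) &&
    T.ts.all (fun p => Nat.beq (app p.1 c.v) c.v) &&
    decide ((T.ts.map fun p => app p.1 u).toFinset.card % 2 = 1) &&
    mem idm c.S &&
    T.S.all (fun s => !Nat.beq (app s c.v) c.v || !Nat.beq (cmp s s) idm || Nat.beq s idm ||
      cj.any fun p => let w := cmp s (cmp p.1 (cmp s p.2))
        !Nat.beq (cmp w w) idm)

theorem caseHyp_of_fixed {gens ginv : List ℕ} {l : ℕ} {T : Tab} {u : ℕ} {cj : List (ℕ × ℕ)}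
    {c : InCase} (h : fixedOK gens ginv l T u cj c = true) : CaseHyp gens l c := by
  classical
  simp only [fixedOK, Bool.and_eq_true, List.all_eq_true, mem_iff, Nat.beq_eq, Bool.or_eq_true,
    Bool.not_eq_true', ← Bool.not_eq_true, List.any_eq_true, decide_eq_true_eq,
    List.contains_iff_mem] at h
  obtain ⟨⟨⟨⟨⟨⟨⟨⟨⟨⟨hT, hu⟩, hok⟩, hv⟩, hA⟩, hccj⟩, hcj⟩, hts⟩, hodd⟩, hid⟩, hS⟩ := h
  have hgens := (Tab.spec_of_ok hT).code
  have hcjg : ∀ p ∈ cj, Gen gens p.1 ∧ app p.1 c.v = c.v ∧ cmp p.1 p.2 = idm ∧ Gen gens p.2 := by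
    intro p hp
    obtain ⟨⟨⟨h1, h2⟩, h3⟩, h4⟩ := hcj p hp
    refine ⟨Gen.of_mem hgens h1, h4, h2, ?_⟩
    have hh := hT
    simp only [Tab.ok, Bool.and_eq_true] at hh
    obtain ⟨⟨⟨⟨⟨⟨⟨_, hinv⟩, -⟩, -⟩, -⟩, -⟩, -⟩, -⟩ := hh
    obtain ⟨i, hi, e⟩ := List.getElem_of_mem h3
    rw [← e, ← List.getD_eq_getElem _ idm hi]
    exact ginv_gen hgens hinv i
  refine ⟨InCase.okX_of_ok hok, fun m hm => ?_, fun p hp => ?_, ?_⟩
  · obtain ⟨p, hp, rfl⟩ := hA m hm
    exact ⟨(hcjg p hp).1, (hcjg p hp).2.1⟩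
  · obtain ⟨r, hr, e1, e2⟩ := hccj p hp
    obtain ⟨a, b, c', -⟩ := hcjg r hr
    exact ⟨e1 ▸ a, e1 ▸ b, by rw [← e1, e2]; exact c'⟩
  intro B hB hB2 hBm hBc g hg
  by_cases hg1 : g = idm
  · rw [hg1]; exact hid
  exfalso
  -- a fixed point on the odd orbit
  set O := (T.ts.map fun p => app p.1 u).toFinset with hO
  have hgO : ∀ x ∈ O, app g x ∈ O := by
    intro x hx
    obtain ⟨p, hp, rfl⟩ := List.mem_map.1 (List.mem_toFinset.1 hx)
    obtain ⟨q, hq, s, hs, e⟩ := (Tab.spec_of_ok hT).factor _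
      ((hB g hg).1.mul ((Tab.spec_of_ok hT).ts_gen p hp).1)
    refine List.mem_toFinset.2 (List.mem_map.2 ⟨q, hq, ?_⟩)
    show app q.1 u = app g (app p.1 u)
    rw [← app_cmp g p.1, e, app_cmp, Tab.S_fix hT hu s hs]
  obtain ⟨x, hx, hfx⟩ : ∃ x ∈ O, app g x = x := by
    by_contra hc
    push Not at hc
    have hlt : ∀ x ∈ O, x < 256 := fun x hx => by
      obtain ⟨p, -, rfl⟩ := List.mem_map.1 (List.mem_toFinset.1 hx)
      exact app_lt _ _
    have h2 : (∏ _x ∈ O, (-1 : ℤ)) = 1 :=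
      Finset.prod_involution (fun x _ => app g x) (fun x _ => by norm_num) (fun x hx _ => hc x hx)
        hgO (fun x hx => by
          show app g (app g x) = x
          rw [← app_cmp, hB2 g hg, app_idm (hlt x hx)])
    rw [Finset.prod_const, Odd.neg_one_pow (Nat.odd_iff.2 hodd)] at h2
    norm_num at h2
  obtain ⟨p, hp, rfl⟩ := List.mem_map.1 (List.mem_toFinset.1 hx)
  obtain ⟨hpg, hpg', hpi⟩ := (Tab.spec_of_ok hT).ts_gen p hp
  have hpi' := left_inv_of_right hpg'.isCode hpg.isCode hpi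
  have hp2v : app p.2 c.v = c.v := by
    conv_lhs => rw [← hts p hp]
    rw [← app_cmp, hpi', app_idm hv]
  set s := cmp p.2 (cmp g p.1) with hs
  have hsB : s ∈ B := hBc p.2 p.1 hpg' hp2v hpi' hpg g hg
  have hsu : app s u = u := by
    have hu' := hu
    simp only [Tab.stabOK, Bool.and_eq_true, decide_eq_true_eq] at hu'
    show app (cmp p.2 (cmp g p.1)) u = u
    rw [app_cmp, app_cmp, hfx, ← app_cmp, hpi', app_idm hu'.1.2]
  rcases hS s (Tab.mem_of_fix hT hu (hB s hsB).1 hsu) with ((e | e) | e) | ⟨r, hr, e⟩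
  · exact e (hB s hsB).2
  · exact e (hB2 s hsB)
  · apply hg1
    have h1 : cmp (cmp g p.1) idm = cmp p.1 idm := by
      rw [cmp_idm (isCode_cmp _ _), cmp_idm hpg.isCode]
      refine cancel_left hpi' (isCode_cmp _ _) hpg.isCode ?_
      rw [hpi']; exact e
    rw [cmp_idm (isCode_cmp _ _), cmp_idm hpg.isCode] at h1
    refine cancel_right hpi (hB g hg).1.isCode isCode_idm ?_
    rw [h1, idm_cmp hpg.isCode]
  · obtain ⟨a, b, c', d⟩ := hcjg r hr
    exact e (hB2 _ (hBm _ hsB _ (hBc _ _ a b c' d s hsB)))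

/-- The vectors are covered. -/
def coverOK (l : ℕ) (cs : List (InCase × List (ℕ × ℕ))) : Bool :=
  (List.range 256).all fun v => Nat.beq v 0 || qv l v ||
    cs.any fun c => c.2.any fun p => Nat.beq (app p.2 v) c.1.v

theorem covered_of_ok {gens : List ℕ} {l : ℕ} {cs : List (InCase × List (ℕ × ℕ))}
    (h : coverOK l cs = true)
    (hcs : ∀ c ∈ cs, CaseHyp gens l c.1 ∧ ∀ p ∈ c.2, Gen gens p.2) : Covered ⟨gens, l⟩ := by
  intro v hv hv0 hq
  simp only [coverOK, List.all_eq_true, Bool.or_eq_true, Nat.beq_eq, List.any_eq_true,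
    List.mem_range] at h
  rcases h v hv with (e | e) | ⟨c, hc, p, hp, e⟩
  · exact absurd e hv0
  · exact absurd (hq.symm.trans e) Bool.false_ne_true
  · exact ⟨p.2, c.1, (hcs c hc).2 p hp, Or.inl (hcs c hc).1, e⟩

/-- An excluded vector with a table and a second exclusion; `cs` are the plain cases. -/
def caseOKT (gens ginv : List ℕ) (l : ℕ) (T : Tab) (c : InCase) (D : SecondData)
    (cs : List (InCase × List (ℕ × ℕ))) : Bool :=
  T.ok gens ginv && T.stabOK c.v && c.okX l D.L &&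
    c.A.all (fun a => mem a T.A) &&
    c.cj.all (fun p => mem p.1 T.A && Nat.beq (cmp p.1 p.2) idm) &&
    T.S.all (fun g => !Nat.beq (cmp g g) idm || mem g c.S) &&
    mem c.v D.O &&
    D.O.all (fun w => T.ts.any fun p => Nat.beq (app p.1 c.v) w) &&
    (List.range 256).all (fun v => Nat.beq v 0 || qv l v || mem v D.O ||
      cs.any fun c' => c'.2.any fun p => Nat.beq (app p.2 v) c'.1.v) &&
    (mem D.x D.O && !fv D.x c.v && mem (D.x ^^^ c.v) D.O && !mem D.x D.L) &&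
    T.S.all (fun s => D.O.all fun x =>
      !(!fv x c.v && mem (x ^^^ c.v) D.O && !mem x D.L) || mem (x ^^^ app s x) D.L) &&
    (T.ts.contains (D.m, D.n) && Nat.beq (app D.m c.v) D.u) &&
    (!Nat.beq D.u 0 && !Nat.beq D.u c.v && !Nat.beq D.u (D.x ^^^ c.v) && mem D.u D.L) &&
    (mem (app D.n c.v) D.L && mem (app D.n D.x) D.L) &&
    (T.ts.contains (D.m', D.n') && Nat.beq (app D.m' c.v) D.u') &&
    (!Nat.beq D.u' 0 && !Nat.beq D.u' c.v && !Nat.beq D.u' (D.x ^^^ c.v) && mem D.u' D.L) &&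
    (mem (app D.n' c.v) D.L && mem (app D.n' D.x) D.L) &&
    (!Nat.beq D.u D.u' && !Nat.beq (D.u ^^^ D.u') c.v) &&
  T.S.all (fun g => Nat.beq g idm || (c.A.any fun a => !Nat.beq (cmp g a) (cmp a g)) || mem g D.taus ||
      (let bad := D.O.filter fun w => !Nat.beq w c.v && !(T.ts.any fun p => Nat.beq (app p.1 c.v) w &&
          c.A.any fun a => !Nat.beq (cmp g (cmp p.1 (cmp a p.2))) (cmp (cmp p.1 (cmp a p.2)) g))
       bad.all fun w1 => bad.all fun w2 => Nat.beq w1 w2 || Nat.beq (w1 ^^^ w2) c.v))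

/-- Four maps of order 3 from the second, third and fourth generator. -/
def stdHs (gens : List ℕ) : List ℕ :=
  let a := gens.getD 1 idm
  let b := gens.getD 2 idm
  let u := gens.getD 3 idm
  [a, b, cmp u (cmp a u), cmp u (cmp b u)]

theorem tauHyp_std {gens : List ℕ} {l τ : ℕ} (hc : ∀ g ∈ gens, g < 2 ^ 64)
    (h : tauOK gens l τ (stdHs gens) = true) : TauHyp gens l τ := by
  have g := fun i => getD_gen (gens := gens) hc i
  refine ⟨_, h, fun x hx => ?_⟩
  simp only [stdHs, List.mem_cons, List.not_mem_nil, or_false] at hx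
  rcases hx with rfl | rfl | rfl | rfl
  exacts [g 1, g 2, (g 3).mul ((g 1).mul (g 3)), (g 3).mul ((g 2).mul (g 3))]

theorem caseHypT_of_ok {gens ginv : List ℕ} {l : ℕ} {T : Tab} {c : InCase} {D : SecondData}
    {cs : List (InCase × List (ℕ × ℕ))} (h : caseOKT gens ginv l T c D cs = true)
    (hcs : ∀ c' ∈ cs, CaseHyp gens l c'.1 ∧ ∀ p ∈ c'.2, Gen gens p.2)
    (htau : ∀ τ ∈ D.taus, TauHyp gens l τ) : CaseHypT gens l c D := by
  simp only [caseOKT, Bool.and_eq_true, List.all_eq_true, mem_iff, Nat.beq_eq, Bool.or_eq_true,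
    Bool.not_eq_true', ← Bool.not_eq_true, List.any_eq_true, List.contains_iff_mem, List.mem_range] at h
  obtain ⟨⟨⟨⟨⟨⟨⟨⟨⟨⟨⟨⟨⟨⟨⟨⟨⟨⟨hT, hv⟩, hok⟩, hA⟩, hcj⟩, hS⟩, hvO⟩, horb⟩, hrest⟩,
    ⟨⟨⟨hxO, hxv⟩, hxvO⟩, hxL⟩⟩, hinv⟩, ⟨hmn, hmu⟩⟩, ⟨⟨⟨hu0, huv⟩, hux⟩, huL⟩⟩, ⟨hnv, hnx⟩⟩, ⟨hmn', hmu'⟩⟩,
    ⟨⟨⟨hu0', huv'⟩, hux'⟩, huL'⟩⟩, ⟨hnv', hnx'⟩⟩, hdist⟩, huniq⟩ := h
  have hfix : ∀ a ∈ T.A, Gen gens a ∧ app a c.v = c.v := by
    intro a ha
    refine ⟨(Tab.spec_of_ok hT).A_gen a ha, ?_⟩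
    have hv' := hv
    simp only [Tab.stabOK, Bool.and_eq_true, List.all_eq_true, Nat.beq_eq] at hv'
    exact hv'.1.1 a ha
  have hts : ∀ p ∈ T.ts, Gen gens p.1 ∧ Gen gens p.2 ∧ cmp p.1 p.2 = idm := fun p hp =>
    (Tab.spec_of_ok hT).ts_gen p hp
  refine ⟨⟨hok, fun m hm => hfix m (hA m hm), fun p hp =>
    ⟨(hfix _ (hcj p hp).1).1, (hfix _ (hcj p hp).1).2, (hcj p hp).2⟩, ?_⟩, hvO, ?_, ?_,
    ⟨hxO, Bool.eq_false_iff.2 hxv, hxvO, hxL⟩, ?_, ?_, ⟨hu0, huv, hux, huL⟩, ⟨hnv, hnx⟩,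
    ⟨(hts _ hmn').1, (hts _ hmn').2.1, (hts _ hmn').2.2, hmu'⟩, ⟨hu0', huv', hux', huL'⟩, ⟨hnv', hnx'⟩,
    hdist, htau, ?_⟩
  · intro B hB hB2 _ _ g hg
    rcases hS g (Tab.mem_of_fix hT hv (hB g hg).1 (hB g hg).2) with e | e
    · exact absurd (hB2 g hg) e
    · exact e
  · intro w hw
    obtain ⟨p, hp, e⟩ := horb w hw
    exact ⟨p.1, p.2, (hts p hp).1, (hts p hp).2.1, (hts p hp).2.2, e⟩
  · intro w hw hw0 hq
    rcases hrest w hw with ((e | e) | e) | ⟨c', hc', p, hp, e⟩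
    · exact absurd e hw0
    · exact absurd (hq.symm.trans e) Bool.false_ne_true
    · exact Or.inl e
    · exact Or.inr ⟨p.2, c'.1, (hcs c' hc').2 p hp, (hcs c' hc').1, e⟩
  · rintro s hs hsv x ⟨hx1, hx2, hx3, hx4⟩
    rcases hinv s (Tab.mem_of_fix hT hv hs hsv) x hx1 with e | e
    · exact absurd ⟨⟨by simp [hx2], hx3⟩, hx4⟩ e
    · exact e
  · exact ⟨(hts _ hmn).1, (hts _ hmn).2.1, (hts _ hmn).2.2, hmu⟩
  · intro g hg hg1 hgv hgA
    rcases huniq g (Tab.mem_of_fix hT hv hg hgv) with ((e | ⟨a, ha, e⟩) | e) | e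
    · exact absurd e hg1
    · exact absurd (hgA a ha) e
    · exact Or.inl e
    refine Or.inr fun w1 hw1 w2 hw2 hv1 hv2 h12 hx12 => ?_
    have sep : ∀ w ∈ D.O, w ≠ c.v → Sep gens c g w ∨ w ∈ D.O.filter (fun w => !Nat.beq w c.v &&
        !(T.ts.any fun p => Nat.beq (app p.1 c.v) w &&
          c.A.any fun a => !Nat.beq (cmp g (cmp p.1 (cmp a p.2))) (cmp (cmp p.1 (cmp a p.2)) g))) := by
      intro w hw hwv
      by_cases hb : ∃ p ∈ T.ts, app p.1 c.v = w ∧
          ∃ a ∈ c.A, cmp g (cmp p.1 (cmp a p.2)) ≠ cmp (cmp p.1 (cmp a p.2)) g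
      · obtain ⟨p, hp, e1, a, ha, e2⟩ := hb
        exact Or.inl ⟨p.1, p.2, (hts p hp).1, (hts p hp).2.1, (hts p hp).2.2, e1, a, ha, e2⟩
      · right
        rw [List.mem_filter]
        refine ⟨hw, ?_⟩
        simp only [Bool.and_eq_true, Bool.not_eq_true', ← Bool.not_eq_true, List.any_eq_true, Nat.beq_eq]
        exact ⟨hwv, hb⟩
    rcases sep w1 hw1 hv1 with h1 | h1
    · exact Or.inl h1
    rcases sep w2 hw2 hv2 with h2 | h2
    · exact Or.inr h2
    rcases e w1 h1 w2 h2 with e' | e'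
    · exact absurd e' h12
    · exact absurd e' hx12

/-- Covering with second exclusions. -/
theorem covered_of_okX {gens : List ℕ} {l : ℕ} {cs : List (InCase × List (ℕ × ℕ))}
    (h : coverOK l cs = true)
    (hcs : ∀ c ∈ cs, (CaseHyp gens l c.1 ∨ ∃ D, CaseHypT gens l c.1 D) ∧ ∀ p ∈ c.2, Gen gens p.2) :
    Covered ⟨gens, l⟩ := by
  intro v hv hv0 hq
  simp only [coverOK, List.all_eq_true, Bool.or_eq_true, Nat.beq_eq, List.any_eq_true,
    List.mem_range] at h
  rcases h v hv with (e | e) | ⟨c, hc, p, hp, e⟩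
  · exact absurd e hv0
  · exact absurd (hq.symm.trans e) Bool.false_ne_true
  · exact ⟨p.2, c.1, (hcs c hc).2 p hp, (hcs c hc).1, e⟩

/-- A row: least fixed part, bound for the ordinary and for the special possibilities, and the kind
of the special one. -/
def rowP (c : OutCase) (r : ℕ × ℕ × ℕ × ℕ) (Ab L G : List ℕ) : Bool :=
  decide (r.1 ≤ Ab.length) && (decide (G.length * L.length ≤ r.2.1) ||
    (decide (G.length * L.length ≤ r.2.2.1) &&
      ((Nat.beq r.2.2.2 1 && Nat.beq Ab.length c.K.length && Nat.beq L.length 4 &&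
          L.all (fun x => mem x c.T)) ||
        (Nat.beq r.2.2.2 2 && Nat.beq Ab.length c.K.length &&
          Ab.any (fun w => !mem w L && G.all fun g => Nat.beq (app g w) w)) ||
        (Nat.beq r.2.2.2 3 && Nat.beq L.length 1 && decide (Ab.length < c.K.length) &&
          G.all fun g => c.K.all fun w => Nat.beq (app g w) w))))

/-- An involutory map with its table. -/
def outOK (gens ginv : List ℕ) (l : ℕ) (T : Tab) (c : OutCase) (r : ℕ × ℕ × ℕ × ℕ) : Bool :=
  T.ok gens ginv && T.centOK c.c && c.A.all (fun a => mem a T.A) &&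
    T.S.all (fun g => !(Nat.beq (cmp g g) idm || Nat.beq (cmp g g) c.c) || mem g c.S) &&
    c.ok l (rowP c r)

theorem outHyp_of_ok {gens ginv : List ℕ} {l : ℕ} {T : Tab} {c : OutCase}
    {r : ℕ × ℕ × ℕ × ℕ} (h : outOK gens ginv l T c r = true) : OutHyp gens l c (rowP c r) := by
  simp only [outOK, Bool.and_eq_true, List.all_eq_true, mem_iff, Bool.or_eq_true,
    Bool.not_eq_true'] at h
  obtain ⟨⟨⟨⟨hT, hc⟩, hA⟩, hS⟩, hok⟩ := h
  refine ⟨hok, fun m hm hmc hsq => ?_, fun m hm => ?_⟩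
  · rcases hS m (Tab.mem_of_comm hT hc hm hmc) with e | e
    · rw [Bool.or_eq_false_iff, ← Bool.not_eq_true, ← Bool.not_eq_true, Nat.beq_eq, Nat.beq_eq] at e
      exact (hsq.elim e.1 e.2).elim
    · exact e
  · refine ⟨(Tab.spec_of_ok hT).A_gen m (hA m hm), ?_⟩
    have hc' := hc
    simp only [Tab.centOK, Bool.and_eq_true, List.all_eq_true, Nat.beq_eq] at hc'
    exact hc'.1.1 m (hA m hm)

/-- The table of a class is indexed by the witnesses. -/
def witOK (T : Tab) (cs : List (OutCase × Tab)) : List ℕ → List (ℕ × ℕ) → Bool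
  | [], _ => true
  | x :: r, w =>
      bif Nat.beq x idm || !Nat.beq (cmp x x) idm then witOK T cs r w else
        match w with
        | [] => false
        | (i, k) :: w' =>
          (match cs[i]? with
            | none => false
            | some ct => let t := (ct.2.ts.getD k (idm, idm)).1
              Nat.beq (cmp x t) (cmp t ct.1.c)) && witOK T cs r w'

theorem witOK_spec {T : Tab} {cs : List (OutCase × Tab)} :
    ∀ (L : List ℕ) (w : List (ℕ × ℕ)), witOK T cs L w = true →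
      ∀ x ∈ L, x ≠ idm → cmp x x = idm → ∃ ct ∈ cs, ∃ t ∈ ct.2.ts, cmp x t.1 = cmp t.1 ct.1.c
  | [], _, _, x, hx => by simp at hx
  | a :: r, w, h, x, hx => fun hx1 hx2 => by
    cases hb : Nat.beq a idm || !Nat.beq (cmp a a) idm with
    | true =>
      rw [witOK.eq_def] at h
      simp only [hb, cond_true] at h
      rcases List.mem_cons.1 hx with rfl | hx
      · rw [Bool.or_eq_true, Bool.not_eq_true', ← Bool.not_eq_true, Nat.beq_eq, Nat.beq_eq] at hb
        rcases hb with e | e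
        exacts [absurd e hx1, absurd hx2 e]
      · exact witOK_spec r w h x hx hx1 hx2
    | false =>
      rw [witOK.eq_def] at h
      simp only [hb, cond_false] at h
      match w, h with
      | (i, k) :: w', h =>
        simp only [Bool.and_eq_true] at h
        rcases List.mem_cons.1 hx with rfl | hx
        · cases e : cs[i]? with
          | none => rw [e] at h; simp at h
          | some ct =>
            rw [e] at h
            simp only [Nat.beq_eq] at h
            refine ⟨ct, List.mem_of_getElem? e, ct.2.ts.getD k (idm, idm), ?_, h.1⟩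
            rw [List.getD_eq_getElem?_getD]
            cases e' : ct.2.ts[k]? with
            | none => exact List.mem_cons_self
            | some q => exact List.mem_of_getElem? e'
        · exact witOK_spec r w' h.2 x hx hx1 hx2

/-- Every involutory map is conjugate to a listed one. -/
theorem classified {gens ginv : List ℕ} {T : Tab} {u : ℕ} {cs : List (OutCase × Tab)}
    {w : List (ℕ × ℕ)} (hT : T.ok gens ginv = true) (hu : T.stabOK u = true)
    (hodd : (T.ts.map fun p => app p.1 u).toFinset.card % 2 = 1)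
    (hw : witOK T cs T.S w = true) (hct : ∀ ct ∈ cs, ct.2.ok gens ginv = true)
    {m : ℕ} (hm : Gen gens m) (hm1 : m ≠ idm) (hm2 : cmp m m = idm) :
    ∃ ct ∈ cs, ∃ h, Gen gens h ∧ cmp m h = cmp h ct.1.c := by
  classical
  set O := (T.ts.map fun p => app p.1 u).toFinset with hO
  have hgO : ∀ x ∈ O, app m x ∈ O := by
    intro x hx
    obtain ⟨p, hp, rfl⟩ := List.mem_map.1 (List.mem_toFinset.1 hx)
    obtain ⟨q, hq, s, hs, e⟩ := (Tab.spec_of_ok hT).factor _
      (hm.mul ((Tab.spec_of_ok hT).ts_gen p hp).1)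
    refine List.mem_toFinset.2 (List.mem_map.2 ⟨q, hq, ?_⟩)
    show app q.1 u = app m (app p.1 u)
    rw [← app_cmp m p.1, e, app_cmp, Tab.S_fix hT hu s hs]
  obtain ⟨x, hx, hfx⟩ : ∃ x ∈ O, app m x = x := by
    by_contra hc
    push Not at hc
    have hlt : ∀ x ∈ O, x < 256 := fun x hx => by
      obtain ⟨p, -, rfl⟩ := List.mem_map.1 (List.mem_toFinset.1 hx)
      exact app_lt _ _
    have h2 : (∏ _x ∈ O, (-1 : ℤ)) = 1 :=
      Finset.prod_involution (fun x _ => app m x) (fun x _ => by norm_num) (fun x hx _ => hc x hx)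
        hgO (fun x hx => by
          show app m (app m x) = x
          rw [← app_cmp, hm2, app_idm (hlt x hx)])
    rw [Finset.prod_const, Odd.neg_one_pow (Nat.odd_iff.2 hodd)] at h2
    norm_num at h2
  obtain ⟨p, hp, rfl⟩ := List.mem_map.1 (List.mem_toFinset.1 hx)
  obtain ⟨hpg, hpg', hpi⟩ := (Tab.spec_of_ok hT).ts_gen p hp
  have hpi' := left_inv_of_right hpg'.isCode hpg.isCode hpi
  set s := cmp p.2 (cmp m p.1) with hs
  have hsu : app s u = u := by
    have hu' := hu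
    simp only [Tab.stabOK, Bool.and_eq_true, decide_eq_true_eq] at hu'
    show app (cmp p.2 (cmp m p.1)) u = u
    rw [app_cmp, app_cmp, hfx, ← app_cmp, hpi', app_idm hu'.1.2]
  have hps : cmp p.1 s = cmp m p.1 := by rw [hs, ← cmp_assoc, hpi, idm_cmp (isCode_cmp _ _)]
  have hs2 : cmp s s = idm := by
    show cmp (cmp p.2 (cmp m p.1)) (cmp p.2 (cmp m p.1)) = idm
    rw [cmp_assoc p.2, cmp_assoc m, ← cmp_assoc p.1, hpi, idm_cmp (isCode_cmp _ _), ← cmp_assoc m,
      hm2, idm_cmp hpg.isCode, hpi']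
  have hs1 : s ≠ idm := fun e => hm1 <| by
    rw [e, cmp_idm hpg.isCode] at hps
    exact cancel_right hpi hm.isCode isCode_idm (by rw [← hps, idm_cmp hpg.isCode])
  obtain ⟨ct, hct', t, ht, e⟩ := witOK_spec T.S w hw s
    (Tab.mem_of_fix hT hu (hpg'.mul (hm.mul hpg)) hsu) hs1 hs2
  refine ⟨ct, hct', cmp p.1 t.1, hpg.mul ((Tab.spec_of_ok (hct ct hct')).ts_gen t ht).1, ?_⟩
  rw [← cmp_assoc, ← hps, cmp_assoc, e, ← cmp_assoc]

end Cfsg.Agent.U62Rec
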