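import Mathlib.GroupTheory.OrderOfElement
import Mathlib.Tactic.Group
import Mathlib.Algebra.Group.Subgroup.Lattice

/-!
# Two involutions

Either they are conjugate in the group they generate, or the product has even order and its
involutory power moves each of them to a conjugate of one of them.
-/

set_option autoImplicit false

open Subgroup

namespace Cfsg.Agent.U62Rec

variable {G : Type*} [Group G]

/-- The two possibilities. -/
theorem dihedral [Finite G] {a b : G} (ha : a * a = 1) (hb : b * b = 1) :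
    (∃ g ∈ closure ({a, b} : Set G), g * b * g⁻¹ = a) ∨
      ∃ j ∈ closure ({a, b} : Set G), j ≠ 1 ∧ j * j = 1 ∧ Commute j a ∧ Commute j b ∧
        (((∃ g ∈ closure ({a, b} : Set G), g * a * g⁻¹ = a * j) ∧
            (∃ g ∈ closure ({a, b} : Set G), g * b * g⁻¹ = b * j)) ∨
          ((∃ g ∈ closure ({a, b} : Set G), g * b * g⁻¹ = a * j) ∧
            (∃ g ∈ closure ({a, b} : Set G), g * a * g⁻¹ = b * j))) := by
  set S := closure ({a, b} : Set G) with hS
  have haS : a ∈ S := subset_closure (Set.mem_insert _ _)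
  have hbS : b ∈ S := subset_closure (Set.mem_insert_of_mem _ rfl)
  have hai : a⁻¹ = a := inv_eq_of_mul_eq_one_right ha
  have hbi : b⁻¹ = b := inv_eq_of_mul_eq_one_right hb
  set r := a * b with hr
  have hrS : r ∈ S := mul_mem haS hbS
  have hconj : ∀ t : G, t * r * t⁻¹ = r⁻¹ → ∀ i : ℕ, r ^ i * t * (r ^ i)⁻¹ = r ^ (2 * i) * t := by
    intro t ht i
    have h1 : t * r ^ i * t⁻¹ = (r ^ i)⁻¹ := by rw [← conj_pow, ht, inv_pow]
    have h2 : t * (r ^ i)⁻¹ = r ^ i * t := by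
      have := congrArg (fun u => u⁻¹) h1
      simp only [mul_inv_rev, inv_inv, ← mul_assoc] at this
      calc t * (r ^ i)⁻¹ = t * (r ^ i)⁻¹ * t⁻¹ * t := by group
        _ = r ^ i * t := by rw [this]
    rw [two_mul, pow_add, mul_assoc, h2, ← mul_assoc]
  have hia : a * r * a⁻¹ = r⁻¹ := by
    rw [hr, mul_inv_rev, hai, hbi, ← mul_assoc a a, ha, one_mul]
  have hib : b * r * b⁻¹ = r⁻¹ := by
    rw [hr, mul_inv_rev, hai, hbi, mul_assoc, mul_assoc a, hb, mul_one]
  have haba : r * a = a * b * a⁻¹ := by rw [hai]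
  have hiaba : r * a * r * (r * a)⁻¹ = r⁻¹ := by
    calc r * a * r * (r * a)⁻¹ = r * (a * r * a⁻¹) * r⁻¹ := by group
      _ = r⁻¹ := by rw [hia]; group
  rcases Nat.even_or_odd' (orderOf r) with ⟨m, hm | hm⟩
  swap
  · left
    refine ⟨r ^ m * a, mul_mem (pow_mem hrS m) haS, ?_⟩
    calc r ^ m * a * b * (r ^ m * a)⁻¹ = r ^ m * (r * a) * (r ^ m)⁻¹ := by
          rw [haba]; group
      _ = r ^ (2 * m) * (r * a) := hconj _ hiaba m
      _ = a := by rw [← mul_assoc, ← pow_succ, ← hm, pow_orderOf_eq_one, one_mul]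
  right
  have hm0 : 0 < m := by
    have := orderOf_pos r
    omega
  set j := r ^ m with hj
  have hjj : j * j = 1 := by
    rw [hj, ← pow_add, ← two_mul, ← hm, pow_orderOf_eq_one]
  have hji : j⁻¹ = j := inv_eq_of_mul_eq_one_right hjj
  have hcomm : ∀ t : G, t * r * t⁻¹ = r⁻¹ → Commute j t := by
    intro t ht
    have h1 : t * r ^ m * t⁻¹ = (r ^ m)⁻¹ := by rw [← conj_pow, ht, inv_pow]
    rw [← hj, hji] at h1
    exact (mul_inv_eq_iff_eq_mul.1 h1).symm
  refine ⟨j, pow_mem hrS m, fun e => ?_, hjj, hcomm a hia, hcomm b hib, ?_⟩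
  · have := orderOf_le_of_pow_eq_one hm0 (hj ▸ e)
    omega
  rcases Nat.even_or_odd' m with ⟨i, hi | hi⟩
  · left
    refine ⟨⟨r ^ i, pow_mem hrS i, ?_⟩, r ^ i, pow_mem hrS i, ?_⟩
    · rw [hconj a hia, ← hi, ← hj, (hcomm a hia).eq]
    · rw [hconj b hib, ← hi, ← hj, (hcomm b hib).eq]
  · right
    refine ⟨⟨r ^ i * a, mul_mem (pow_mem hrS i) haS, ?_⟩, r ^ i, pow_mem hrS i, ?_⟩
    · calc r ^ i * a * b * (r ^ i * a)⁻¹ = r ^ i * (r * a) * (r ^ i)⁻¹ := by rw [haba]; group
        _ = r ^ (2 * i) * (r * a) := hconj _ hiaba i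
        _ = a * j := by rw [← mul_assoc, ← pow_succ, ← hi, ← hj, (hcomm a hia).eq]
    · rw [hconj a hia, ← (hcomm b hib).eq, hj, hi, pow_succ, hr, mul_assoc, mul_assoc a, hb, mul_one]

end Cfsg.Agent.U62Rec
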