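import Cfsg.Agent.U62Rec.Local

/-!
# The component of a vertex

A member at distance two has exactly one neighbour in each fibre; so the component has diameter two
and 693 members.
-/

set_option autoImplicit false

open Cfsg Subgroup

namespace Cfsg.Agent.U62Rec

open Cfsg.Agent.LargeExtra Cfsg.Agent.ThreeTrans Cfsg.Agent.ThreeTrans.SpPSU

variable {G : Type*} [Group G]

/-- The members at distance at most two. -/
def comp2 (D : Set G) (x : G) : Set G :=
  {u | u ∈ D ∧ (u = x ∨ Commute x u ∨ ∃ y ∈ dperp D x, Commute y u)}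

theorem card_filter_countP {P : List ℕ} (hP : P.Nodup) (p : ℕ → Bool) :
    (P.toFinset.filter fun s => p s = true).card = P.countP p := by
  rw [List.countP_eq_length_filter, ← List.toFinset_filter,
    List.toFinset_card_of_nodup (hP.filter _)]

namespace NatCfg

variable [Finite G] {C : Cfg} {outs : List Out} {c : ℕ} {P : List ℕ} {D : Set G} {x y u : G}
variable (N : NatCfg C outs c P) (E : Env C D)
include N E

/-- The members over a set of points. -/
theorem ncard_over (M : Mod C x) (hx : x ∈ D) (hy : y ∈ dperp D x) (S : Finset ℕ)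
    (hS : ∀ s ∈ S, s ∈ P) : {w | w ∈ dperp D x ∧ M.rho w ∈ S}.ncard = 4 * S.card := by
  classical
  induction S using Finset.induction_on with
  | empty => simp
  | @insert s S hs ih =>
    obtain ⟨w, hw, rfl⟩ := N.exists_over E M hx hy (hS s (Finset.mem_insert_self _ _))
    have e : {v | v ∈ dperp D x ∧ M.rho v ∈ insert (M.rho w) S} =
        {v | v ∈ dperp D x ∧ M.rho v = M.rho w} ∪ {v | v ∈ dperp D x ∧ M.rho v ∈ S} := by
      ext v
      simp only [Set.mem_ofPred_eq, Finset.mem_insert, Set.mem_union]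
      tauto
    rw [e, Set.ncard_union_eq ?_ (Set.toFinite _) (Set.toFinite _), N.fibre_card E M hx hw,
      ih fun t ht => hS t (Finset.mem_insert_of_mem ht), Finset.card_insert_of_notMem hs]
    · omega
    · rw [Set.disjoint_left]
      exact fun v h1 h2 => hs (h1.2 ▸ h2.2)

theorem dperp_ncard (M : Mod C x) (hx : x ∈ D) (hy : y ∈ dperp D x) :
    (dperp D x).ncard = 180 := by
  classical
  have h := N.ncard_over E M hx hy P.toFinset fun s hs => List.mem_toFinset.1 hs
  rw [List.toFinset_card_of_nodup N.pts.nodup, N.pts.card] at h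
  convert h using 2
  ext w
  simp only [Set.mem_ofPred_eq, List.mem_toFinset]
  exact ⟨fun hw => ⟨hw, (N.nbr E M hx hw).2.2.2⟩, fun hw => hw.1⟩

/-- From one common neighbour to the fibres over collinear points. -/
theorem exists_near (M : Mod C x) (hx : x ∈ D) (hu : u ∈ D) (hnc : ¬ Commute x u)
    (hy : y ∈ dperp D x) (hyu : Commute y u) {q : ℕ} (hq : q ∈ P)
    (hyq : com (M.rho y) q = true) : ∃ w ∈ dperp D x, M.rho w = q ∧ Commute w u := by
  classical
  by_cases hqy : q = M.rho y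
  · exact ⟨y, hy, hqy.symm, hyu⟩
  obtain ⟨My⟩ := E.mods y hy.1
  have hxy : x ∈ dperp D y := N.dperp_symm E hx hy
  have huy : u ∈ dperp D y := ⟨hu, fun e => hnc (e ▸ hy.2.2), hyu⟩
  obtain ⟨-, -, -, hp⟩ := N.nbr E M hx hy
  obtain ⟨-, -, -, ha⟩ := N.nbr E My hy.1 hxy
  obtain ⟨-, -, -, hb⟩ := N.nbr E My hy.1 huy
  have hab : com (My.rho x) (My.rho u) = false := by
    rw [← Bool.not_eq_true]
    exact fun e => hnc ((N.commute_iff E My hy.1 hxy huy).2 e)
  set S := P.toFinset.filter fun s => (com (My.rho x) s && com (My.rho u) s) = true with hS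
  have hSP : ∀ s ∈ S, s ∈ P := fun s hs => List.mem_toFinset.1 (Finset.mem_filter.1 hs).1
  set W := {w | w ∈ dperp D y ∧ My.rho w ∈ S} with hW
  have hWc : W.ncard = 12 := by
    rw [hW, N.ncard_over E My hy.1 hxy S hSP, hS, card_filter_countP N.pts.nodup,
      N.pts.common _ ha _ hb hab]
  have hWm : ∀ w ∈ W, w ∈ dperp D x ∧ Commute w u ∧ Commute w y := by
    intro w hw
    obtain ⟨hwy, hws⟩ := hw
    have h2 := (Finset.mem_filter.1 hws).2
    simp only [Bool.and_eq_true] at h2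
    have h3 := (N.commute_iff E My hy.1 hxy hwy).2 h2.1
    have h4 := (N.commute_iff E My hy.1 huy hwy).2 h2.2
    exact ⟨⟨hwy.1, fun e => hnc (e ▸ h4.symm), h3⟩, h4.symm, hwy.2.2.symm⟩
  set T := (P.toFinset.filter fun s => com (M.rho y) s = true).erase (M.rho y) with hT
  have hTc : T.card = 12 := by
    rw [hT, Finset.card_erase_of_mem (Finset.mem_filter.2 ⟨List.mem_toFinset.2 hp, com_self _⟩),
      card_filter_countP N.pts.nodup, N.pts.degree _ hp]
  have hmaps : ∀ w ∈ W, M.rho w ∈ T := by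
    intro w hw
    obtain ⟨h1, h2, h3⟩ := hWm w hw
    refine Finset.mem_erase.2 ⟨fun e => hnc ?_, Finset.mem_filter.2
      ⟨List.mem_toFinset.2 (N.nbr E M hx h1).2.2.2, (N.commute_iff E M hx hy h1).1 h3.symm⟩⟩
    exact N.unique E M hx hy h1 e hw.1.2.1 hu h2 hyu
  have hinj : Set.InjOn M.rho W := by
    intro w hw w' hw' e
    by_contra hne
    obtain ⟨h1, h2, -⟩ := hWm w hw
    obtain ⟨h1', h2', -⟩ := hWm w' hw'
    exact hnc (N.unique E M hx h1 h1' e.symm (Ne.symm hne) hu h2' h2)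
  have himg : M.rho '' W = (T : Set ℕ) := by
    refine Set.eq_of_subset_of_ncard_le (fun _ ⟨w, hw, e⟩ => e ▸ hmaps w hw) ?_ (Finset.finite_toSet _)
    rw [Set.ncard_coe_finset, hTc, hinj.ncard_image, hWc]
  have hqT : q ∈ T := Finset.mem_erase.2 ⟨hqy, Finset.mem_filter.2 ⟨List.mem_toFinset.2 hq, hyq⟩⟩
  obtain ⟨w, hw, e⟩ : q ∈ M.rho '' W := by rw [himg]; exact hqT
  exact ⟨w, (hWm w hw).1, e, (hWm w hw).2.1⟩

/-- A member at distance two has a neighbour in each fibre. -/
theorem exists_nbr (M : Mod C x) (hx : x ∈ D) (hu : u ∈ D) (hnc : ¬ Commute x u)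
    (hy : y ∈ dperp D x) (hyu : Commute y u) {q : ℕ} (hq : q ∈ P) :
    ∃ w ∈ dperp D x, M.rho w = q ∧ Commute w u := by
  cases h : com (M.rho y) q with
  | true => exact N.exists_near E M hx hu hnc hy hyu hq h
  | false =>
    have h3 := N.pts.common _ (N.nbr E M hx hy).2.2.2 q hq h
    obtain ⟨s, hs, hc⟩ := (List.countP_pos_iff (p := fun s => com (M.rho y) s && com q s)
      (l := P)).1 (by omega)
    simp only [Bool.and_eq_true] at hc
    obtain ⟨v, hv, rfl, hvu⟩ := N.exists_near E M hx hu hnc hy hyu hs hc.1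
    exact N.exists_near E M hx hu hnc hv hvu hq (by rw [com_comm]; exact hc.2)

theorem self_mem_comp2 (hx : x ∈ D) : x ∈ comp2 D x := ⟨hx, Or.inl rfl⟩

/-- The component is closed under adjacency. -/
theorem comp2_closed {u' : G} (hx : x ∈ D) (hu : u ∈ comp2 D x) (hu' : u' ∈ D)
    (h : Commute u u') : u' ∈ comp2 D x := by
  classical
  by_cases hux : u = x
  · exact ⟨hu', Or.inr (Or.inl (hux ▸ h))⟩
  by_cases hc : Commute x u
  · exact ⟨hu', Or.inr (Or.inr ⟨u, ⟨hu.1, hux, hc⟩, h⟩)⟩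
  obtain ⟨y, hy, hyu⟩ := (hu.2.resolve_left hux).resolve_left hc
  by_cases huu : u' = u
  · rw [huu]; exact hu
  obtain ⟨M⟩ := E.mods x hx
  obtain ⟨Mu⟩ := E.mods u hu.1
  have hud : ∀ w ∈ dperp D x, Commute w u → w ∈ dperp D u := fun w hw hwu =>
    ⟨hw.1, fun e => hc (e ▸ hw.2.2), hwu.symm⟩
  set W := {w | w ∈ dperp D x ∧ Commute w u} with hW
  have hWc : P.toFinset.card ≤ W.ncard := by
    rw [← Set.ncard_coe_finset]
    refine le_trans (Set.ncard_le_ncard ?_ (Set.toFinite _)) (Set.ncard_image_le (f := M.rho))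
    intro q hq
    obtain ⟨w, hw, e, hwu⟩ := N.exists_nbr E M hx hu.1 hc hy hyu (List.mem_toFinset.1 hq)
    exact ⟨w, ⟨hw, hwu⟩, e⟩
  have hinj : Set.InjOn Mu.rho W := by
    intro w hw w' hw' e
    by_contra hne
    exact hc (N.unique E Mu hu.1 (hud w hw.1 hw.2) (hud w' hw'.1 hw'.2) e.symm (Ne.symm hne) hx
      hw'.1.2.2.symm hw.1.2.2.symm).symm
  have himg : Mu.rho '' W = (P.toFinset : Set ℕ) := by
    refine Set.eq_of_subset_of_ncard_le ?_ ?_ (Finset.finite_toSet _)
    · rintro _ ⟨w, hw, rfl⟩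
      exact List.mem_toFinset.2 (N.nbr E Mu hu.1 (hud w hw.1 hw.2)).2.2.2
    · rw [Set.ncard_coe_finset, hinj.ncard_image]; exact hWc
  have hu'd : u' ∈ dperp D u := ⟨hu', huu, h⟩
  obtain ⟨w, hw, e⟩ : Mu.rho u' ∈ Mu.rho '' W := by
    rw [himg]; exact List.mem_toFinset.2 (N.nbr E Mu hu.1 hu'd).2.2.2
  exact ⟨hu', Or.inr (Or.inr ⟨w, hw.1,
    N.same_commute E Mu hu.1 (hud w hw.1 hw.2) hu'd e.symm⟩)⟩

/-- The component has 693 members. -/
theorem comp2_ncard (M : Mod C x) (hx : x ∈ D) (hy : y ∈ dperp D x) :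
    (comp2 D x).ncard = 693 := by
  classical
  have := Fintype.ofFinite G
  set s : Finset G := (dperp D x).toFinset with hs
  set t : Finset G := (comp2 D x \ insert x (dperp D x)).toFinset with ht
  have hsc : s.card = 180 := by
    rw [hs, ← Set.ncard_eq_toFinset_card' , N.dperp_ncard E M hx hy]
  have hmt : ∀ u, u ∈ t ↔ u ∈ D ∧ ¬ Commute x u ∧ ∃ w ∈ dperp D x, Commute w u := by
    intro u
    rw [ht, Set.mem_toFinset, Set.mem_sdiff, Set.mem_insert_iff]
    show ((u ∈ D ∧ (u = x ∨ Commute x u ∨ ∃ w ∈ dperp D x, Commute w u)) ∧ _) ↔ _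
    constructor
    · rintro ⟨⟨hu, h⟩, hn⟩
      push Not at hn
      have hnc : ¬ Commute x u := fun e => hn.2 ⟨hu, hn.1, e⟩
      exact ⟨hu, hnc, (h.resolve_left hn.1).resolve_left hnc⟩
    · rintro ⟨hu, hnc, h⟩
      exact ⟨⟨hu, Or.inr (Or.inr h)⟩,
        not_or.2 ⟨fun e => hnc (e ▸ Commute.refl x), fun e => hnc e.2.2⟩⟩
  have hA : ∀ w ∈ s, (Finset.bipartiteAbove (fun a b => Commute a b) t w).card = 128 := by
    intro w hw
    rw [hs, Set.mem_toFinset] at hw
    obtain ⟨Mw⟩ := E.mods w hw.1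
    have hxw : x ∈ dperp D w := N.dperp_symm E hx hw
    obtain ⟨-, -, -, hp⟩ := N.nbr E Mw hw.1 hxw
    set S := P.toFinset.filter fun q => ¬ com (Mw.rho x) q = true
    have hSc : S.card = 32 := by
      simp only [S]
      have := Finset.card_filter_add_card_filter_not (s := P.toFinset)
        (fun q => com (Mw.rho x) q = true)
      rw [card_filter_countP N.pts.nodup, N.pts.degree _ hp,
        List.toFinset_card_of_nodup N.pts.nodup, N.pts.card] at this
      omega
    have h4 := N.ncard_over E Mw hw.1 hxw S fun q hq => List.mem_toFinset.1 (Finset.mem_filter.1 hq).1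
    rw [hSc] at h4
    rw [show (128 : ℕ) = 4 * 32 by norm_num, ← Set.ncard_coe_finset, ← h4]
    congr 1
    ext u
    simp only [Finset.coe_bipartiteAbove, Finset.mem_coe, Set.mem_ofPred_eq, hmt, S,
      Finset.mem_filter, List.mem_toFinset]
    constructor
    · rintro ⟨⟨hu, hnc, -⟩, hwu⟩
      have hud : u ∈ dperp D w := ⟨hu, fun e => hnc (e ▸ hw.2.2), hwu⟩
      exact ⟨hud, (N.nbr E Mw hw.1 hud).2.2.2,
        fun e => hnc ((N.commute_iff E Mw hw.1 hxw hud).2 e)⟩
    · rintro ⟨hud, -, hn⟩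
      exact ⟨⟨hud.1, fun e => hn ((N.commute_iff E Mw hw.1 hxw hud).1 e), w, hw, hud.2.2⟩, hud.2.2⟩
  have hB : ∀ u ∈ t, (Finset.bipartiteBelow (fun a b => Commute a b) s u).card = 45 := by
    intro u hu
    obtain ⟨huD, hnc, w, hw, hwu⟩ := (hmt u).1 hu
    rw [← N.pts.card, ← List.toFinset_card_of_nodup N.pts.nodup]
    refine Finset.card_bij (fun a _ => M.rho a) ?_ ?_ ?_
    · intro a ha
      simp only [Finset.mem_bipartiteBelow, hs, Set.mem_toFinset] at ha
      exact List.mem_toFinset.2 (N.nbr E M hx ha.1).2.2.2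
    · intro a ha b hb e
      simp only [Finset.mem_bipartiteBelow, hs, Set.mem_toFinset] at ha hb
      by_contra hne
      exact hnc (N.unique E M hx ha.1 hb.1 e.symm (Ne.symm hne) huD hb.2 ha.2)
    · intro q hq
      obtain ⟨a, ha, e, hau⟩ := N.exists_nbr E M hx huD hnc hw hwu (List.mem_toFinset.1 hq)
      exact ⟨a, by simp only [Finset.mem_bipartiteBelow, hs, Set.mem_toFinset]; exact ⟨ha, hau⟩, e⟩
  have htc : t.card = 512 := by
    have := Finset.card_mul_eq_card_mul (fun a b : G => Commute a b) hA hB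
    rw [hsc] at this
    omega
  have hsub : insert x (dperp D x) ⊆ comp2 D x := by
    rintro u (rfl | hu)
    · exact N.self_mem_comp2 E hx
    · exact ⟨hu.1, Or.inr (Or.inl hu.2.2)⟩
  have hins : (insert x (dperp D x)).ncard = 181 := by
    rw [Set.ncard_insert_of_notMem (fun h => h.2.1 rfl) (Set.toFinite _), N.dperp_ncard E M hx hy]
  have hdiff : (comp2 D x \ insert x (dperp D x)).ncard = 512 := by
    rw [Set.ncard_eq_toFinset_card', ← ht, htc]
  rw [← Set.ncard_sdiff_add_ncard_of_subset hsub (Set.toFinite _), hins, hdiff]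

end NatCfg

end Cfsg.Agent.U62Rec
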