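import Cfsg.Agent.U62Rec.Graph
import Cfsg.Agent.Coprime.SchurZassenhaus

/-!
# The group generated by a component

It is perfect, has no nontrivial abelian normal subgroup, and the component is a class of
3-transpositions with lines of five members.
-/

set_option autoImplicit false

open Cfsg Subgroup
open scoped commutatorElement

namespace Cfsg.Agent.U62Rec

open Cfsg.Agent.LargeExtra Cfsg.Agent.ThreeTrans Cfsg.Agent.ThreeTrans.SpPSU

variable {G : Type*} [Group G]

/-- A natural configuration with a vertex that has a neighbour. -/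
structure Ctx [Finite G] (C : Cfg) (outs : List Out) (c : ℕ) (P : List ℕ) (D : Set G) (z : G) :
    Prop where
  nat : NatCfg C outs c P
  env : Env C D
  hz : z ∈ D
  nbr : ∃ y, y ∈ dperp D z

namespace Ctx

variable [Finite G] {C : Cfg} {outs : List Out} {c : ℕ} {P : List ℕ} {D : Set G} {z a b : G}
variable (K : Ctx C outs c P D z)
include K

theorem inv_eq (ha : a ∈ D) : a⁻¹ = a := by
  obtain ⟨M⟩ := K.env.mods a ha
  exact M.zi

theorem mul_self (ha : a ∈ D) : a * a = 1 := by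
  obtain ⟨M⟩ := K.env.mods a ha
  exact M.zz

theorem exists_nbr (ha : a ∈ comp2 D z) : ∃ y, y ∈ dperp D a := by
  by_cases h : a = z
  · rw [h]; exact K.nbr
  rcases ha.2.resolve_left h with e | ⟨w, hw, e⟩
  · exact ⟨z, K.hz, Ne.symm h, e.symm⟩
  · by_cases hwa : w = a
    · exact ⟨z, K.hz, Ne.symm h, hwa ▸ hw.2.2.symm⟩
    · exact ⟨w, hw.1, hwa, e.symm⟩

theorem near (ha : a ∈ comp2 D z) (hb : b ∈ D) (h : Commute a b) : b ∈ comp2 D z :=
  K.nat.comp2_closed K.env K.hz ha hb h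

theorem comp2_eq (ha : a ∈ comp2 D z) : comp2 D a = comp2 D z := by
  have key : ∀ a b : G, a ∈ D → b ∈ D → b ∈ comp2 D a → comp2 D b ⊆ comp2 D a := by
    intro a b haD hbD hb u hu
    rcases hu.2 with rfl | h | ⟨w, hw, h⟩
    · exact hb
    · exact K.nat.comp2_closed K.env haD hb hu.1 h
    · exact K.nat.comp2_closed K.env haD (K.nat.comp2_closed K.env haD hb hw.1 hw.2.2) hu.1 h
  refine Set.Subset.antisymm (key z a K.hz ha.1 ha) (key a z ha.1 K.hz ?_)
  rcases ha.2 with h | h | ⟨w, hw, h⟩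
  · exact h ▸ ⟨ha.1, Or.inl rfl⟩
  · exact ⟨K.hz, Or.inr (Or.inl h.symm)⟩
  · refine ⟨K.hz, ?_⟩
    by_cases hwa : w = a
    · exact Or.inr (Or.inl (hwa ▸ hw.2.2.symm))
    · exact Or.inr (Or.inr ⟨w, ⟨hw.1, hwa, h.symm⟩, hw.2.2.symm⟩)

theorem common (ha : a ∈ comp2 D z) (hb : b ∈ comp2 D z) (h : ¬ Commute a b) :
    ∃ w ∈ dperp D a, Commute w b ∧ w ≠ b := by
  have hb' : b ∈ comp2 D a := by rw [K.comp2_eq ha]; exact hb
  rcases hb'.2 with e | e | ⟨w, hw, e⟩
  · exact absurd (e ▸ Commute.refl b : Commute a b) h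
  · exact absurd e h
  · exact ⟨w, hw, e, fun e' => h (e' ▸ hw.2.2)⟩

/-- A conjugate within the component. -/
theorem conj_mem (ha : a ∈ comp2 D z) (hb : b ∈ comp2 D z) : a * b * a⁻¹ ∈ comp2 D z := by
  by_cases h : Commute a b
  · rw [h.eq, mul_inv_cancel_right]; exact hb
  obtain ⟨w, hw, hwb, -⟩ := K.common ha hb h
  refine K.near (K.near ha hw.1 hw.2.2) (K.env.closed a b hb.1) ?_
  exact (hw.2.2.symm.mul_right hwb).mul_right hw.2.2.symm.inv_right

theorem three (ha : a ∈ comp2 D z) (hb : b ∈ comp2 D z) : (a * b) ^ 2 = 1 ∨ (a * b) ^ 3 = 1 := by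
  by_cases h : Commute a b
  · left
    rw [pow_two, mul_assoc, ← mul_assoc b a, ← h.eq, mul_assoc a b b, K.mul_self hb.1, mul_one,
      K.mul_self ha.1]
  right
  obtain ⟨w, hw, hwb, hne⟩ := K.common ha hb h
  obtain ⟨M⟩ := K.env.mods w hw.1
  exact K.nat.cube K.env M hw.1 ⟨ha.1, fun e => hw.2.1 e.symm, hw.2.2.symm⟩
    ⟨hb.1, fun e => hne e.symm, hwb⟩ h

theorem braid (ha : a ∈ comp2 D z) (hb : b ∈ comp2 D z) (h : ¬ Commute a b) :
    a * b * a * (a * b)⁻¹ = b := by
  have h3 : (a * b) ^ 3 = 1 := (K.three ha hb).resolve_left fun e => h (by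
    rw [pow_two, mul_eq_one_iff_eq_inv, mul_inv_rev, K.inv_eq ha.1, K.inv_eq hb.1] at e
    exact e)
  rw [mul_inv_rev, K.inv_eq ha.1, K.inv_eq hb.1]
  calc a * b * a * (b * a) = (a * b) ^ 3 * b := by
        rw [pow_succ, pow_two]
        simp only [mul_assoc]
        rw [K.mul_self hb.1, mul_one]
    _ = b := by rw [h3, one_mul]

/-- A member commuting with neither of two commuting members. -/
theorem exists_far (ha : a ∈ comp2 D z) (hb : b ∈ dperp D a) :
    ∃ u ∈ comp2 D z, ¬ Commute a u ∧ ¬ Commute b u := by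
  classical
  obtain ⟨M⟩ := K.env.mods a ha.1
  obtain ⟨w, ⟨hw, he⟩, hne⟩ := Set.exists_ne_of_one_lt_ncard
    (s := {w | w ∈ dperp D a ∧ M.rho w = M.rho b})
    (by rw [K.nat.fibre_card K.env M ha.1 hb]; norm_num) b
  obtain ⟨Mw⟩ := K.env.mods w hw.1
  have haw : a ∈ dperp D w := ⟨ha.1, hw.2.1.symm, hw.2.2.symm⟩
  obtain ⟨-, -, -, hp⟩ := K.nat.nbr K.env Mw hw.1 haw
  obtain ⟨q, hq, hqp⟩ : ∃ q ∈ P, com (Mw.rho a) q = false := by
    by_contra hc
    push Not at hc
    have := K.nat.pts.degree _ hp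
    rw [List.countP_eq_length.2 fun q hq => by simpa using hc q hq, K.nat.pts.card] at this
    omega
  obtain ⟨u, hu, hue⟩ := K.nat.exists_over K.env Mw hw.1 haw hq
  have hau : ¬ Commute a u := fun e => by
    rw [K.nat.commute_iff K.env Mw hw.1 haw hu, hue, hqp] at e
    simp at e
  exact ⟨u, K.near (K.near ha hw.1 hw.2.2) hu.1 hu.2.2, hau,
    fun e => hau (K.nat.unique K.env M ha.1 hb hw he hne hu.1 hu.2.2 e)⟩

theorem trans (ha : a ∈ comp2 D z) (hb : b ∈ comp2 D z) :
    ∃ g ∈ closure (comp2 D z), g * a * g⁻¹ = b := by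
  have key : ∀ a b : G, a ∈ comp2 D z → b ∈ comp2 D z → ¬ Commute a b →
      ∃ g ∈ closure (comp2 D z), g * a * g⁻¹ = b :=
    fun a b ha hb h => ⟨a * b, mul_mem (subset_closure ha) (subset_closure hb), K.braid ha hb h⟩
  by_cases hab : a = b
  · exact ⟨1, one_mem _, by rw [hab]; group⟩
  by_cases h : Commute a b
  · obtain ⟨u, hu, h1, h2⟩ := K.exists_far ha ⟨hb.1, Ne.symm hab, h⟩
    obtain ⟨g, hg, e⟩ := key a u ha hu h1
    obtain ⟨g', hg', e'⟩ := key u b hu hb fun e => h2 e.symm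
    exact ⟨g' * g, mul_mem hg' hg, by rw [← e', ← e]; group⟩
  · exact key a b ha hb h

theorem closure_conj {g : G} (hg : g ∈ closure (comp2 D z)) (ha : a ∈ comp2 D z) :
    g * a * g⁻¹ ∈ comp2 D z := by
  induction hg using Subgroup.closure_induction'' generalizing a with
  | mem x hx => exact K.conj_mem hx ha
  | inv_mem x hx => rw [K.inv_eq hx.1]; exact K.conj_mem hx ha
  | one => simpa using ha
  | mul x y _ _ ihx ihy =>
    rw [show x * y * a * (x * y)⁻¹ = x * (y * a * y⁻¹) * x⁻¹ by group]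
    exact ihx (ihy ha)

/-- `O₂(C z)` lies in the group. -/
theorem oc_le_closure : oc z ≤ closure (comp2 D z) := by
  obtain ⟨M⟩ := K.env.mods z K.hz
  obtain ⟨y, hy⟩ := K.nbr
  set U := closure (comp2 D z)
  have hzU : z ∈ U := subset_closure ⟨K.hz, Or.inl rfl⟩
  let S : Set ℕ := {v | ∃ i ∈ U ⊓ oc z, M.bar i = v}
  have hspan : ∀ v < 256, v ∈ S := by
    refine K.nat.pts.span S ⟨1, one_mem _, M.bar_one⟩ ?_ ?_
    · rintro _ ⟨i, hi, rfl⟩ _ ⟨j, hj, rfl⟩
      exact ⟨i * j, mul_mem hi hj, M.bar_mul i hi.2 j hj.2⟩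
    intro p hp v hv
    obtain ⟨w, hw, rfl⟩ := K.nat.exists_over K.env M K.hz hy hp
    obtain ⟨hc, -, hK, -⟩ := K.nat.nbr K.env M K.hz hw
    obtain ⟨j, hj, rfl⟩ := (M.mem_moved hc v).1 hv
    obtain ⟨i, hi, e⟩ := hK.moved_I j hj
    by_cases hi1 : i = 1
    · exact ⟨1, one_mem _, by rw [← e, hi1]⟩
    refine ⟨i, Subgroup.mem_inf.2 ⟨?_, hi.1⟩, e⟩
    have hm := (K.nat.fibre_mem K.env M K.hz hw hi hi1).1
    have h1 : i = w * (w * (i * z)) * z := by
      rw [← mul_assoc w w, K.mul_self hw.1, one_mul, mul_assoc, M.zz, mul_one]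
    rw [h1]
    exact mul_mem (mul_mem (subset_closure ⟨hw.1, Or.inr (Or.inl hw.2.2)⟩)
      (subset_closure ⟨hm.1, Or.inr (Or.inl hm.2.2)⟩)) hzU
  intro a ha
  obtain ⟨i, hi, e⟩ := hspan _ (M.bar_lt a)
  rcases (M.bar_eq_iff hi.2 ha).1 e with h | h <;> rw [h]
  · exact hi.1
  · exact mul_mem hi.1 hzU

/-- What commutes with the component is trivial. -/
theorem eq_one {n : G} (hn : ∀ u ∈ comp2 D z, Commute n u) : n = 1 := by
  obtain ⟨M⟩ := K.env.mods z K.hz
  have hcl : closure (comp2 D z) ≤ centralizer ({n} : Set G) :=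
    (closure_le _).2 fun u hu => mem_centralizer_singleton_iff.2 (hn u hu).eq.symm
  have hnz : n ∈ centralizer ({z} : Set G) :=
    mem_centralizer_singleton_iff.2 (hn z ⟨K.hz, Or.inl rfl⟩).eq
  have hno : n ∈ oc z := M.set.cent (mem_centralizer_iff.2 fun a ha =>
    mem_centralizer_singleton_iff.1 (hcl (K.oc_le_closure ha)))
  have h0 : M.bar n = 0 := by
    by_contra hne
    obtain ⟨w, hw, hf⟩ := fv_nondeg _ (M.bar_lt n) hne
    obtain ⟨a, ha, rfl⟩ := M.bar_surj w ((by decide : ∀ w ∈ [1, 2, 4, 8, 16, 32, 64, 128], w < 256) w hw)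
    have := (M.commute_iff hno ha).1
      (mem_centralizer_singleton_iff.1 (hcl (K.oc_le_closure ha))).symm
    rw [hf] at this
    simp at this
  rcases M.bar_eq n hno h0 with e | e
  · exact e
  exfalso
  obtain ⟨y, hy⟩ := K.nbr
  obtain ⟨u, hu, hu', -⟩ := K.exists_far ⟨K.hz, Or.inl rfl⟩ hy
  exact hu' (e ▸ hn u hu)

theorem perfect_mem {U : Subgroup G} (hU : ∀ g ∈ comp2 D z, g ∈ U)
    (ha : a ∈ comp2 D z) : a ∈ ⁅U, U⁆ := by
  have hpair : ∀ b b' : G, b ∈ comp2 D z → b' ∈ comp2 D z → b * b' ∈ ⁅U, U⁆ := by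
    intro b b' hb hb'
    obtain ⟨g, hg, e⟩ := K.trans hb hb'
    have hgU : g ∈ U := (closure_le U).2 hU hg
    have : b * b' = ⁅b, g⁆ := by rw [commutatorElement_def, K.inv_eq hb.1, ← e]; group
    rw [this]
    exact commutator_mem_commutator (hU b hb) hgU
  obtain ⟨M⟩ := K.env.mods a ha.1
  obtain ⟨y, hy⟩ := K.exists_nbr ha
  obtain ⟨-, -, hK, -⟩ := K.nat.nbr K.env M ha.1 hy
  have hI : ((oc a ⊓ oc y : Subgroup G) : Set G).ncard = 4 := by
    rw [← Nat.card_coe_set_eq]; exact hK.card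
  obtain ⟨i, hi, hi1⟩ := Set.exists_ne_of_one_lt_ncard (by omega) 1
    (s := ((oc a ⊓ oc y : Subgroup G) : Set G))
  obtain ⟨j, hj, hj'⟩ : ∃ j ∈ oc a ⊓ oc y, j ∉ ({1, i} : Set G) := by
    by_contra hcon
    push Not at hcon
    have := Set.ncard_le_ncard (s := ((oc a ⊓ oc y : Subgroup G) : Set G)) (t := {1, i})
      hcon (Set.toFinite _)
    have := Set.ncard_insert_le (1 : G) {i}
    rw [Set.ncard_singleton] at this
    omega
  simp only [Set.mem_insert_iff, Set.mem_singleton_iff, not_or] at hj'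
  have hjj : j * j = 1 := by
    rcases M.sq_cases hj.1 with e | e
    · exact e
    · exfalso
      refine K.nat.notMem_oc K.env M ha.1 hy ?_
      have := mul_mem (show j ∈ oc y from hj.2) (show j ∈ oc y from hj.2)
      rwa [e] at this
  have hk : j * i ∈ oc a ⊓ oc y := mul_mem hj hi
  have hk1 : j * i ≠ 1 := fun e => hj'.2 <| by
    calc j = j * (j * i) := by rw [e, mul_one]
      _ = i := by rw [← mul_assoc, hjj, one_mul]
  have mem : ∀ i ∈ oc a ⊓ oc y, i ≠ 1 → y * (i * a) ∈ comp2 D z := fun i hi hi1 =>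
    K.near ha (K.nat.fibre_mem K.env M ha.1 hy hi hi1).1.1 (K.nat.fibre_mem K.env M ha.1 hy hi hi1).1.2.2
  have hyc : Commute y (j * a) :=
    (K.nat.I_commute K.env M hj).2.symm.mul_right hy.2.2.symm
  have e : a = y * (y * (i * a)) * (y * (j * a) * (y * (j * i * a))) := by
    have hp : y * (j * a) * (y * (j * i * a)) = i := by
      rw [show y * (j * a) * (y * (j * i * a)) = y * ((j * a) * y) * (j * i * a) by group, ← hyc.eq,
        ← mul_assoc y y, K.mul_self hy.1, one_mul,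
        show j * a * (j * i * a) = j * (a * (j * i)) * a by group, (M.set.comm_z hk.1).symm.eq,
        show j * (j * i * a) * a = j * j * i * (a * a) by group, hjj, M.zz, one_mul, mul_one]
    rw [hp, ← mul_assoc y y, K.mul_self hy.1, one_mul, mul_assoc, ← (M.set.comm_z hi.1).eq, ← mul_assoc]
    rcases M.sq_cases hi.1 with e | e
    · rw [e, one_mul]
    · exfalso
      refine K.nat.notMem_oc K.env M ha.1 hy ?_
      have := mul_mem (show i ∈ oc y from hi.2) (show i ∈ oc y from hi.2)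
      rwa [e] at this
  rw [e]
  exact mul_mem (hpair _ _ (K.near ha hy.1 hy.2.2) (mem i hi hi1))
    (hpair _ _ (mem j hj hj'.1) (mem _ hk hk1))

/-- No abelian subgroup normalised by the component is nontrivial. -/
theorem abelian_eq_bot {N : Subgroup G} (hle : N ≤ closure (comp2 D z))
    (hab : ∀ u ∈ N, ∀ v ∈ N, u * v = v * u)
    (hn : ∀ d ∈ comp2 D z, ∀ n ∈ N, d * n * d ∈ N) : N = ⊥ := by
  -- commuting pairs
  have hC : ∀ x y : G, x ∈ comp2 D z → y ∈ dperp D x → x * y ∈ N → False := by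
    intro x y hx hy hxy
    obtain ⟨M⟩ := K.env.mods x hx.1
    obtain ⟨-, -, -, hp⟩ := K.nat.nbr K.env M hx.1 hy
    obtain ⟨q, hq, hqp⟩ : ∃ q ∈ P, com (M.rho y) q = false := by
      by_contra hc
      push Not at hc
      have := K.nat.pts.degree _ hp
      rw [List.countP_eq_length.2 fun q hq => by simpa using hc q hq, K.nat.pts.card] at this
      omega
    obtain ⟨d, hd, hde⟩ := K.nat.exists_over K.env M hx.1 hy hq
    have hyd : ¬ Commute y d := fun e => by
      rw [K.nat.commute_iff K.env M hx.1 hy hd, hde, hqp] at e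
      simp at e
    have hdX := K.near hx hd.1 hd.2.2
    have hyy := K.mul_self hy.1
    have hxx := K.mul_self hx.1
    have hdd := K.mul_self hd.1
    have h1 : x * (d * y * d) ∈ N := by
      have := hn d hdX _ hxy
      rwa [show d * (x * y) * d = d * x * (y * d) by group, ← hd.2.2.eq,
        show x * d * (y * d) = x * (d * y * d) by group] at this
    have h2 : y * (d * y * d) ∈ N := by
      have := mul_mem hxy h1
      rwa [show x * y * (x * (d * y * d)) = x * (y * x) * (d * y * d) by group, ← hy.2.2.eq,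
        ← mul_assoc x x, hxx, one_mul] at this
    have h3 : y * d ∈ N := by
      have h4 : (y * d) ^ 3 = 1 := (K.three (K.near hx hy.1 hy.2.2) hdX).resolve_left fun e => hyd <| by
        rw [pow_two, mul_eq_one_iff_eq_inv, mul_inv_rev, K.inv_eq hd.1, K.inv_eq hy.1] at e
        exact e
      have : y * d = (y * (d * y * d))⁻¹ := by
        refine eq_inv_of_mul_eq_one_left ?_
        rw [← h4]
        simp only [pow_succ, pow_zero, one_mul, mul_assoc]
      rw [this]; exact inv_mem h2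
    have h5 := hab _ h3 _ hxy
    apply hyd
    rw [show x * y * (y * d) = x * (y * y) * d by group, hyy, mul_one,
      show y * d * (x * y) = y * (d * x) * y by group, ← hd.2.2.eq,
      show y * (x * d) * y = y * x * (d * y) by group, ← hy.2.2.eq, mul_assoc, mul_right_inj] at h5
    calc y * d = y * (y * (d * y)) := by rw [h5]
      _ = d * y := by rw [← mul_assoc, hyy, one_mul]
  rw [Subgroup.eq_bot_iff_forall]
  intro n hnN
  refine K.eq_one fun u hu => ?_
  by_contra hnu
  -- `u` and its conjugate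
  set v := n * u * n⁻¹ with hv
  have huv : u * v ∈ N := by
    have := mul_mem (hn u hu n hnN) (inv_mem hnN)
    rwa [show u * n * u * n⁻¹ = u * v by rw [hv]; group] at this
  have hvne : v ≠ u := fun e => hnu (mul_inv_eq_iff_eq_mul.1 e)
  have hvD : v ∈ D := K.env.closed n u hu.1
  have huu := K.mul_self hu.1
  by_cases hc : Commute u v
  · exact hC u v hu ⟨hvD, hvne, hc⟩ huv
  have hvX : v ∈ comp2 D z := K.closure_conj (hle hnN) hu
  obtain ⟨w, hw, hwv, hwne⟩ := K.common hu hvX hc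
  obtain ⟨Mv⟩ := K.env.mods v hvD
  have hwd : w ∈ dperp D v := ⟨hw.1, hwne, hwv.symm⟩
  obtain ⟨d, ⟨hd, he⟩, hdne⟩ := Set.exists_ne_of_one_lt_ncard
    (s := {d | d ∈ dperp D v ∧ Mv.rho d = Mv.rho w})
    (by rw [K.nat.fibre_card K.env Mv hvD hwd]; norm_num) w
  have hdX := K.near hvX hd.1 hd.2.2
  have hud : ¬ Commute d u := fun e =>
    hc (K.nat.unique K.env Mv hvD hwd hd he hdne hu.1 e hw.2.2.symm).symm
  have hdd := K.mul_self hd.1
  have h1 : u * (d * u * d) ∈ N := by
    have := mul_mem huv (inv_mem (hn d hdX _ huv))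
    rw [show d * (u * v) * d = d * u * (v * d) by group, hd.2.2.eq,
      show d * u * (d * v) = d * u * d * v by group, mul_inv_rev, ← mul_assoc, mul_assoc u v,
      mul_inv_cancel, mul_one, mul_inv_rev, mul_inv_rev, K.inv_eq hd.1, K.inv_eq hu.1] at this
    simpa only [mul_assoc] using this
  have h2 : u * d ∈ N := by
    have h4 : (u * d) ^ 3 = 1 := (K.three hu hdX).resolve_left fun e => hud <| by
      rw [pow_two, mul_eq_one_iff_eq_inv, mul_inv_rev, K.inv_eq hd.1, K.inv_eq hu.1] at e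
      exact e.symm
    have : u * d = (u * (d * u * d))⁻¹ := by
      refine eq_inv_of_mul_eq_one_left ?_
      rw [← h4]
      simp only [pow_succ, pow_zero, one_mul, mul_assoc]
    rw [this]; exact inv_mem h1
  refine hC v d hvX hd ?_
  have := mul_mem (inv_mem huv) h2
  rwa [mul_inv_rev, K.inv_eq hvD, K.inv_eq hu.1, mul_assoc, ← mul_assoc u u, huu, one_mul] at this

end Ctx

end Cfsg.Agent.U62Rec
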