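import Cfsg.Agent.U62Rec.Group
import Cfsg.Agent.ThreeTrans.SpPSU.UnitaryIso
import Cfsg.Agent.Leech.UnitaryIso
import Cfsg.Agent.Classical.UnitaryThreeTwo

/-!
# The group of a component is `U₆(2)`

The classification of 3-transposition groups with twins gives a unitary group; the order fixes the
rank.
-/

set_option autoImplicit false

open Cfsg Subgroup
open scoped commutatorElement

namespace Cfsg.Agent.U62Rec

open Cfsg.Agent.LargeExtra Cfsg.Agent.ThreeTrans Cfsg.Agent.ThreeTrans.SpPSU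

variable {G : Type*} [Group G]

theorem card_psu_cases {F : Type*} [Field F] [Fintype F] (hF : Fintype.card F = 4) {n k : ℕ}
    (hn : 2 ≤ n) (hk : k ≤ 51840) (h : Nat.card (Cfsg.PSU n F 2) = 693 * (512 * k)) :
    n = 6 ∧ k = 25920 := by
  have e := Cfsg.Agent.Leech.Model.card_PSU_mul (F := F) (q := 2) (n := n) (by rw [hF]; norm_num) hn
  rw [h] at e
  have hg : Nat.gcd n (2 + 1) ≤ 3 := Nat.le_of_dvd (by norm_num) (Nat.gcd_dvd_right _ _)
  set g := Nat.gcd n (2 + 1) with hgdef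
  by_cases h7 : 7 ≤ n
  · exfalso
    have h1 : (2 : ℕ) ^ 21 ≤ 2 ^ (n * (n - 1) / 2) := by
      refine Nat.pow_le_pow_right (by norm_num) ?_
      have : 7 * 6 ≤ n * (n - 1) := Nat.mul_le_mul h7 (by omega)
      omega
    have h2 : 325852065 ≤ ∏ i ∈ Finset.range n,
        (if Even i then (2 : ℕ) ^ (i + 1) + 1 else 2 ^ (i + 1) - 1) := by
      refine le_trans ?_ (Finset.prod_le_prod_of_subset_of_one_le'
        (Finset.range_subset_range.2 h7) fun i _ _ => ?_)
      · decide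
      · have : 2 ≤ (2 : ℕ) ^ (i + 1) := by
          calc (2 : ℕ) = 2 ^ 1 := rfl
            _ ≤ _ := Nat.pow_le_pow_right (by norm_num) (by omega)
        split_ifs <;> omega
    have h3 := Nat.mul_le_mul h1 h2
    rw [← e] at h3
    have h4 : g * (693 * (512 * k)) ≤ 3 * (693 * (512 * k)) := Nat.mul_le_mul_right _ hg
    norm_num at h3
    omega
  interval_cases n <;> norm_num [Finset.prod_range_succ, Nat.even_iff, hgdef] at e <;> omega

theorem subsingleton_psu {F : Type*} [Field F] {n q : ℕ} (hn : n ≤ 1) :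
    Subsingleton (Cfsg.PSU n F q) := by
  have hs : Subsingleton (Matrix.SpecialLinearGroup (Fin n) F) := by
    refine ⟨fun a b => ?_⟩
    interval_cases n
    · exact Matrix.SpecialLinearGroup.ext _ _ fun i => i.elim0
    · refine Matrix.SpecialLinearGroup.ext _ _ fun i j => ?_
      have ha := a.det_coe
      have hb := b.det_coe
      rw [Matrix.det_fin_one] at ha hb
      rw [Subsingleton.elim i 0, Subsingleton.elim j 0, ha, hb]
  exact Quotient.instSubsingletonQuotient _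

namespace Ctx

variable [Finite G] {C : Cfg} {outs : List Out} {c : ℕ} {P : List ℕ} {D : Set G} {z : G}
variable (K : Ctx C outs c P D z)
include K

/-- The component as a subset of its group. -/
def memSet (D : Set G) (z : G) : Set ↥(closure (comp2 D z)) := {d | (d : G) ∈ comp2 D z}

theorem sub_hyp : Hyp (memSet D z) := by
  classical
  set U := closure (comp2 D z) with hU
  have hX : ∀ g ∈ comp2 D z, g ∈ U := fun g hg => subset_closure hg
  obtain ⟨M⟩ := K.env.mods z K.hz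
  have hz0 : z ∈ comp2 D z := ⟨K.hz, Or.inl rfl⟩
  have hperf : commutator ↥U = ⊤ := by
    refine eq_top_iff.2 fun g _ => ?_
    have h1 : (g : G) ∈ ⁅U, U⁆ :=
      (closure_le _).2 (fun a ha => K.perfect_mem hX ha) g.2
    rw [← map_subtype_commutator] at h1
    obtain ⟨g', hg', e⟩ := h1
    rwa [← Subtype.ext (a1 := g') (a2 := g) e]
  refine ⟨fun N hN hsol => ?_, by rw [hperf, ← commutator_def, hperf],
    ⟨⟨fun d hd => ?_, fun d hd e he => ?_⟩, ⟨⟨z, hX z hz0⟩, hz0, ?_⟩, ?_⟩, ?_⟩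
  · by_contra hne
    obtain ⟨A, hAn, hAc, -, hA⟩ := Cfsg.Agent.Coprime.exists_minimal_normal_abelian N hne hsol
    refine hA ?_
    have h0 : A.map U.subtype = ⊥ := by
      refine K.abelian_eq_bot (map_subtype_le A) ?_ ?_
      · rintro _ ⟨u, hu, rfl⟩ _ ⟨v, hv, rfl⟩
        have := congrArg (U.subtype) (congrArg Subtype.val (hAc.is_comm.comm ⟨u, hu⟩ ⟨v, hv⟩))
        simpa using this
      · rintro d hd _ ⟨u, hu, rfl⟩
        refine ⟨⟨d, hX d hd⟩ * u * ⟨d, hX d hd⟩⁻¹, hAn.conj_mem u hu _, ?_⟩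
        show d * (u : G) * d⁻¹ = d * (u : G) * d
        rw [K.inv_eq hd.1]
    exact (map_eq_bot_iff_of_injective _ U.subtype_injective).1 h0
  · rw [← Subgroup.orderOf_coe]
    obtain ⟨Md⟩ := K.env.mods _ (show (d : G) ∈ D from hd.1)
    exact Md.set.ord
  · rcases K.three hd he with e' | e'
    · exact Or.inl (Subtype.ext (by simpa using e'))
    · exact Or.inr (Subtype.ext (by simpa using e'))
  · ext d
    show (d : G) ∈ comp2 D z ↔ IsConj (⟨z, hX z hz0⟩ : ↥U) d
    rw [isConj_iff]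
    constructor
    · intro hd
      obtain ⟨g, hg, e⟩ := K.trans hz0 hd
      exact ⟨⟨g, hg⟩, Subtype.ext e⟩
    · rintro ⟨g, rfl⟩
      exact K.closure_conj g.2 hz0
  · exact closure_closure_coe_preimage
  · obtain ⟨y, hy⟩ := K.nbr
    obtain ⟨w, ⟨hw, he⟩, hne⟩ := Set.exists_ne_of_one_lt_ncard
      (s := {w | w ∈ dperp D z ∧ M.rho w = M.rho y})
      (by rw [K.nat.fibre_card K.env M K.hz hy]; norm_num) y
    have hyX : y ∈ comp2 D z := ⟨hy.1, Or.inr (Or.inl hy.2.2)⟩
    have hwX : w ∈ comp2 D z := ⟨hw.1, Or.inr (Or.inl hw.2.2)⟩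
    refine ⟨⟨z, hX z hz0⟩, ⟨y, hX y hyX⟩, ⟨w, hX w hwX⟩, hz0,
      ⟨hyX, fun e => hy.2.1 (congrArg Subtype.val e), LocalLines.commute_coe.1 hy.2.2⟩,
      ⟨hwX, fun e => hw.2.1 (congrArg Subtype.val e), LocalLines.commute_coe.1 hw.2.2⟩,
      fun e => hne (congrArg Subtype.val e).symm, fun e he' hye => ?_⟩
    have hed : (e : G) ∈ dperp D z :=
      ⟨he'.1.1, fun e' => he'.2.1 (Subtype.ext e'), LocalLines.commute_coe.2 he'.2.2⟩
    refine LocalLines.commute_coe.1 ?_
    rw [K.nat.commute_iff K.env M K.hz hw hed, he, ← K.nat.commute_iff K.env M K.hz hy hed]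
    exact LocalLines.commute_coe.2 hye

theorem sub_line {y : G} (hy : y ∈ dperp D z) (hzU : z ∈ closure (comp2 D z))
    (hyU : y ∈ closure (comp2 D z)) :
    (line (memSet D z) ⟨z, hzU⟩ ⟨y, hyU⟩).ncard = 5 := by
  classical
  obtain ⟨M⟩ := K.env.mods z K.hz
  have hz0 : z ∈ comp2 D z := ⟨K.hz, Or.inl rfl⟩
  have himg : Subtype.val '' (line (memSet D z) ⟨z, hzU⟩ ⟨y, hyU⟩) = line D z y := by
    ext w
    constructor
    · rintro ⟨v, ⟨hv, hv'⟩, rfl⟩
      refine ⟨hv.1, fun e he => ?_⟩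
      have heX : e ∈ comp2 D z := K.near hz0 he.1 he.2.1.symm
      exact LocalLines.commute_coe.2 (hv' ⟨e, subset_closure heX⟩
        ⟨heX, LocalLines.commute_coe.1 he.2.1, LocalLines.commute_coe.1 he.2.2⟩)
    · rintro ⟨hw, hw'⟩
      have hwX : w ∈ comp2 D z := K.near hz0 hw (hw' z ⟨K.hz, Commute.refl _, hy.2.2⟩)
      refine ⟨⟨w, subset_closure hwX⟩, ⟨hwX, fun e he => LocalLines.commute_coe.1 ?_⟩, rfl⟩
      exact hw' e ⟨he.1.1, LocalLines.commute_coe.2 he.2.1, LocalLines.commute_coe.2 he.2.2⟩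
  rw [← Set.ncard_image_of_injective _ Subtype.val_injective, himg,
    K.nat.line_eq K.env M K.hz hy, Set.ncard_insert_of_notMem (fun h => h.1.2.1 rfl) (Set.toFinite _),
    K.nat.fibre_card K.env M K.hz hy]

/-- `U = U₆(2)`, and the stabiliser of `z` in it has order `2⁹·25920`. -/
theorem ident (hb : Nat.card ↥(centralizer ({z} : Set G)) ≤ 512 * 51840) {F : Type*} [Field F]
    [Fintype F] (hF : Fintype.card F = 4) :
    Nonempty (↥(closure (comp2 D z)) ≃* Cfsg.PSU 6 F 2) ∧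
      Nat.card ↥(closure (comp2 D z) ⊓ centralizer ({z} : Set G)) = 512 * 25920 := by
  classical
  set U := closure (comp2 D z) with hU
  obtain ⟨M⟩ := K.env.mods z K.hz
  obtain ⟨y, hy⟩ := K.nbr
  have hz0 : z ∈ comp2 D z := ⟨K.hz, Or.inl rfl⟩
  have hyX : y ∈ comp2 D z := ⟨hy.1, Or.inr (Or.inl hy.2.2)⟩
  have S := K.sub_hyp
  set z' : ↥U := ⟨z, subset_closure hz0⟩ with hz'
  set y' : ↥U := ⟨y, subset_closure hyX⟩ with hy'
  have hy'd : y' ∈ dperp (memSet D z) z' :=
    ⟨hyX, fun e => hy.2.1 (congrArg Subtype.val e), LocalLines.commute_coe.1 hy.2.2⟩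
  have h5 := K.sub_line hy (subset_closure hz0) (subset_closure hyX)
  obtain ⟨e, he, hne⟩ := Cfsg.Agent.ThreeTrans.exists_not_commute S.cls
    ⟨z', hz0, y', hyX, fun e => hy.2.1 (congrArg Subtype.val e).symm⟩ (show z' ∈ memSet D z from hz0)
  have B : Base (memSet D z) z' e := ⟨S, hz0, he, hne⟩
  obtain ⟨Co⟩ := B.exists_coord_four fun b hb' => by
    rw [S.line_card (x := z') hz0 hb' (a := z') hz0 hy'd]; exact h5
  have : Fintype (Rep (memSet D z) z' e) := Fintype.ofFinite _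
  obtain ⟨F', _, _, n, hF', ⟨ψ⟩⟩ := Co.exists_psu
  -- the order
  have hK : U ⊓ centralizer ({z} : Set G) ≤ U := inf_le_left
  have hcard : Nat.card ↥U = 693 * Nat.card ↥(U ⊓ centralizer ({z} : Set G)) := by
    rw [card_fibres (fun g => g * z * g⁻¹) U _ hK fun a ha b hb' => ?_, ← K.nat.comp2_ncard K.env M K.hz hy]
    · congr 2
      ext u
      constructor
      · rintro ⟨g, hg, rfl⟩
        exact K.closure_conj hg hz0
      · intro hu
        obtain ⟨g, hg, e⟩ := K.trans hz0 hu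
        exact ⟨g, hg, e⟩
    · rw [Subgroup.mem_inf, mem_centralizer_singleton_iff]
      constructor
      · intro e
        refine ⟨mul_mem (inv_mem ha) hb', ?_⟩
        calc a⁻¹ * b * z = a⁻¹ * (b * z * b⁻¹) * b := by group
          _ = z * (a⁻¹ * b) := by rw [← e]; group
      · rintro ⟨-, e⟩
        calc a * z * a⁻¹ = a * (z * (a⁻¹ * b)) * b⁻¹ := by group
          _ = b * z * b⁻¹ := by rw [← e]; group
  have hoc : Nat.card ↥(oc z) = 512 := by
    rw [M.card_bar le_rfl M.z_mem,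
      show M.bar '' (oc z : Set G) = ((Finset.range 256 : Finset ℕ) : Set ℕ) from ?_,
      Set.ncard_coe_finset, Finset.card_range]
    ext v
    simp only [Set.mem_image, Finset.coe_range, Set.mem_Iio]
    exact ⟨fun ⟨a, _, e⟩ => e ▸ M.bar_lt a, fun hv => M.bar_surj v hv⟩
  have hle : oc z ≤ U ⊓ centralizer ({z} : Set G) := le_inf K.oc_le_closure (oc_le z)
  obtain ⟨k, hk⟩ : 512 ∣ Nat.card ↥(U ⊓ centralizer ({z} : Set G)) :=
    hoc ▸ Subgroup.card_dvd_of_le hle
  have hkb : k ≤ 51840 := by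
    have := le_trans (Subgroup.card_le_of_le (inf_le_right : U ⊓ centralizer ({z} : Set G) ≤ _)) hb
    omega
  have hpsu : Nat.card (Cfsg.PSU n F' 2) = 693 * (512 * k) := by
    rw [← Nat.card_congr ψ.toEquiv, ← hk, hcard]
  have hn : 2 ≤ n := by
    by_contra hn
    have : Subsingleton (Cfsg.PSU n F' 2) := subsingleton_psu (by omega)
    rw [Nat.card_of_subsingleton 1] at hpsu
    omega
  obtain ⟨rfl, rfl⟩ := card_psu_cases hF' hn hkb hpsu
  obtain ⟨φ⟩ := Cfsg.Agent.Classical.U32.psu_congr (n := 6) (q := 2)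
    (FiniteField.ringEquivOfCardEq (hF'.trans hF.symm))
  exact ⟨⟨ψ.trans φ⟩, hk⟩

end Ctx

end Cfsg.Agent.U62Rec
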