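import Cfsg.Agent.U62Rec.InJCheck

/-!
# A map induced by a commuting conjugate with common part

For a map `τ` whose fixed space is singular and equal to its moved space: if it is induced by a
conjugate `f` of `z` and `oc z ∩ oc f ≠ 1`, the lifts in `oc f` give an invariant linear section
over the fixed space, and the commutators with `f` an invariant quadratic function.
-/

set_option autoImplicit false

open Cfsg Subgroup

namespace Cfsg.Agent.U62Rec

open Cfsg.Agent.LargeExtra

/-- The fixed vectors. -/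
def fixL (τ : ℕ) : List ℕ := (List.range 256).filter fun v => Nat.beq (app τ v) v

/-- The value at `u` of the quadratic function with polar form `fv a (τ b + b)` and values `b`. -/
def qc (τ b : ℕ) : ℕ → ℕ → Bool
  | 0, _ => false
  | n + 1, u =>
    bif Nat.testBit u n then
      (qc τ b n u ^^ Nat.testBit b n ^^
        fv (u % 2 ^ n) (app τ (2 ^ n) ^^^ 2 ^ n))
    else qc τ b n u

/-- The finite conditions: `hs` are maps of order 3 commuting with `τ`. -/
def tauOK (gens : List ℕ) (l τ : ℕ) (hs : List ℕ) : Bool :=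
  decide (τ < 2 ^ 64) && Nat.beq (cmp τ τ) idm && !Nat.beq τ idm &&
    (fixL τ).all (fun v => !qv l v && (List.range 256).any fun u => Nat.beq (app τ u ^^^ u) v) &&
    hs.all (fun h => Nat.beq (cmp (cmp h h) h) idm && Nat.beq (cmp h τ) (cmp τ h)) &&
    (fixL τ).all (fun v => Nat.beq v 0 ||
      (let L := close hs 4 [0, v]; (fixL τ).all fun w => mem w L)) &&
    (List.range 256).all (fun b =>
      (List.range 256).any fun u => hs.any fun h => qc τ b 8 (app h u) != qc τ b 8 u)

/-- The hypotheses for the exclusion. -/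
structure TauHyp (gens : List ℕ) (l τ : ℕ) : Prop where
  ok : ∃ hs, tauOK gens l τ hs = true ∧ ∀ h ∈ hs, Gen gens h

namespace Mod

variable {G : Type*} [Group G] [Finite G] {C : Cfg} {z : G} (M : Mod C z)
include M

/-- Such a map is not induced by a conjugate of `z` with nontrivial common part. -/
theorem tau_absurd {τ : ℕ} (hT : TauHyp C.gens C.l τ) {g : G}
    (hy : g * z * g⁻¹ ∈ centralizer ({z} : Set G)) (hρ : M.rho (g * z * g⁻¹) = τ) {t : G}
    (ht : t ∈ oc z) (ht' : t ∈ oc (g * z * g⁻¹)) (ht1 : t ≠ 1) : False := by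
  classical
  obtain ⟨hs, hok, hgen⟩ := hT
  simp only [tauOK, Bool.and_eq_true, Bool.not_eq_true', decide_eq_true_eq, Nat.beq_eq,
    List.all_eq_true, List.any_eq_true, ← Bool.not_eq_true, mem_iff, List.mem_range, Bool.or_eq_true,
    bne_iff_ne] at hok
  obtain ⟨⟨⟨⟨⟨⟨-, hinv⟩, hne⟩, hK⟩, hh3⟩, hirr⟩, hno⟩ := hok
  let My : Mod C (g * z * g⁻¹) := M.conj g
  set f := g * z * g⁻¹ with hfdef
  have hff : f * f = 1 := My.zz
  have hfi : f⁻¹ = f := My.zi
  have hfn : f ∉ oc z := fun e => hne (by rw [← hρ]; exact (M.rho_ker f hy).2 e)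
  have hzn : z ∉ oc f := by
    intro hz
    have e : g⁻¹ * f * g⁻¹⁻¹ = z := by rw [hfdef]; group
    have h := My.set.symm (show g⁻¹ * f * g⁻¹⁻¹ ∈ oc f by rw [e]; exact hz)
    rw [e] at h
    exact hfn h
  have hmemK : ∀ {v}, v ∈ fixL τ ↔ v < 256 ∧ app τ v = v := fun {v} => by
    simp [fixL, List.mem_filter, Nat.beq_eq]
  -- commutators with `f`
  set d : G → G := fun j => f * j * f⁻¹ * j⁻¹ with hd
  have hdm : ∀ j ∈ oc z, d j ∈ oc z := fun j hj => mul_mem (M.oc_norm hy hj) (inv_mem hj)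
  have hdb : ∀ j ∈ oc z, M.bar (d j) = app τ (M.bar j) ^^^ M.bar j := fun j hj => by
    rw [hd, M.bar_mul _ (M.oc_norm hy hj) _ (inv_mem hj), M.rho_act f hy j hj, hρ, M.bar_inv hj]
  have hττ : ∀ u < 256, app τ (app τ u) = u := fun u hu => by rw [← app_cmp, hinv, app_idm hu]
  -- what is fixed commutes with `f`
  have hfixc : ∀ x ∈ oc z, M.bar x ∈ fixL τ → Commute f x := by
    intro x hx hxK
    obtain ⟨hq, u, hu, hux⟩ := hK _ hxK
    obtain ⟨j, hj, rfl⟩ := M.bar_surj u hu
    have hq' : d j * d j = 1 := (M.sq_eq (hdm j hj)).2 (by rw [hdb j hj, hux]; simpa using hq)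
    have hc : Commute f (d j) := by
      have e : f * d j * f⁻¹ = (d j)⁻¹ := by
        simp only [hd]
        calc f * (f * j * f⁻¹ * j⁻¹) * f⁻¹ = f * f * j * f⁻¹ * j⁻¹ * f⁻¹ := by group
          _ = j * f * j⁻¹ * f⁻¹ := by rw [hff, hfi]; group
          _ = _ := by group
      rw [inv_eq_of_mul_eq_one_right hq', mul_inv_eq_iff_eq_mul] at e
      exact e
    rcases (M.bar_eq_iff (hdm j hj) hx).1 (by rw [hdb j hj, hux]) with e | e <;> rw [e]
    · exact hc
    · exact hc.mul_right (M.commz hy)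
  -- the common part
  set I' := oc z ⊓ oc f with hI'
  set I := M.bar '' (I' : Set G) with hI
  have hIK : ∀ a ∈ I', M.bar a ∈ fixL τ := fun a ha => hmemK.2 ⟨M.bar_lt a, by
    rw [← hρ, ← M.rho_act f hy a ha.1, ← (My.commz (oc_le f ha.2)).eq, mul_inv_cancel_right]⟩
  -- lifts of the maps of order 3
  have hlift : ∀ h ∈ hs, ∃ k ∈ centralizer ({z} : Set G), M.rho k = h ∧ Commute k f := by
    intro h hh
    obtain ⟨h3, hcomm⟩ := hh3 h hh
    obtain ⟨k, hk, rfl⟩ := M.exists_rho (hgen h hh)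
    have hkf : k * f * k⁻¹ ∈ centralizer ({z} : Set G) := mul_mem (mul_mem hk hy) (inv_mem hk)
    set a := k * f * k⁻¹ * f⁻¹ with ha
    have haC : a ∈ centralizer ({z} : Set G) := mul_mem hkf (inv_mem hy)
    have haoc : a ∈ oc z := by
      refine (M.rho_ker a haC).1 ?_
      rw [ha, M.rho_mul _ hkf _ (inv_mem hy), M.rho_mul _ (mul_mem hk hy) _ (inv_mem hk),
        M.rho_mul k hk f hy, hρ, hcomm, cmp_assoc τ, (M.rho_cancel hk).1,
        cmp_idm (by rw [← hρ]; exact M.rho_code f), ← hρ, (M.rho_cancel hy).1]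
    have haK : M.bar a ∈ fixL τ := by
      refine hmemK.2 ⟨M.bar_lt a, ?_⟩
      rw [← hρ, ← M.rho_act f hy a haoc, show f * a * f⁻¹ = a⁻¹ by
        rw [ha, hfi]
        calc f * (k * f * k⁻¹ * f) * f = f * (k * f * k⁻¹) * (f * f) := by group
          _ = f * (k * f * k⁻¹) := by rw [hff, mul_one]
          _ = _ := by
            simp only [mul_inv_rev, inv_inv, hfi, mul_assoc]]
      exact M.bar_inv haoc
    obtain ⟨-, u, hu, hua⟩ := hK _ haK
    obtain ⟨j, hj, rfl⟩ := M.bar_surj u hu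
    have hjC := oc_le z hj
    -- `k f k⁻¹` is a conjugate of `f` under `j`, up to `z`
    have hcases : ∃ j ∈ oc z, k * f * k⁻¹ = j * f * j⁻¹ ∨ k * f * k⁻¹ = j * f * j⁻¹ * z := by
      have e0 : k * f * k⁻¹ = a * f := by rw [ha]; group
      have e1 : j * f * j⁻¹ = (d j)⁻¹ * f := by
        simp only [hd, mul_inv_rev, inv_inv]; group
      have eb : M.bar (d j)⁻¹ = M.bar a := by rw [M.bar_inv (hdm j hj), hdb j hj, hua]
      refine ⟨j, hj, ?_⟩
      rcases (M.bar_eq_iff (inv_mem (hdm j hj)) haoc).1 eb with e | e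
      · left; rw [e0, e, e1]
      · right; rw [e0, e, e1, mul_assoc (d j)⁻¹ z f, ← (M.commz hy).eq, ← mul_assoc]
    obtain ⟨j', hj', hcase⟩ := hcases
    have hj'C := oc_le z hj'
    refine ⟨j'⁻¹ * k, mul_mem (inv_mem hj'C) hk, ?_, ?_⟩
    · rw [M.rho_mul _ (inv_mem hj'C) k hk, (M.rho_ker _ (inv_mem hj'C)).2 (inv_mem hj'),
        idm_cmp (M.rho_code k)]
    set k1 := j'⁻¹ * k with hk1
    have hk1C : k1 ∈ centralizer ({z} : Set G) := mul_mem (inv_mem hj'C) hk
    have hzj : Commute j' z := M.set.comm_z hj'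
    have hk1f : k1 * f * k1⁻¹ = f ∨ k1 * f * k1⁻¹ = f * z := by
      have e : k1 * f * k1⁻¹ = j'⁻¹ * (k * f * k⁻¹) * j' := by rw [hk1]; group
      rcases hcase with e' | e'
      · left; rw [e, e']; group
      · right
        rw [e, e', show j'⁻¹ * (j' * f * j'⁻¹ * z) * j' = f * (j'⁻¹ * z * j') by group,
          mul_assoc j'⁻¹, ← hzj.eq, inv_mul_cancel_left]
    rcases hk1f with e | e
    · exact mul_inv_eq_iff_eq_mul.1 e
    exfalso
    have hzk : k1 * z * k1⁻¹ = z := by rw [(M.commz hk1C).eq, mul_inv_cancel_right]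
    have e1 : k1 * (f * z) * k1⁻¹ = f := by
      rw [show k1 * (f * z) * k1⁻¹ = k1 * f * k1⁻¹ * (k1 * z * k1⁻¹) by group, e, hzk, mul_assoc, M.zz,
        mul_one]
    have e2 : k1 * k1 * k1 * f * (k1 * k1 * k1)⁻¹ = f * z := by
      rw [show k1 * k1 * k1 * f * (k1 * k1 * k1)⁻¹ = k1 * (k1 * (k1 * f * k1⁻¹) * k1⁻¹) * k1⁻¹ by
        group, e, e1, e]
    set c := k1 * k1 * k1 with hc
    have hρk : M.rho k1 = M.rho k := by
      rw [hk1, M.rho_mul _ (inv_mem hj'C) k hk, (M.rho_ker _ (inv_mem hj'C)).2 (inv_mem hj'),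
        idm_cmp (M.rho_code k)]
    have hcoc : c ∈ oc z := by
      refine (M.rho_ker c (mul_mem (mul_mem hk1C hk1C) hk1C)).1 ?_
      rw [hc, M.rho_mul _ (mul_mem hk1C hk1C) _ hk1C, M.rho_mul _ hk1C _ hk1C, hρk]
      exact h3
    have hcK : M.bar c ∈ fixL τ := by
      refine hmemK.2 ⟨M.bar_lt c, ?_⟩
      rw [← hρ, ← M.rho_act f hy c hcoc]
      have e3 : f * c * f⁻¹ = c * z := by
        rw [mul_inv_eq_iff_eq_mul] at e2
        calc f * c * f⁻¹ = f * (c * f) * (f * f)⁻¹ := by group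
          _ = f * (f * z * c) := by rw [hff, inv_one, mul_one, e2]
          _ = f * f * (z * c) := by group
          _ = c * z := by rw [hff, one_mul, (M.set.comm_z hcoc).eq]
      rw [e3, M.bar_mul_z hcoc]
    have e4 : f * z = f := by
      rw [← e2, ← (hfixc c hcoc hcK).eq, mul_inv_cancel_right]
    exact M.z_ne (mul_eq_left.1 e4)
  -- the common part is the whole fixed space
  have hx : ∀ a ∈ I, ∀ b ∈ I, a ^^^ b ∈ I := by
    rintro _ ⟨a, ha, rfl⟩ _ ⟨b, hb, rfl⟩
    exact ⟨a * b, mul_mem ha hb, M.bar_mul a ha.1 b hb.1⟩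
  have hinvI : ∀ h ∈ hs, ∀ a ∈ I, app h a ∈ I := by
    rintro h hh _ ⟨a, ha, rfl⟩
    obtain ⟨k, hk, rfl, hkf⟩ := hlift h hh
    refine ⟨k * a * k⁻¹, Subgroup.mem_inf.2 ⟨M.oc_norm hk ha.1, ?_⟩, M.rho_act k hk a ha.1⟩
    refine My.oc_norm ?_ ha.2
    exact mem_centralizer_singleton_iff.2 hkf.eq
  have htI : t ∈ I' := Subgroup.mem_inf.2 ⟨ht, ht'⟩
  have ht0 : M.bar t ≠ 0 := fun e => by
    rcases M.bar_eq t ht e with e' | e'
    exacts [ht1 e', hzn (e' ▸ ht')]
  have hfull : ∀ v ∈ fixL τ, v ∈ I := by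
    intro v hv
    have hsub := close_sub (X := I) hx hinvI 4 [0, M.bar t] fun a ha => by
      simp only [List.mem_cons, List.not_mem_nil, or_false] at ha
      rcases ha with rfl | rfl
      exacts [⟨1, one_mem _, M.bar_one⟩, ⟨t, htI, rfl⟩]
    exact hsub v ((hirr _ (hIK t htI)).resolve_left ht0 v hv)
  -- for each commutator exactly one lift is in `oc f`
  have hdK : ∀ j ∈ oc z, M.bar (d j) ∈ fixL τ := fun j hj => hmemK.2 ⟨M.bar_lt _, by
    rw [hdb j hj, app_xor, hττ _ (M.bar_lt j), Nat.xor_comm]⟩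
  have hex : ∀ x ∈ oc z, M.bar x ∈ fixL τ → (x * z ∈ oc f ↔ x ∉ oc f) := by
    intro x hx' hxK
    refine ⟨fun h1 h2 => hzn ?_, fun h2 => ?_⟩
    · simpa using mul_mem (inv_mem h2) h1
    · obtain ⟨i, hi, e⟩ := hfull _ hxK
      rcases (M.bar_eq_iff hi.1 hx').1 e with e' | e'
      · exact absurd (e' ▸ hi.2) h2
      · rw [e', mul_assoc, M.zz, mul_one]; exact hi.2
  -- the quadratic function
  choose lift hlm hlb using fun u : ℕ => (M.bar_surj (u % 256) (Nat.mod_lt _ (by norm_num)))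
  let cf : ℕ → Bool := fun u => decide (d (lift u) ∉ oc f)
  have hdz : ∀ j ∈ oc z, d (j * z) = d j := by
    intro j hj
    simp only [hd]
    rw [show f * (j * z) * f⁻¹ * (j * z)⁻¹ = f * j * (z * f⁻¹ * z⁻¹) * j⁻¹ by group,
      ((M.commz hy).symm.inv_right).eq, mul_inv_cancel_right]
  have hcf : ∀ j ∈ oc z, cf (M.bar j) = decide (d j ∉ oc f) := by
    intro j hj
    have e : M.bar (lift (M.bar j)) = M.bar j := by rw [hlb, Nat.mod_eq_of_lt (M.bar_lt j)]
    simp only [cf]
    have hm := hlm (M.bar j)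
    generalize lift (M.bar j) = j0 at e hm ⊢
    rcases (M.bar_eq_iff hm hj).1 e with e' | e' <;> subst e'
    · rfl
    · rw [hdz _ hm]
  have hcadd : ∀ a < 256, ∀ b < 256, cf (a ^^^ b) = (cf a ^^ cf b ^^ fv a (app τ b ^^^ b)) := by
    intro a ha b hb
    obtain ⟨j1, h1, rfl⟩ := M.bar_surj a ha
    obtain ⟨j2, h2, rfl⟩ := M.bar_surj b hb
    rw [← M.bar_mul j1 h1 j2 h2, hcf _ (mul_mem h1 h2), hcf _ h1, hcf _ h2, ← hdb j2 h2]
    have e : d (j1 * j2) = d j1 * (j1 * d j2 * j1⁻¹) := by simp only [hd]; group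
    have hK2 := hdK j2 h2
    have hj1d : j1 * d j2 * j1⁻¹ = if fv (M.bar j1) (M.bar (d j2)) then d j2 * z else d j2 := by
      cases hf : fv (M.bar j1) (M.bar (d j2)) with
      | false =>
        rw [((M.commute_iff h1 (hdm j2 h2)).2 hf).eq, mul_inv_cancel_right]; rfl
      | true =>
        rcases M.set.commutator_cases h1 (hdm j2 h2) with e' | e'
        · exfalso
          have hc : Commute j1 (d j2) := by
            rw [mul_inv_eq_one, mul_inv_eq_iff_eq_mul] at e'; exact e'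
          rw [(M.commute_iff h1 (hdm j2 h2)).1 hc] at hf; cases hf
        · rw [mul_inv_eq_iff_eq_mul] at e'
          rw [e', (M.set.comm_z (hdm j2 h2)).eq]; rfl
    rw [e, hj1d]
    have hK1 := hdK j1 h1
    have hex2 := hex _ (hdm j2 h2) hK2
    have key : ∀ x ∈ oc z, ∀ y ∈ oc z, M.bar x ∈ fixL τ → M.bar y ∈ fixL τ →
        (x * y ∈ oc f ↔ (x ∈ oc f ↔ y ∈ oc f)) := by
      intro x hx' y hy' hxK hyK
      by_cases p : x ∈ oc f
      · simp [p, (oc f).mul_mem_cancel_left p]
      by_cases q : y ∈ oc f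
      · simp [p, q, (oc f).mul_mem_cancel_right q]
      simp only [p, q, iff_self, iff_true]
      have h3 := mul_mem ((hex x hx' hxK).2 p) ((hex y hy' hyK).2 q)
      rwa [show x * z * (y * z) = x * y by
        rw [(M.set.comm_z hy').eq, ← mul_assoc, mul_assoc x z z, M.zz, mul_one]] at h3
    cases fv (M.bar j1) (M.bar (d j2)) with
    | false =>
      simp only [Bool.false_eq_true, ↓reduceIte, key _ (hdm j1 h1) _ (hdm j2 h2) hK1 hK2]
      by_cases p : d j1 ∈ oc f <;> by_cases q : d j2 ∈ oc f <;> simp [p, q]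
    | true =>
      simp only [↓reduceIte, key _ (hdm j1 h1) _ (mul_mem (hdm j2 h2) M.z_mem) hK1
        (by rw [M.bar_mul_z (hdm j2 h2)]; exact hK2), hex2]
      by_cases p : d j1 ∈ oc f <;> by_cases q : d j2 ∈ oc f <;> simp [p, q]
  have hcinv : ∀ h ∈ hs, ∀ u < 256, cf (app h u) = cf u := by
    intro h hh u hu
    obtain ⟨k, hk, rfl, hkf⟩ := hlift h hh
    obtain ⟨j, hj, rfl⟩ := M.bar_surj u hu
    rw [← M.rho_act k hk j hj, hcf _ (M.oc_norm hk hj), hcf _ hj]
    have e : d (k * j * k⁻¹) = k * d j * k⁻¹ := by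
      simp only [hd]
      conv_lhs => rw [show f = k * f * k⁻¹ by rw [hkf.eq, mul_inv_cancel_right]]
      group
    have hkC : k ∈ centralizer ({f} : Set G) := mem_centralizer_singleton_iff.2 hkf.eq
    rw [e, decide_eq_decide, not_iff_not]
    refine ⟨fun h' => ?_, My.oc_norm hkC⟩
    have := My.oc_norm (inv_mem hkC) h'
    rwa [show k⁻¹ * (k * d j * k⁻¹) * k⁻¹⁻¹ = d j by group] at this
  obtain ⟨b, hb, hbc⟩ : ∃ b < 256, ∀ i < 8, Nat.testBit b i = cf (2 ^ i) := by
    have : ∀ n, ∃ b < 2 ^ n, ∀ i < n, Nat.testBit b i = cf (2 ^ i) := by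
      intro n
      induction n with
      | zero => exact ⟨0, by norm_num, fun i hi => absurd hi (by omega)⟩
      | succ n ih =>
        obtain ⟨b, hb, hb'⟩ := ih
        refine ⟨b + cond (cf (2 ^ n)) (2 ^ n) 0, ?_, fun i hi => ?_⟩
        · rw [pow_succ]; cases cf (2 ^ n) <;> simp <;> omega
        · rcases Nat.lt_succ_iff_lt_or_eq.1 hi with h | rfl
          · rw [← hb' i h]
            cases cf (2 ^ n)
            · simp
            · simp only [cond_true]
              rw [add_comm, Nat.testBit_two_pow_add_gt h]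
          · cases h : cf (2 ^ i)
            · simp [Nat.testBit_eq_false_of_lt hb]
            · simp [add_comm b, Nat.testBit_two_pow_add_eq, Nat.testBit_eq_false_of_lt hb]
    exact this 8
  have hc0 : cf 0 = false := by
    have := hcadd 0 (by norm_num) 0 (by norm_num)
    rw [Nat.xor_self, app_zero, Nat.xor_self, fv_zero] at this
    revert this; cases cf 0 <;> simp
  have hq : ∀ n ≤ 8, ∀ u < 256, qc τ b n u = cf (u % 2 ^ n) := by
    intro n
    induction n with
    | zero => intro _ u _; simp [qc, hc0, Nat.mod_one]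
    | succ n ih =>
      intro hn u hu
      simp only [qc]
      rw [ih (by omega) u hu]
      cases hbit : Nat.testBit u n with
      | false =>
        have : u % 2 ^ (n + 1) = u % 2 ^ n := by
          refine Nat.eq_of_testBit_eq fun i => ?_
          simp only [Nat.testBit_mod_two_pow]
          rcases lt_trichotomy i n with h | rfl | h
          · simp [h, Nat.lt_succ_of_lt h]
          · simp [hbit]
          · simp [show ¬ i < n by omega, show ¬ i < n + 1 by omega]
        simp [this]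
      | true =>
        have e : u % 2 ^ (n + 1) = u % 2 ^ n ^^^ 2 ^ n := by
          refine Nat.eq_of_testBit_eq fun i => ?_
          simp only [Nat.testBit_mod_two_pow, Nat.testBit_xor, Nat.testBit_two_pow]
          rcases lt_trichotomy i n with h | rfl | h
          · simp [h, Nat.lt_succ_of_lt h, h.ne']
          · simp [hbit]
          · simp [show ¬ i < n by omega, show ¬ i < n + 1 by omega, h.ne]
        have hp : 2 ^ n < 256 := lt_of_lt_of_le (Nat.pow_lt_pow_right (by norm_num) (by omega : n < 8)) le_rfl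
        rw [e, hcadd _ (lt_of_le_of_lt (Nat.mod_le _ _) hu) _ hp, hbc n (by omega)]
        simp
  obtain ⟨u, hu, h, hh, hbad⟩ := hno b hb
  refine hbad ?_
  rw [hq 8 le_rfl _ (app_lt _ _), hq 8 le_rfl u hu,
    Nat.mod_eq_of_lt (show app h u < 2 ^ 8 from app_lt _ _), Nat.mod_eq_of_lt (show u < 2 ^ 8 from hu)]
  exact hcinv h hh u hu

end Mod

end Cfsg.Agent.U62Rec
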