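import Cfsg.Agent.U62Rec.InJCheck
import Cfsg.Agent.U62Rec.TauHyp

/-!
# No conjugate of `z` in `O₂(C(z))` but `z`
-/

set_option autoImplicit false

open Cfsg Subgroup

namespace Cfsg.Agent.U62Rec

open Cfsg.Agent.LargeExtra

/-- The hypotheses making `v` an excluded vector. -/
structure CaseHyp (gens : List ℕ) (l : ℕ) (c : InCase) (bad : List ℕ := []) : Prop where
  ok : c.okX l bad = true
  A_gen : ∀ m ∈ c.A, Gen gens m ∧ app m c.v = c.v
  cj_gen : ∀ p ∈ c.cj, Gen gens p.1 ∧ app p.1 c.v = c.v ∧ cmp p.1 p.2 = idm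
  S_all : ∀ B : Set ℕ, (∀ g ∈ B, Gen gens g ∧ app g c.v = c.v) → (∀ g ∈ B, cmp g g = idm) →
    (∀ a ∈ B, ∀ b ∈ B, cmp a b ∈ B) →
    (∀ m n, Gen gens m → app m c.v = c.v → cmp m n = idm → Gen gens n →
      ∀ a ∈ B, cmp m (cmp a n) ∈ B) → ∀ g ∈ B, g ∈ c.S

/-- A list containing zero, `v`, `u`. -/
structure SecondData where
  /-- the only possible subspace -/
  L : List ℕ
  /-- the orbit of `v` -/
  O : List ℕ
  x : ℕ
  u : ℕ
  m : ℕ
  n : ℕ
  /-- a second such vector, with its maps -/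
  u' : ℕ
  m' : ℕ
  n' : ℕ
  /-- maps excluded by `TauHyp` -/
  taus : List ℕ

/-- The vectors orthogonal to `v`, outside the subspace, whose sums with `v` are in the orbit. -/
def SecondData.mem' (D : SecondData) (v x : ℕ) : Prop :=
  x ∈ D.O ∧ fv x v = false ∧ x ^^^ v ∈ D.O ∧ x ∉ D.L

/-- Some map fixing `w` of the given form does not commute with `g`. -/
def Sep (gens : List ℕ) (c : InCase) (g w : ℕ) : Prop :=
  ∃ m n, Gen gens m ∧ Gen gens n ∧ cmp m n = idm ∧ app m c.v = w ∧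
    ∃ a ∈ c.A, cmp g (cmp m (cmp a n)) ≠ cmp (cmp m (cmp a n)) g

/-- A second exclusion: there is one possible subspace `L`; the involutory map induced by a vector of
`mem'` commutes with the stabiliser of `v` and with that of `u`, but such a map determines the vector. -/
structure CaseHypT (gens : List ℕ) (l : ℕ) (c : InCase) (D : SecondData) : Prop where
  case : CaseHyp gens l c D.L
  v_mem : c.v ∈ D.O
  orbit : ∀ w ∈ D.O, ∃ m n, Gen gens m ∧ Gen gens n ∧ cmp m n = idm ∧ app m c.v = w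
  rest : ∀ w < 256, w ≠ 0 → qv l w = false → w ∈ D.O ∨
    ∃ m c', Gen gens m ∧ CaseHyp gens l c' ∧ app m w = c'.v
  x_mem : D.mem' c.v D.x
  inv : ∀ s, Gen gens s → app s c.v = c.v → ∀ x, D.mem' c.v x → x ^^^ app s x ∈ D.L
  m_gen : Gen gens D.m ∧ Gen gens D.n ∧ cmp D.m D.n = idm ∧ app D.m c.v = D.u
  u_ne : D.u ≠ 0 ∧ D.u ≠ c.v ∧ D.u ≠ D.x ^^^ c.v ∧ D.u ∈ D.L
  n_mem : app D.n c.v ∈ D.L ∧ app D.n D.x ∈ D.L
  m_gen' : Gen gens D.m' ∧ Gen gens D.n' ∧ cmp D.m' D.n' = idm ∧ app D.m' c.v = D.u'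
  u_ne' : D.u' ≠ 0 ∧ D.u' ≠ c.v ∧ D.u' ≠ D.x ^^^ c.v ∧ D.u' ∈ D.L
  n_mem' : app D.n' c.v ∈ D.L ∧ app D.n' D.x ∈ D.L
  distinct : D.u ≠ D.u' ∧ D.u ^^^ D.u' ≠ c.v
  tau : ∀ τ ∈ D.taus, TauHyp gens l τ
  uniq : ∀ g, Gen gens g → g ≠ idm → app g c.v = c.v → (∀ a ∈ c.A, cmp g a = cmp a g) →
    g ∈ D.taus ∨ ∀ w1 ∈ D.O, ∀ w2 ∈ D.O, w1 ≠ c.v → w2 ≠ c.v → w1 ≠ w2 → w1 ^^^ w2 ≠ c.v →
      Sep gens c g w1 ∨ Sep gens c g w2

/-- Every singular vector is moved to an excluded one. -/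
def Covered (C : Cfg) : Prop :=
  ∀ v < 256, v ≠ 0 → qv C.l v = false →
    ∃ m c, Gen C.gens m ∧ (CaseHyp C.gens C.l c ∨ ∃ D, CaseHypT C.gens C.l c D) ∧ app m v = c.v

namespace Mod

variable {G : Type*} [Group G] [Finite G] {C : Cfg} {z : G} (M : Mod C z)
include M

theorem mem_zpowers_iff' {a : G} : a ∈ zpowers z ↔ a = 1 ∨ a = z := by
  constructor
  · intro ha
    obtain ⟨k, rfl⟩ := mem_zpowers_iff.1 ha
    rcases Int.even_or_odd' k with ⟨j, rfl | rfl⟩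
    · left; rw [zpow_mul, zpow_two, M.zz, one_zpow]
    · right; rw [zpow_add_one, zpow_mul, zpow_two, M.zz, one_zpow, one_mul]
  · rintro (rfl | rfl)
    exacts [one_mem _, mem_zpowers _]

/-- A subgroup of `oc z` containing `z` has twice as many elements as vectors. -/
theorem card_bar {X : Subgroup G} (hX : X ≤ oc z) (hz : z ∈ X) :
    Nat.card X = 2 * (M.bar '' X).ncard := by
  rw [card_fibres M.bar X (zpowers z) (zpowers_le.2 hz) fun a ha b hb => ?_, Nat.card_zpowers,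
    M.set.ord, mul_comm]
  rw [M.mem_zpowers_iff', M.bar_eq_iff (hX ha) (hX hb), inv_mul_eq_one, inv_mul_eq_iff_eq_mul,
    eq_comm (a := a)]

theorem rho_of_mem {a : G} (ha : a ∈ oc z) : M.rho a = idm := (M.rho_ker a (oc_le z ha)).2 ha

/-- A generated map fixing the vector of `y` is induced by an element centralising `y`. -/
theorem exists_fix {y : G} (hy : y ∈ oc z) (hy1 : y ≠ 1) (hyz : y ≠ z) {m : ℕ}
    (hm : Gen C.gens m) (hfix : app m (M.bar y) = M.bar y) :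
    ∃ h ∈ centralizer ({z} : Set G), M.rho h = m ∧ h * y * h⁻¹ = y := by
  obtain ⟨h, hh, rfl⟩ := M.exists_rho hm
  have h1 : M.bar (h * y * h⁻¹) = M.bar y := by rw [M.rho_act h hh y hy, hfix]
  rcases (M.bar_eq_iff hy (M.oc_norm hh hy)).1 h1.symm with e | e
  · exact ⟨h, hh, rfl, e⟩
  · obtain ⟨j, hj, hj'⟩ := M.set.exists_mover hy hy1 hyz
    refine ⟨j * h, mul_mem (oc_le z hj) hh, ?_, ?_⟩
    · rw [M.rho_mul j (oc_le z hj) h hh, M.rho_of_mem hj, idm_cmp (M.rho_code h)]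
    · rw [show j * h * y * (j * h)⁻¹ = j * (h * y * h⁻¹) * j⁻¹ by group, e]
      calc j * (y * z) * j⁻¹ = j * y * j⁻¹ * (j * z * j⁻¹) := by group
        _ = y * z * z := by rw [hj', (M.set.comm_z hj).eq, mul_inv_cancel_right]
        _ = y := by rw [mul_assoc, M.zz, mul_one]

theorem bar_pow_eq_one {y i : G} (hyz : y ≠ z) (h1 : i = 1 ∨ i = z) (h2 : i = 1 ∨ i = y) : i = 1 := by
  rcases h1 with e | e
  · exact e
  · rcases h2 with e' | e'
    · exact e'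
    · exact absurd (e'.symm.trans e) hyz

/-- Squares and commutators are in `⟨z⟩`. -/
theorem sq_cases {a : G} (ha : a ∈ oc z) : a * a = 1 ∨ a * a = z := by
  rw [M.sq a ha]; split_ifs <;> simp

theorem comm_cases {a b : G} (ha : a ∈ oc z) (hb : b ∈ oc z) :
    a * b * a⁻¹ * b⁻¹ = 1 ∨ a * b * a⁻¹ * b⁻¹ = z :=
  M.set.commutator_cases ha hb

theorem commute_of_comm {a b : G} (h : a * b * a⁻¹ * b⁻¹ = 1) : Commute a b := by
  rw [mul_inv_eq_one, mul_inv_eq_iff_eq_mul] at h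
  exact h

theorem case_absurd {g : G} (hy : g * z * g⁻¹ ∈ oc z) (hne : g * z * g⁻¹ ≠ z) {c : InCase}
    {bad : List ℕ} (hc : CaseHyp C.gens C.l c bad) (hv : M.bar (g * z * g⁻¹) = c.v)
    (hbad : M.bar '' ((oc z ⊓ oc (g * z * g⁻¹) : Subgroup G) : Set G) ≠ {x | x ∈ bad}) : False := by
  set My := M.conj g with hMy
  set y := g * z * g⁻¹ with hydef
  have hzy : z ∈ oc y := M.set.symm hy
  have hy1 : y ≠ 1 := My.z_ne
  have hyz : y ∈ centralizer ({z} : Set G) := oc_le z hy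
  have hzy' : z ∈ centralizer ({y} : Set G) := oc_le y hzy
  have hv0 : c.v ≠ 0 := fun e => by
    rcases M.bar_eq y hy (hv.trans e) with h | h
    exacts [hy1 h, hne h]
  have hvlt : c.v < 256 := hv ▸ M.bar_lt y
  set I' := oc z ⊓ oc y with hI'
  set B' := oc y ⊓ centralizer ({z} : Set G) with hB'
  set I := M.bar '' (I' : Set G) with hI
  set B := M.rho '' (B' : Set G) with hB
  have hsq : ∀ i ∈ I', i * i = 1 := fun i hi =>
    M.bar_pow_eq_one hne (M.sq_cases hi.1) (My.sq_cases hi.2)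
  have hIB : I' ≤ B' := fun i hi => ⟨hi.2, oc_le z hi.1⟩
  have hnormI : ∀ h ∈ centralizer ({z} : Set G), h * y * h⁻¹ = y → ∀ i ∈ I', h * i * h⁻¹ ∈ I' := by
    intro h hh hhy i hi
    refine ⟨M.oc_norm hh hi.1, ?_⟩
    have := conj_mem_oc (g := h) hi.2
    rwa [hhy] at this
  have hnormB : ∀ h ∈ centralizer ({z} : Set G), h * y * h⁻¹ = y → ∀ i ∈ B', h * i * h⁻¹ ∈ B' := by
    intro h hh hhy i hi
    refine Subgroup.mem_inf.2 ⟨?_, mul_mem (mul_mem hh hi.2) (inv_mem hh)⟩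
    have := conj_mem_oc (g := h) hi.1
    rwa [hhy] at this
  have hBgen : ∀ g ∈ B, Gen C.gens g ∧ app g c.v = c.v := by
    rintro _ ⟨b, hb, rfl⟩
    refine ⟨M.rho_gen b hb.2, ?_⟩
    rw [← hv, ← M.rho_act b hb.2 y hy, (My.commz (oc_le y hb.1)).eq, mul_inv_cancel_right]
  have hB2 : ∀ g ∈ B, cmp g g = idm := by
    rintro _ ⟨b, hb, rfl⟩
    rw [← M.rho_mul b hb.2 b hb.2]
    rcases My.sq_cases hb.1 with e | e <;> rw [e]
    · exact M.rho_one
    · exact M.rho_of_mem hy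
  have hBm : ∀ a ∈ B, ∀ b ∈ B, cmp a b ∈ B := by
    rintro _ ⟨a, ha, rfl⟩ _ ⟨b, hb, rfl⟩
    exact ⟨a * b, mul_mem ha hb, M.rho_mul a ha.2 b hb.2⟩
  have hBconj : ∀ m n, Gen C.gens m → app m c.v = c.v → cmp m n = idm → Gen C.gens n →
      ∀ a ∈ B, cmp m (cmp a n) ∈ B := by
    rintro m n hm hfix hmn hn _ ⟨b, hb, rfl⟩
    obtain ⟨h, hh, rfl, hhy⟩ := M.exists_fix hy hy1 hne hm (by rw [hv, hfix])
    have hn' : n = M.rho h⁻¹ := by
      calc n = cmp (cmp (M.rho h⁻¹) (M.rho h)) n := by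
            rw [(M.rho_cancel hh).2, idm_cmp hn.isCode]
        _ = M.rho h⁻¹ := by rw [cmp_assoc, hmn, cmp_idm (M.rho_code _)]
    refine ⟨h * b * h⁻¹, hnormB h hh hhy b hb, ?_⟩
    rw [M.rho_mul _ (mul_mem hh hb.2) _ (inv_mem hh), M.rho_mul h hh b hb.2, cmp_assoc, hn']
  have hvI : c.v ∈ I := ⟨y, ⟨hy, My.z_mem⟩, hv⟩
  refine InCase.absurd hc.ok I B hbad ?_ ⟨1, one_mem _, M.bar_one⟩ hvI ?_ ?_ ?_ ?_
    (hc.S_all B hBgen hB2 hBm hBconj) ⟨1, one_mem _, M.rho_one⟩ hBm ?_ hB2 ?_ ?_ ?_ ?_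
  · rintro _ ⟨i, -, rfl⟩; exact M.bar_lt i
  · rintro _ ⟨a, ha, rfl⟩ _ ⟨b, hb, rfl⟩
    exact ⟨a * b, mul_mem ha hb, M.bar_mul a ha.1 b hb.1⟩
  · rintro _ ⟨a, ha, rfl⟩
    exact (M.sq_eq ha.1).1 (hsq a ha)
  · rintro _ ⟨a, ha, rfl⟩ _ ⟨b, hb, rfl⟩
    exact (M.commute_iff ha.1 hb.1).1
      (M.commute_of_comm (M.bar_pow_eq_one hne (M.comm_cases ha.1 hb.1) (My.comm_cases ha.2 hb.2)))
  · rintro m hm _ ⟨i, hi, rfl⟩
    obtain ⟨hg, hfix⟩ := hc.A_gen m hm
    obtain ⟨h, hh, rfl, hhy⟩ := M.exists_fix hy hy1 hne hg (by rw [hv, hfix])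
    exact ⟨h * i * h⁻¹, hnormI h hh hhy i hi, M.rho_act h hh i hi.1⟩
  · intro p hp a ha
    obtain ⟨hg, hfix, hp'⟩ := hc.cj_gen p hp
    obtain ⟨h, hh, hr⟩ := M.exists_rho hg
    obtain ⟨b, hb, rfl⟩ := ha
    obtain ⟨k, hk, hkr, hky⟩ := M.exists_fix hy hy1 hne hg (by rw [hv, hfix])
    have hn' : cmp (M.rho b) p.2 = cmp (M.rho b) (M.rho k⁻¹) := by
      refine code_ext (isCode_cmp _ _) (isCode_cmp _ _) fun w hw => ?_
      rw [app_cmp, app_cmp]
      congr 1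
      calc app p.2 w = app (cmp (M.rho k⁻¹) (M.rho k)) (app p.2 w) := by
            rw [(M.rho_cancel hk).2, app_idm (app_lt _ _)]
        _ = app (M.rho k⁻¹) (app (cmp (M.rho k) p.2) w) := by simp only [app_cmp]
        _ = _ := by rw [hkr, hp', app_idm hw]
    refine ⟨k * b * k⁻¹, hnormB k hk hky b hb, ?_⟩
    rw [M.rho_mul _ (mul_mem hk hb.2) _ (inv_mem hk), M.rho_mul k hk b hb.2, cmp_assoc, hn', hkr]
  · rintro _ ⟨b, hb, rfl⟩ w hw hwv
    obtain ⟨a, ha, rfl⟩ := M.bar_surj w hw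
    have hay : Commute a y := (M.commute_iff ha hy).2 (hv.symm ▸ hwv)
    have hac : a ∈ centralizer ({y} : Set G) := mem_centralizer_singleton_iff.2 hay.eq
    refine ⟨b * a * b⁻¹ * a⁻¹, Subgroup.mem_inf.2 ⟨mul_mem (M.oc_norm hb.2 ha) (inv_mem ha), ?_⟩, ?_⟩
    · rw [show b * a * b⁻¹ * a⁻¹ = b * (a * b⁻¹ * a⁻¹) by group]
      exact mul_mem hb.1 (oc_conj_mem hac (inv_mem hb.1))
    · rw [M.bar_mul _ (M.oc_norm hb.2 ha) _ (inv_mem ha), M.rho_act b hb.2 a ha, M.bar_inv ha]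
  · rintro _ ⟨b, hb, rfl⟩ _ ⟨i, hi, rfl⟩
    rw [← M.rho_act b hb.2 i hi.1, ← M.bar_inv hi.1, ← M.bar_mul _ (M.oc_norm hb.2 hi.1) _ (inv_mem hi.1)]
    rcases My.comm_cases hb.1 hi.2 with e | e <;> rw [e]
    · exact Or.inl M.bar_one
    · exact Or.inr hv
  · rintro _ ⟨i, hi, rfl⟩ hall
    -- `i` commutes with all of `B'`, so it lies in `⟨y, z⟩`
    have hcomm : ∀ b ∈ B', Commute b i := by
      intro b hb
      refine M.commute_of_comm (M.bar_pow_eq_one hne (M.bar_eq _ ?_ ?_) (My.comm_cases hb.1 hi.2))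
      · exact mul_mem (M.oc_norm hb.2 hi.1) (inv_mem hi.1)
      · rw [M.bar_mul _ (M.oc_norm hb.2 hi.1) _ (inv_mem hi.1), M.rho_act b hb.2 i hi.1,
          hall _ ⟨b, hb, rfl⟩, M.bar_inv hi.1, Nat.xor_self]
    have hv' : My.bar z ≠ 0 := fun e => by
      rcases My.bar_eq z hzy e with h | h
      exacts [M.z_ne h, hne h.symm]
    have h1 := perp_perp (My.bar_lt i) (My.bar_lt z) hv' fun w hw hwv => by
      obtain ⟨b, hb, rfl⟩ := My.bar_surj w hw
      refine (My.commute_iff hb hi.2).1 (hcomm b ⟨hb, ?_⟩)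
      exact mem_centralizer_singleton_iff.2 ((My.commute_iff hb hzy).2 hwv).eq
    rcases h1 with h1 | h1
    · rcases My.bar_eq i hi.2 h1 with e | e <;> rw [e]
      · exact Or.inl M.bar_one
      · exact Or.inr hv
    · rcases (My.bar_eq_iff hzy hi.2).1 h1.symm with e | e <;> rw [e]
      · exact Or.inl M.bar_z
      · rw [M.bar_mul z M.z_mem y hy, M.bar_z, Nat.zero_xor]
        exact Or.inr hv
  · -- the count
    have hyB : y ∈ B' := ⟨My.z_mem, hyz⟩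
    have h1 : Nat.card B' = 256 := by
      rw [My.card_bar inf_le_left hyB]
      have himg : My.bar '' (B' : Set G) =
          (((List.range 256).filter fun w => !fv w (My.bar z)).toFinset : Set ℕ) := by
        ext w
        simp only [Set.mem_image, List.coe_toFinset, Set.mem_ofPred_eq, List.mem_filter, List.mem_range,
          Bool.not_eq_true']
        constructor
        · rintro ⟨b, hb, rfl⟩
          exact ⟨My.bar_lt b, (My.commute_iff hb.1 hzy).1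
            (mem_centralizer_singleton_iff.1 hb.2)⟩
        · rintro ⟨hw, hwv⟩
          obtain ⟨b, hb, rfl⟩ := My.bar_surj w hw
          exact ⟨b, ⟨hb, mem_centralizer_singleton_iff.2 ((My.commute_iff hb hzy).2 hwv).eq⟩, rfl⟩
      rw [himg, Set.ncard_coe_finset, List.toFinset_card_of_nodup (List.nodup_range.filter _),
        perp_card _ (My.bar_lt z) fun e => by
          rcases My.bar_eq z hzy e with h | h
          exacts [M.z_ne h, hne h.symm]]
    have h2 : Nat.card I' = 2 * I.ncard := M.card_bar inf_le_left ⟨M.z_mem, hzy⟩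
    have h3 : Nat.card B' = B.ncard * Nat.card I' :=
      card_fibres M.rho B' I' hIB fun a ha b hb => by
        rw [M.rho_inj ha.2 hb.2]
        exact ⟨fun e => Subgroup.mem_inf.2 ⟨e, mul_mem (inv_mem ha.1) hb.1⟩, fun e => e.1⟩
    rw [h1, h2] at h3
    linarith

/-- A conjugate of `z` in `oc z` other than `z` has no vector moved to an excluded one. -/
theorem moved_absurd {g : G} (hy : g * z * g⁻¹ ∈ oc z) (hne : g * z * g⁻¹ ≠ z) {m : ℕ} {c : InCase}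
    (hm : Gen C.gens m) (hc : CaseHyp C.gens C.l c)
    (he : app m (M.bar (g * z * g⁻¹)) = c.v) : False := by
  obtain ⟨h, hh, rfl⟩ := M.exists_rho hm
  have e : h * g * z * (h * g)⁻¹ = h * (g * z * g⁻¹) * h⁻¹ := by group
  have hyh : h * g * z * (h * g)⁻¹ ∈ oc z := e ▸ M.oc_norm hh hy
  have hbar : M.bar (h * g * z * (h * g)⁻¹) = c.v := by rw [e, M.rho_act h hh _ hy, he]
  have hneh : h * g * z * (h * g)⁻¹ ≠ z := by
    rw [e]
    intro h1
    apply hne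
    calc g * z * g⁻¹ = h⁻¹ * (h * (g * z * g⁻¹) * h⁻¹) * h := by group
      _ = h⁻¹ * z * h := by rw [h1]
      _ = z := by rw [(M.commz (inv_mem hh)).eq, inv_mul_cancel_right]
  exact M.case_absurd hyh hneh hc hbar fun e => by
    have h0 : (0 : ℕ) ∈ ({x | x ∈ ([] : List ℕ)} : Set ℕ) := e ▸ ⟨1, one_mem _, M.bar_one⟩
    simp at h0

/-- A conjugate of `z` in `oc z` other than `z` lies over the orbit. -/
theorem mem_orbit {c : InCase} {D : SecondData} (hT : CaseHypT C.gens C.l c D) {g : G}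
    (hy : g * z * g⁻¹ ∈ oc z) (hne : g * z * g⁻¹ ≠ z) : M.bar (g * z * g⁻¹) ∈ D.O := by
  have hv0 : M.bar (g * z * g⁻¹) ≠ 0 := fun e => by
    rcases M.bar_eq _ hy e with h | h
    exacts [(M.conj g).z_ne h, hne h]
  rcases hT.rest _ (M.bar_lt _) hv0 ((M.sq_eq hy).1 (M.conj g).zz) with h | ⟨m, c', hm, hc, he⟩
  · exact h
  · exact (M.moved_absurd hy hne hm hc he).elim

theorem inv_gen {m n : ℕ} (hm : Gen C.gens m) (hn : Gen C.gens n) (h : cmp m n = idm) :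
    cmp n m = idm := by
  obtain ⟨p, hp, rfl⟩ := M.exists_rho hm
  obtain ⟨q, hq, rfl⟩ := M.exists_rho hn
  rw [← M.rho_mul p hp q hq, M.rho_ker _ (mul_mem hp hq)] at h
  rw [← M.rho_mul q hq p hp, M.rho_ker _ (mul_mem hq hp)]
  have := M.oc_norm hq h
  rwa [show q * (p * q) * q⁻¹ = q * p by group] at this

/-- The only possible subspace. -/
theorem inter_eq {c : InCase} {D : SecondData} (hT : CaseHypT C.gens C.l c D) {g : G}
    (hy : g * z * g⁻¹ ∈ oc z) (hne : g * z * g⁻¹ ≠ z) (hv : M.bar (g * z * g⁻¹) = c.v) {x : ℕ}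
    (hx : x ∈ D.L) : ∃ j ∈ oc z ⊓ oc (g * z * g⁻¹), M.bar j = x := by
  by_contra hc
  exact M.case_absurd hy hne hT.case hv fun e => hc (by
    obtain ⟨j, hj, h⟩ := (e ▸ hx : x ∈ M.bar '' ((oc z ⊓ oc (g * z * g⁻¹) : Subgroup G) : Set G))
    exact ⟨j, hj, h⟩)

theorem inter_sub {c : InCase} {D : SecondData} (hT : CaseHypT C.gens C.l c D) {g : G}
    (hy : g * z * g⁻¹ ∈ oc z) (hne : g * z * g⁻¹ ≠ z) (hv : M.bar (g * z * g⁻¹) = c.v) {j : G}
    (hj : j ∈ oc z) : j ∈ oc (g * z * g⁻¹) ↔ M.bar j ∈ D.L := by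
  constructor
  · intro h
    by_contra hc
    refine M.case_absurd hy hne hT.case hv fun e => hc ?_
    have : M.bar j ∈ ({x | x ∈ D.L} : Set ℕ) := e ▸ ⟨j, ⟨hj, h⟩, rfl⟩
    exact this
  · intro h
    obtain ⟨i, hi, e⟩ := M.inter_eq hT hy hne hv h
    rcases (M.bar_eq_iff hi.1 hj).1 e with e' | e' <;> rw [e']
    · exact hi.2
    · exact mul_mem hi.2 (M.set.symm hy)

/-- An element over the orbit is a conjugate of `z`. -/
theorem isConj_of_orbit {c : InCase} {D : SecondData} (hT : CaseHypT C.gens C.l c D) {g : G}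
    (hy : g * z * g⁻¹ ∈ oc z) (hne : g * z * g⁻¹ ≠ z) (hv : M.bar (g * z * g⁻¹) = c.v) {j : G}
    (hj : j ∈ oc z) (hjO : M.bar j ∈ D.O) : ∃ k, k * z * k⁻¹ = j := by
  obtain ⟨m, n, hm, hn, hmn, hmv⟩ := hT.orbit _ hjO
  obtain ⟨h, hh, rfl⟩ := M.exists_rho hm
  have hb : M.bar (h * (g * z * g⁻¹) * h⁻¹) = M.bar j := by rw [M.rho_act h hh _ hy, hv, hmv]
  rcases (M.bar_eq_iff (M.oc_norm hh hy) hj).1 hb with e | e
  · exact ⟨h * g, by rw [e]; group⟩
  · have hj0 : M.bar j ≠ 0 := fun e' => by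
      rcases M.bar_eq _ (M.oc_norm hh hy) (hb.trans e') with h' | h'
      · exact (M.conj g).z_ne (conj_eq_one_iff.1 h')
      · apply hne
        calc g * z * g⁻¹ = h⁻¹ * (h * (g * z * g⁻¹) * h⁻¹) * h := by group
          _ = h⁻¹ * z * h := by rw [h']
          _ = z := by rw [(M.commz (inv_mem hh)).eq, inv_mul_cancel_right]
    obtain ⟨q, hq, hq'⟩ := M.set.exists_mover (M.oc_norm hh hy)
      (fun e' => hj0 (by rw [← hb, e', M.bar_one])) (fun e' => hj0 (by rw [← hb, e', M.bar_z]))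
    exact ⟨q * h * g, by rw [e, ← hq']; group⟩

/-- The map induced on the other side commutes with the stabiliser. -/
theorem rho_comm {c : InCase} {D : SecondData} (hT : CaseHypT C.gens C.l c D) {y : G}
    (My : Mod C y) (hconj : ∃ g, g * z * g⁻¹ = y) (hy : y ∈ oc z) (hne : y ≠ z) {i : G}
    (hi : i ∈ oc z) (hiy : Commute i y) (hin : i ∉ oc y) (hiO : M.bar i ∈ D.O)
    (hiyO : M.bar (i * y) ∈ D.O) {m n a : ℕ} (ha : a ∈ c.A) (hm : Gen C.gens m)
    (hn : Gen C.gens n) (hmn : cmp m n = idm) (hmv : app m c.v = My.bar z) :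
    cmp (My.rho i) (cmp m (cmp a n)) = cmp (cmp m (cmp a n)) (My.rho i) := by
  obtain ⟨g, rfl⟩ := hconj
  have hzy : z ∈ oc (g * z * g⁻¹) := M.set.symm hy
  have hvlt : c.v < 256 := by
    obtain ⟨m', n', -, -, h1, h2⟩ := hT.orbit _ hT.v_mem
    rw [← h2]; exact app_lt _ _
  obtain ⟨hag, hafix⟩ := hT.case.A_gen a ha
  have hnm : app n (My.bar z) = c.v := by
    rw [← hmv, ← app_cmp, M.inv_gen hm hn hmn, app_idm hvlt]
  have hσ : app (cmp m (cmp a n)) (My.bar z) = My.bar z := by rw [app_cmp, app_cmp, hnm, hafix, hmv]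
  obtain ⟨h, hh, hhr, hhz⟩ := My.exists_fix hzy M.z_ne hne.symm (hm.mul (hag.mul hn)) hσ
  rw [← hhr]
  have hhC : h ∈ centralizer ({z} : Set G) :=
    mem_centralizer_singleton_iff.2 (mul_inv_eq_iff_eq_mul.1 hhz)
  have hhy : h * (g * z * g⁻¹) * h⁻¹ = g * z * g⁻¹ := by
    rw [(My.commz hh).eq, mul_inv_cancel_right]
  have hiC : i ∈ centralizer ({g * z * g⁻¹} : Set G) := mem_centralizer_singleton_iff.2 hiy.eq
  have hi'C : h * i * h⁻¹ ∈ centralizer ({g * z * g⁻¹} : Set G) :=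
    mul_mem (mul_mem hh hiC) (inv_mem hh)
  suffices hd : i⁻¹ * (h * i * h⁻¹) ∈ oc (g * z * g⁻¹) by
    have e := (My.rho_inj hiC hi'C).2 hd
    rw [My.rho_mul _ (mul_mem hh hiC) _ (inv_mem hh), My.rho_mul h hh i hiC] at e
    conv_lhs => rw [e]
    rw [cmp_assoc, (My.rho_cancel hh).2, cmp_idm (isCode_cmp _ _)]
  -- move the vector of the conjugate to `v`
  obtain ⟨m1, n1, hm1, hn1, hmn1, hv1⟩ := hT.orbit _ (M.mem_orbit hT hy hne)
  obtain ⟨k, hk, hkr⟩ := M.exists_rho hn1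
  have hbar : M.bar (k * g * z * (k * g)⁻¹) = c.v := by
    rw [show k * g * z * (k * g)⁻¹ = k * (g * z * g⁻¹) * k⁻¹ by group, M.rho_act k hk _ hy, hkr,
      ← hv1, ← app_cmp, M.inv_gen hm1 hn1 hmn1, app_idm hvlt]
  have hy1 : k * g * z * (k * g)⁻¹ ∈ oc z := by
    rw [show k * g * z * (k * g)⁻¹ = k * (g * z * g⁻¹) * k⁻¹ by group]
    exact M.oc_norm hk hy
  have hne1 : k * g * z * (k * g)⁻¹ ≠ z := fun e => hne (by
    calc g * z * g⁻¹ = k⁻¹ * (k * g * z * (k * g)⁻¹) * k := by group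
      _ = k⁻¹ * z * k := by rw [e]
      _ = z := by rw [(M.commz (inv_mem hk)).eq, inv_mul_cancel_right])
  set i1 := k * i * k⁻¹ with hi1
  have hi1oc : i1 ∈ oc z := M.oc_norm hk hi
  set h1 := k * h * k⁻¹ with hh1
  have hh1C : h1 ∈ centralizer ({z} : Set G) := mul_mem (mul_mem hk hhC) (inv_mem hk)
  have hfix : app (M.rho h1) c.v = c.v := by
    rw [← hbar, ← M.rho_act h1 hh1C _ hy1]
    congr 1
    calc h1 * (k * g * z * (k * g)⁻¹) * h1⁻¹ = k * (h * (g * z * g⁻¹) * h⁻¹) * k⁻¹ := by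
          rw [hh1]; group
      _ = k * g * z * (k * g)⁻¹ := by rw [hhy]; group
  have hconjO : ∀ {t : G}, t ∈ oc z → M.bar t ∈ D.O → M.bar (k * t * k⁻¹) ∈ D.O := by
    intro t ht htO
    obtain ⟨m2, n2, hm2, hn2, hmn2, hv2⟩ := hT.orbit _ htO
    obtain ⟨k2, hk2, hk2r⟩ := M.exists_rho hm2
    have hb : M.bar (k * k2 * (k * g) * z * (k * k2 * (k * g))⁻¹) = M.bar (k * t * k⁻¹) := by
      rw [show k * k2 * (k * g) * z * (k * k2 * (k * g))⁻¹ =
        k * (k2 * (k * g * z * (k * g)⁻¹) * k2⁻¹) * k⁻¹ by group, M.rho_act k hk _ (M.oc_norm hk2 hy1),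
        M.rho_act k2 hk2 _ hy1, hbar, hk2r, hv2, M.rho_act k hk t ht]
    rw [← hb]
    refine M.mem_orbit hT ?_ fun e => hne1 ?_
    · rw [show k * k2 * (k * g) * z * (k * k2 * (k * g))⁻¹ =
        k * k2 * (k * g * z * (k * g)⁻¹) * (k * k2)⁻¹ by group]
      exact M.oc_norm (mul_mem hk hk2) hy1
    · have hkk := mul_mem hk hk2
      calc k * g * z * (k * g)⁻¹ = (k * k2)⁻¹ * (k * k2 * (k * g) * z * (k * k2 * (k * g))⁻¹) * (k * k2) := by
            group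
        _ = (k * k2)⁻¹ * z * (k * k2) := by rw [e]
        _ = z := by rw [(M.commz (inv_mem hkk)).eq, inv_mul_cancel_right]
  have hmem : D.mem' c.v (M.bar i1) := by
    refine ⟨hconjO hi hiO, ?_, ?_, fun e => hin ?_⟩
    · rw [← hbar]
      refine (M.commute_iff hi1oc hy1).1 ?_
      rw [show k * g * z * (k * g)⁻¹ = k * (g * z * g⁻¹) * k⁻¹ by group, hi1]
      exact (Commute.conj_iff k).2 hiy
    · rw [← hbar, ← M.bar_mul i1 hi1oc _ hy1]
      rw [show i1 * (k * g * z * (k * g)⁻¹) = k * (i * (g * z * g⁻¹)) * k⁻¹ by rw [hi1]; group]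
      exact hconjO (mul_mem hi hy) hiyO
    · have := conj_mem_oc (g := k⁻¹) ((M.inter_sub hT hy1 hne1 hbar hi1oc).2 e)
      rw [show k⁻¹ * (k * g * z * (k * g)⁻¹) * k⁻¹⁻¹ = g * z * g⁻¹ by group,
        show k⁻¹ * i1 * k⁻¹⁻¹ = i by rw [hi1]; group] at this
      exact this
  have hd1 : i1⁻¹ * (h1 * i1 * h1⁻¹) ∈ oc (k * g * z * (k * g)⁻¹) := by
    refine (M.inter_sub hT hy1 hne1 hbar (mul_mem (inv_mem hi1oc) (M.oc_norm hh1C hi1oc))).2 ?_
    rw [M.bar_mul _ (inv_mem hi1oc) _ (M.oc_norm hh1C hi1oc), M.bar_inv hi1oc, M.rho_act h1 hh1C _ hi1oc]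
    exact hT.inv _ (M.rho_gen h1 hh1C) hfix _ hmem
  have := conj_mem_oc (g := k⁻¹) hd1
  rw [show k⁻¹ * (k * g * z * (k * g)⁻¹) * k⁻¹⁻¹ = g * z * g⁻¹ by group,
    show k⁻¹ * (i1⁻¹ * (h1 * i1 * h1⁻¹)) * k⁻¹⁻¹ = i⁻¹ * (h * i * h⁻¹) by rw [hh1, hi1]; group] at this
  exact this

/-- The second exclusion. -/
theorem second_absurd {g : G} (hy : g * z * g⁻¹ ∈ oc z) (hne : g * z * g⁻¹ ≠ z) {c : InCase}
    {D : SecondData} (hT : CaseHypT C.gens C.l c D) (hv : M.bar (g * z * g⁻¹) = c.v) : False := by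
  set y := g * z * g⁻¹ with hydef
  let My : Mod C y := M.conj g
  have hzy : z ∈ oc y := M.set.symm hy
  obtain ⟨hxO, hxv, hxvO, hxL⟩ := hT.x_mem
  obtain ⟨hmg, hng, hmn, hmv⟩ := hT.m_gen
  obtain ⟨hu0, huv, hux, huL⟩ := hT.u_ne
  obtain ⟨hnv, hnx⟩ := hT.n_mem
  obtain ⟨mx, nx, hmx, -, -, hmxv⟩ := hT.orbit _ hxO
  obtain ⟨hk, hkC, hkr⟩ := M.exists_rho hmx
  set i := hk * y * hk⁻¹ with hidef
  have hi : i ∈ oc z := M.oc_norm hkC hy
  have hbi : M.bar i = D.x := by rw [hidef, M.rho_act hk hkC _ hy, hv, hkr, hmxv]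
  have hiy : Commute i y := (M.commute_iff hi hy).2 (by rw [hbi, hv, hxv])
  have hin : i ∉ oc y := fun h => hxL (hbi ▸ (M.inter_sub hT hy hne hv hi).1 h)
  have hiyb : M.bar (i * y) = D.x ^^^ c.v := by rw [M.bar_mul i hi y hy, hbi, hv]
  have hiC : i ∈ centralizer ({y} : Set G) := mem_centralizer_singleton_iff.2 hiy.eq
  have hZO : My.bar z ∈ D.O := by
    have e : g⁻¹ * y * g⁻¹⁻¹ = z := by rw [hydef]; group
    rw [← e]
    exact My.mem_orbit hT (e ▸ hzy) fun h => hne (by rw [e] at h; exact h.symm)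
  obtain ⟨m0, n0, hm0, hn0, hmn0, hv0⟩ := hT.orbit _ hZO
  have hnm0 := M.inv_gen hm0 hn0 hmn0
  have hvlt : c.v < 256 := hv ▸ M.bar_lt _
  have hcomm1 : ∀ {m n a : ℕ}, a ∈ c.A → Gen C.gens m → Gen C.gens n → cmp m n = idm →
      app m c.v = My.bar z → cmp (My.rho i) (cmp m (cmp a n)) = cmp (cmp m (cmp a n)) (My.rho i) :=
    fun ha hm hn hmn' hmv' => M.rho_comm hT My ⟨g, rfl⟩ hy hne hi hiy hin (hbi ▸ hxO)
      (by rw [hiyb]; exact hxvO) ha hm hn hmn' hmv'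
  set r := My.rho i with hr
  have hrg : Gen C.gens r := My.rho_gen i hiC
  have hrne : r ≠ idm := fun e => hin ((My.rho_ker i hiC).1 e)
  have hrz : app r (My.bar z) = My.bar z := by
    rw [hr, ← My.rho_act i hiC z hzy, (M.commz (oc_le z hi)).eq, mul_inv_cancel_right]
  set r' := cmp n0 (cmp r m0) with hr'
  have back : cmp m0 (cmp r' n0) = r := by
    rw [hr', cmp_assoc n0, cmp_assoc r, hmn0, cmp_idm hrg.isCode, ← cmp_assoc, hmn0,
      idm_cmp hrg.isCode]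
  have hr'ne : r' ≠ idm := fun e => hrne (by rw [← back, e, idm_cmp hn0.isCode, hmn0])
  have hr'v : app r' c.v = c.v := by
    rw [hr', app_cmp, app_cmp, hv0, hrz, ← hv0, ← app_cmp, hnm0, app_idm hvlt]
  have move : ∀ {σ : ℕ}, IsCode σ → cmp r (cmp m0 (cmp σ n0)) = cmp (cmp m0 (cmp σ n0)) r →
      cmp r' σ = cmp σ r' := by
    intro σ hσ e
    have h := congrArg (fun t => cmp n0 (cmp t m0)) e
    simp only [cmp_assoc, hnm0, cmp_idm hσ] at h
    rw [hr']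
    simp only [cmp_assoc]
    rw [show cmp σ (cmp n0 (cmp r m0)) = cmp n0 (cmp m0 (cmp σ (cmp n0 (cmp r m0)))) by
      rw [← cmp_assoc n0 m0, hnm0, idm_cmp (isCode_cmp _ _)]]
    exact h
  have hr'A : ∀ a ∈ c.A, cmp r' a = cmp a r' := fun a ha =>
    move (hT.case.A_gen a ha).1.isCode (hcomm1 ha hm0 hn0 hmn0 hv0)
  have second : ∀ {u m n : ℕ}, Gen C.gens m → Gen C.gens n → cmp m n = idm → app m c.v = u →
      u ≠ 0 → u ≠ c.v → u ≠ D.x ^^^ c.v → u ∈ D.L → app n c.v ∈ D.L → app n D.x ∈ D.L →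
      ∃ k ∈ oc y, k ∈ oc z ∧ M.bar k = u ∧ app n0 (My.bar k) ∈ D.O ∧ app n0 (My.bar k) ≠ c.v ∧
        ∀ {m n a : ℕ}, a ∈ c.A → Gen C.gens m → Gen C.gens n → cmp m n = idm →
          app m c.v = My.bar k → cmp r (cmp m (cmp a n)) = cmp (cmp m (cmp a n)) r := by
    intro u mu nu hmg hng hmn hmv hu0 huv hux huL hnv hnx
    obtain ⟨K, hKC, hKr⟩ := M.exists_rho hmg
    set k := K * g * z * (K * g)⁻¹ with hkdef
    have hky : k = K * y * K⁻¹ := by rw [hkdef, hydef]; group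
    have hkoc : k ∈ oc z := hky ▸ M.oc_norm hKC hy
    have hbk : M.bar k = u := by rw [hky, M.rho_act K hKC _ hy, hv, hKr, hmv]
    have hkz : k ≠ z := fun e => hu0 (by rw [← hbk, e, M.bar_z])
    have hkoy : k ∈ oc y := (M.inter_sub hT hy hne hv hkoc).2 (hbk ▸ huL)
    have hinK : ∀ t ∈ oc z, app nu (M.bar t) ∈ D.L → t ∈ oc k := by
      intro t ht htL
      have hKi := inv_mem hKC
      have hrn : M.rho K⁻¹ = nu := by
        calc M.rho K⁻¹ = cmp (M.rho K⁻¹) (cmp mu nu) := by rw [hmn, cmp_idm (M.rho_code _)]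
          _ = nu := by rw [← cmp_assoc, ← hKr, (M.rho_cancel hKC).2, idm_cmp hng.isCode]
      have hb : M.bar (K⁻¹ * t * K) ∈ D.L := by
        rw [show K⁻¹ * t * K = K⁻¹ * t * K⁻¹⁻¹ by group, M.rho_act _ hKi t ht, hrn]
        exact htL
      have hmem : K⁻¹ * t * K ∈ oc z := by
        have := M.oc_norm hKi ht
        rwa [inv_inv] at this
      have := conj_mem_oc (g := K) ((M.inter_sub hT hy hne hv hmem).2 hb)
      rwa [show K * (K⁻¹ * t * K) * K⁻¹ = t by group, ← hky] at this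
    have hik : i ∈ oc k := hinK i hi (hbi ▸ hnx)
    have hyk : y ∈ oc k := hinK y hy (hv ▸ hnv)
    obtain ⟨k2, hk2⟩ := M.isConj_of_orbit hT hy hne hv (mul_mem hi hy) (by rw [hiyb]; exact hxvO)
    let Mk : Mod C k := M.conj (K * g)
    have hyz : y ≠ z := hne
    have hky' : y ≠ k := fun e => huv (by rw [← hbk, ← e, hv])
    have hzy' : z ∈ oc k := hinK z M.z_mem (by
      rw [M.bar_z, app_zero]
      have := (M.inter_sub hT hy hne hv M.z_mem).1 hzy
      rwa [M.bar_z] at this)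
    -- the vectors over the base `k`
    have hiOk : Mk.bar i ∈ D.O := by
      have e : hk * g * (K * g)⁻¹ * k * (hk * g * (K * g)⁻¹)⁻¹ = i := by
        rw [hkdef, hidef, hydef]; group
      rw [← e]
      refine Mk.mem_orbit hT (e ▸ hik) fun h => hxL ?_
      rw [e] at h
      rw [← hbi, h, hbk]; exact huL
    have hiyOk : Mk.bar (i * y) ∈ D.O := by
      have e : k2 * (K * g)⁻¹ * k * (k2 * (K * g)⁻¹)⁻¹ = i * y := by
        rw [← hk2, hkdef]; group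
      rw [← e]
      refine Mk.mem_orbit hT (e ▸ mul_mem hik hyk) fun h => hux ?_
      rw [e] at h
      rw [← hiyb, h, hbk]
    have hcomm2 : ∀ {m n a : ℕ}, a ∈ c.A → Gen C.gens m → Gen C.gens n → cmp m n = idm →
        app m c.v = My.bar k → cmp (My.rho i) (cmp m (cmp a n)) = cmp (cmp m (cmp a n)) (My.rho i) :=
      fun ha hm hn hmn' hmv' => Mk.rho_comm hT My ⟨g * (K * g)⁻¹, by rw [hkdef, hydef]; group⟩ hyk hky'
        hik hiy hin hiOk hiyOk ha hm hn hmn' hmv'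
    -- the second vector
    set w := app n0 (My.bar k) with hw
    have hwO : w ∈ D.O := by
      obtain ⟨h0, hh0, hh0r⟩ := My.exists_rho hn0
      have e : h0 * (K * g) * g⁻¹ * y * (h0 * (K * g) * g⁻¹)⁻¹ = h0 * k * h0⁻¹ := by
        rw [hkdef, hydef]; group
      have hb : My.bar (h0 * (K * g) * g⁻¹ * y * (h0 * (K * g) * g⁻¹)⁻¹) = w := by
        rw [e, My.rho_act h0 hh0 k hkoy, hh0r]
      rw [← hb]
      refine My.mem_orbit hT (e ▸ My.oc_norm hh0 hkoy) fun h => hky' ?_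
      rw [e] at h
      calc y = h0⁻¹ * y * h0 := by rw [(My.commz (inv_mem hh0)).eq, inv_mul_cancel_right]
        _ = h0⁻¹ * (h0 * k * h0⁻¹) * h0 := by rw [h]
        _ = k := by group
    have hwv : w ≠ c.v := fun e => by
      have h : My.bar k = My.bar z := by
        calc My.bar k = app (cmp m0 n0) (My.bar k) := by rw [hmn0, app_idm (My.bar_lt _)]
          _ = app m0 w := by rw [app_cmp]
          _ = My.bar z := by rw [e, hv0]
      rcases (My.bar_eq_iff hkoy hzy).1 h with e' | e'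
      · exact hkz e'.symm
      · apply huv
        have e2 : k = z * y := by rw [e', mul_assoc, My.zz, mul_one]
        rw [← hbk, e2, M.bar_mul z M.z_mem y hy, M.bar_z, hv, Nat.zero_xor]
    exact ⟨k, hkoy, hkoc, hbk, hwO, hwv, hcomm2⟩
  obtain ⟨k1, hk1y, hk1z, hbk1, hw1O, hw1v, hc1⟩ :=
    second hmg hng hmn hmv hu0 huv hux huL hnv hnx
  obtain ⟨hmg2, hng2, hmn2, hmv2⟩ := hT.m_gen'
  obtain ⟨hu02, huv2, hux2, huL2⟩ := hT.u_ne'
  obtain ⟨k2', hk2y, hk2z, hbk2, hw2O, hw2v, hc2⟩ :=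
    second hmg2 hng2 hmn2 hmv2 hu02 huv2 hux2 huL2 hT.n_mem'.1 hT.n_mem'.2
  rcases hT.uniq r' (hn0.mul (hrg.mul hm0)) hr'ne hr'v hr'A with hτ | hsep
  · -- a map with fixed space equal to the moved space
    obtain ⟨h, hh, hhr⟩ := My.exists_rho hn0
    have hhi : h * i * h⁻¹ ∈ centralizer ({y} : Set G) := mul_mem (mul_mem hh hiC) (inv_mem hh)
    have hiz : z ∈ oc i := by
      have e' : hk * g * z * (hk * g)⁻¹ = i := by rw [hidef, hydef]; group
      have := M.set.symm (show hk * g * z * (hk * g)⁻¹ ∈ oc z from e' ▸ hi)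
      rwa [e'] at this
    have e : h * hk * g * g⁻¹ * y * (h * hk * g * g⁻¹)⁻¹ = h * i * h⁻¹ := by rw [hidef]; group
    refine My.tau_absurd (hT.tau r' hτ) (g := h * hk * g * g⁻¹) (e ▸ hhi) ?_ (t := h * z * h⁻¹)
      (My.oc_norm hh hzy) (e ▸ conj_mem_oc hiz) (fun e' => M.z_ne (conj_eq_one_iff.1 e'))
    rw [e, My.rho_mul _ (mul_mem hh hiC) _ (inv_mem hh), My.rho_mul h hh i hiC, hhr, ← hr, hr', cmp_assoc]
    congr 2
    calc My.rho h⁻¹ = cmp (My.rho h⁻¹) (cmp n0 m0) := by rw [hnm0, cmp_idm (My.rho_code _)]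
      _ = m0 := by rw [← hhr, ← cmp_assoc, (My.rho_cancel hh).2, idm_cmp hm0.isCode]
  have hback : ∀ k, app m0 (app n0 (My.bar k)) = My.bar k := fun k => by
    rw [← app_cmp, hmn0, app_idm (My.bar_lt _)]
  have hne12 : app n0 (My.bar k1) ≠ app n0 (My.bar k2') := by
    intro e
    have h : My.bar k1 = My.bar k2' := by rw [← hback k1, e, hback]
    rcases (My.bar_eq_iff hk1y hk2y).1 h with e' | e'
    · exact hT.distinct.1 (by rw [← hbk1, ← hbk2, e'])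
    · refine hT.distinct.2 ?_
      rw [← hbk1, ← hbk2, e', M.bar_mul k1 hk1z y hy, hv, ← Nat.xor_assoc, Nat.xor_self, Nat.zero_xor]
  have hxne : app n0 (My.bar k1) ^^^ app n0 (My.bar k2') ≠ c.v := by
    intro e
    have h : My.bar (k1 * k2') = My.bar z := by
      rw [My.bar_mul k1 hk1y k2' hk2y, ← hback k1, ← hback k2', ← app_xor, e, hv0]
    have hb : M.bar (k1 * k2') = D.u ^^^ D.u' := by rw [M.bar_mul k1 hk1z k2' hk2z, hbk1, hbk2]
    rcases (My.bar_eq_iff (mul_mem hk1y hk2y) hzy).1 h with e' | e'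
    · refine hT.distinct.1 (Nat.xor_eq_zero_iff.1 ?_)
      rw [← hb, ← e', M.bar_z]
    · refine hT.distinct.2 ?_
      have : M.bar (k1 * k2') = c.v := by
        have h2 : k1 * k2' = z * y := by rw [e', mul_assoc, My.zz, mul_one]
        rw [h2, M.bar_mul z M.z_mem y hy, M.bar_z, hv, Nat.zero_xor]
      rw [← hb, this]
  have hone : ∀ w, w ∈ D.O → (∃ m n, Gen C.gens m ∧ Gen C.gens n ∧ cmp m n = idm ∧ app m c.v = w ∧
      ∃ a ∈ c.A, cmp r' (cmp m (cmp a n)) ≠ cmp (cmp m (cmp a n)) r') → ∀ k, app n0 (My.bar k) = w →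
      (∀ {m n a : ℕ}, a ∈ c.A → Gen C.gens m → Gen C.gens n → cmp m n = idm →
        app m c.v = My.bar k → cmp r (cmp m (cmp a n)) = cmp (cmp m (cmp a n)) r) → False := by
    rintro w - ⟨m, n, hm, hn, hmn', hmw, a, ha, hne'⟩ k hw hck
    refine hne' (move (isCode_cmp _ _) ?_)
    have h := hck (m := cmp m0 m) (n := cmp n n0) ha (hm0.mul hm) (hn.mul hn0)
      (by rw [cmp_assoc, ← cmp_assoc m, hmn', idm_cmp hn0.isCode, hmn0])
      (by rw [app_cmp, hmw, ← hw, hback])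
    simpa only [cmp_assoc] using h
  rcases hsep _ hw1O _ hw2O hw1v hw2v hne12 hxne with h | h
  · exact hone _ hw1O h k1 rfl hc1
  · exact hone _ hw2O h k2' rfl hc2

/-- The only conjugate of `z` in `oc z` is `z`. -/
theorem eq_z_of_mem (hC : Covered C) {g : G} (hy : g * z * g⁻¹ ∈ oc z) : g * z * g⁻¹ = z := by
  by_contra hne
  have hy1 : g * z * g⁻¹ ≠ 1 := (M.conj g).z_ne
  have hv0 : M.bar (g * z * g⁻¹) ≠ 0 := fun e => by
    rcases M.bar_eq _ hy e with h | h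
    exacts [hy1 h, hne h]
  have hq : qv C.l (M.bar (g * z * g⁻¹)) = false := (M.sq_eq hy).1 (M.conj g).zz
  obtain ⟨m, c, hm, hc | ⟨D, hD⟩, he⟩ := hC _ (M.bar_lt _) hv0 hq
  · exact M.moved_absurd hy hne hm hc he
  obtain ⟨h, hh, rfl⟩ := M.exists_rho hm
  have e : h * g * z * (h * g)⁻¹ = h * (g * z * g⁻¹) * h⁻¹ := by group
  refine M.second_absurd (g := h * g) (e ▸ M.oc_norm hh hy) ?_ hD ?_
  · rw [e]
    intro h1
    apply hne
    calc g * z * g⁻¹ = h⁻¹ * (h * (g * z * g⁻¹) * h⁻¹) * h := by group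
      _ = h⁻¹ * z * h := by rw [h1]
      _ = z := by rw [(M.commz (inv_mem hh)).eq, inv_mul_cancel_right]
  · rw [e, M.rho_act h hh _ hy, he]

end Mod

end Cfsg.Agent.U62Rec
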