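import Cfsg.Agent.U62Rec.Table

/-!
# Finite conditions excluding conjugates of `z` in `O₂(C(z))`

For a singular vector `v` the conditions say: there are no subspace `I` and no set `B` of maps with
the properties established in `InJ`.
-/

set_option autoImplicit false

namespace Cfsg.Agent.U62Rec

/-- Adjoin a vector to a subspace given by its list. -/
def ext (L : List ℕ) (i : ℕ) : List ℕ :=
  bif mem i L || decide (32 ≤ L.length) then L else L ++ L.map (· ^^^ i)

/-- Adjoin images under maps, a few times. -/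
def close (A : List ℕ) : ℕ → List ℕ → List ℕ
  | 0, L => L
  | n + 1, L => close A n ((A.flatMap fun a => L.map (app a)).foldl ext L)

/-- Totally singular. -/
def sing (l : ℕ) (L : List ℕ) : Bool := L.all fun a => !qv l a && L.all fun b => !fv a b

/-- No repetition. -/
def nodupB : List ℕ → Bool
  | [] => true
  | a :: r => !mem a r && nodupB r

theorem nodupB_iff : ∀ {L : List ℕ}, nodupB L = true ↔ L.Nodup
  | [] => by simp [nodupB]
  | a :: r => by
    simp only [nodupB, Bool.and_eq_true, Bool.not_eq_true', ← Bool.not_eq_true, mem_iff,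
      List.nodup_cons, nodupB_iff]

/-- The maps allowed for a given subspace. -/
def dispOK (v : ℕ) (P L : List ℕ) (g : ℕ) : Bool :=
  Nat.beq (cmp g g) idm && P.all (fun a => mem (app g a ^^^ a) L) &&
    L.all (fun a => let d := app g a ^^^ a; Nat.beq d 0 || Nat.beq d v)

/-- A vector of the subspace outside `⟨v⟩` fixed by all listed maps. -/
def fixes (v : ℕ) (L G : List ℕ) : Bool :=
  L.any fun w => !Nat.beq w 0 && !Nat.beq w v && G.all fun g => Nat.beq (app g w) w

/-- Adjoin a map to a group given by its list. -/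
def extG (L : List ℕ) (g : ℕ) : List ℕ :=
  bif mem g L || decide (64 ≤ L.length) then L else L ++ L.map (cmp g)

/-- The products of conjugates of `g` by the listed pairs. -/
def ncl (cj : List (ℕ × ℕ)) : ℕ → List ℕ → List ℕ
  | 0, L => L
  | n + 1, L => ncl cj n ((cj.flatMap fun p => L.map fun x => cmp p.1 (cmp x p.2)).foldl extG L)

/-- The normal closure of `g` is too large. -/
def tooBig (cj : List (ℕ × ℕ)) (sz : ℕ) (g : ℕ) : Bool :=
  let N := ncl cj 3 (extG [idm] g)
  decide (128 < N.length * sz) && nodupB N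

/-- The data of a singular vector. -/
structure InCase where
  v : ℕ
  /-- maps fixing `v` under which the subspace is invariant -/
  A : List ℕ
  /-- the possible maps -/
  S : List ℕ
  /-- vectors orthogonal to `v` -/
  P : List ℕ
  /-- pairs of mutually inverse maps fixing `v` -/
  cj : List (ℕ × ℕ)
  /-- the candidates for the subspace -/
  Ls : List (List ℕ)

/-- The subspaces containing `v`. -/
def InCase.lsOK (c : InCase) (l : ℕ) : Bool :=
  mem 0 (c.Ls.headD []) && c.Ls.headD [] == [0, c.v] &&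
    c.Ls.all (fun L => nodupB L && (List.range 256).all fun i =>
      mem i L || qv l i || L.any (fun x => fv i x) ||
        (let L' := close c.A 2 (ext L i)
         !sing l L' || c.Ls.any (fun M => decide (L.length < M.length) && M.all (fun x => mem x L'))))

/-- No maps for any candidate. -/
def InCase.gOK (c : InCase) : Bool :=
  c.P.all (fun a => decide (a < 256) && !fv a c.v) &&
    c.Ls.all fun L =>
      let G0 := c.S.filter (dispOK c.v c.P L)
      decide (G0.length * L.length < 128) || fixes c.v L G0 ||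
        (let G1 := G0.filter (fun g => !tooBig c.cj L.length g)
         decide (G1.length * L.length < 128) || fixes c.v L G1)

/-- Both. -/
def InCase.ok (c : InCase) (l : ℕ) : Bool := c.lsOK l && c.gOK

/-- No maps for any candidate but the list `bad`. -/
def InCase.gOKX (c : InCase) (bad : List ℕ) : Bool :=
  c.P.all (fun a => decide (a < 256) && !fv a c.v) &&
    c.Ls.all fun L =>
      L == bad ||
      (let G0 := c.S.filter (dispOK c.v c.P L)
       decide (G0.length * L.length < 128) || fixes c.v L G0 ||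
        (let G1 := G0.filter (fun g => !tooBig c.cj L.length g)
         decide (G1.length * L.length < 128) || fixes c.v L G1))

/-- Both. -/
def InCase.okX (c : InCase) (l : ℕ) (bad : List ℕ) : Bool := c.lsOK l && c.gOKX bad

theorem InCase.okX_of_ok {c : InCase} {l : ℕ} (h : c.ok l = true) : c.okX l [] = true := by
  simp only [InCase.ok, InCase.okX, InCase.gOK, InCase.gOKX, Bool.and_eq_true,
    List.all_eq_true] at h ⊢
  exact ⟨h.1, h.2.1, fun L hL => by rw [h.2.2 L hL, Bool.or_true]⟩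

theorem ext_sub {X : Set ℕ} (hx : ∀ a ∈ X, ∀ b ∈ X, a ^^^ b ∈ X) {L : List ℕ} {i : ℕ}
    (hL : ∀ a ∈ L, a ∈ X) (hi : i ∈ X) : ∀ a ∈ ext L i, a ∈ X := by
  unfold ext
  cases h : mem i L || decide (32 ≤ L.length) with
  | true => simpa using hL
  | false =>
    intro a ha
    simp only [cond_false, List.mem_append, List.mem_map] at ha
    rcases ha with ha | ⟨b, hb, rfl⟩
    exacts [hL a ha, hx b (hL b hb) i hi]

theorem foldl_ext_sub {X : Set ℕ} (hx : ∀ a ∈ X, ∀ b ∈ X, a ^^^ b ∈ X) :
    ∀ (N L : List ℕ), (∀ a ∈ N, a ∈ X) → (∀ a ∈ L, a ∈ X) → ∀ a ∈ N.foldl ext L, a ∈ X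
  | [], L, _, hL => by simpa using hL
  | i :: N, L, hN, hL => by
    rw [List.foldl_cons]
    exact foldl_ext_sub hx N _ (fun a ha => hN a (List.mem_cons_of_mem _ ha))
      (ext_sub hx hL (hN i List.mem_cons_self))

theorem close_sub {X : Set ℕ} {A : List ℕ} (hx : ∀ a ∈ X, ∀ b ∈ X, a ^^^ b ∈ X)
    (hA : ∀ m ∈ A, ∀ a ∈ X, app m a ∈ X) :
    ∀ (n : ℕ) (L : List ℕ), (∀ a ∈ L, a ∈ X) → ∀ a ∈ close A n L, a ∈ X
  | 0, L, hL => by simpa [close] using hL
  | n + 1, L, hL => by
    rw [close]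
    refine close_sub hx hA n _ (foldl_ext_sub hx _ _ (fun a ha => ?_) hL)
    obtain ⟨m, hm, ha⟩ := List.mem_flatMap.1 ha
    obtain ⟨b, hb, rfl⟩ := List.mem_map.1 ha
    exact hA m hm b (hL b hb)

theorem extG_sub {X : Set ℕ} (hx : ∀ a ∈ X, ∀ b ∈ X, cmp a b ∈ X) {L : List ℕ} {i : ℕ}
    (hL : ∀ a ∈ L, a ∈ X) (hi : i ∈ X) : ∀ a ∈ extG L i, a ∈ X := by
  unfold extG
  cases h : mem i L || decide (64 ≤ L.length) with
  | true => simpa using hL
  | false =>
    intro a ha
    simp only [cond_false, List.mem_append, List.mem_map] at ha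
    rcases ha with ha | ⟨b, hb, rfl⟩
    exacts [hL a ha, hx i hi b (hL b hb)]

theorem foldl_extG_sub {X : Set ℕ} (hx : ∀ a ∈ X, ∀ b ∈ X, cmp a b ∈ X) :
    ∀ (N L : List ℕ), (∀ a ∈ N, a ∈ X) → (∀ a ∈ L, a ∈ X) → ∀ a ∈ N.foldl extG L, a ∈ X
  | [], L, _, hL => by simpa using hL
  | i :: N, L, hN, hL => by
    rw [List.foldl_cons]
    exact foldl_extG_sub hx N _ (fun a ha => hN a (List.mem_cons_of_mem _ ha))
      (extG_sub hx hL (hN i List.mem_cons_self))

theorem ncl_sub {X : Set ℕ} {cj : List (ℕ × ℕ)} (hx : ∀ a ∈ X, ∀ b ∈ X, cmp a b ∈ X)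
    (hc : ∀ p ∈ cj, ∀ a ∈ X, cmp p.1 (cmp a p.2) ∈ X) :
    ∀ (n : ℕ) (L : List ℕ), (∀ a ∈ L, a ∈ X) → ∀ a ∈ ncl cj n L, a ∈ X
  | 0, L, hL => by simpa [ncl] using hL
  | n + 1, L, hL => by
    rw [ncl]
    refine ncl_sub hx hc n _ (foldl_extG_sub hx _ _ (fun a ha => ?_) hL)
    obtain ⟨p, hp, ha⟩ := List.mem_flatMap.1 ha
    obtain ⟨b, hb, rfl⟩ := List.mem_map.1 ha
    exact hc p hp b (hL b hb)

/-- There are no subspace and no set of maps with the listed properties. -/
theorem InCase.absurd {c : InCase} {l : ℕ} {bad : List ℕ} (h : c.okX l bad = true) (I : Set ℕ)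
    (B : Set ℕ) (hbad : I ≠ {x | x ∈ bad})
    (hI : ∀ a ∈ I, a < 256) (h0 : 0 ∈ I) (hv : c.v ∈ I)
    (hx : ∀ a ∈ I, ∀ b ∈ I, a ^^^ b ∈ I) (hq : ∀ a ∈ I, qv l a = false)
    (hf : ∀ a ∈ I, ∀ b ∈ I, fv a b = false) (hA : ∀ m ∈ c.A, ∀ a ∈ I, app m a ∈ I)
    (hBS : ∀ g ∈ B, g ∈ c.S) (hid : idm ∈ B) (hBm : ∀ a ∈ B, ∀ b ∈ B, cmp a b ∈ B)
    (hBc : ∀ p ∈ c.cj, ∀ a ∈ B, cmp p.1 (cmp a p.2) ∈ B)
    (hB2 : ∀ g ∈ B, cmp g g = idm)
    (hd : ∀ g ∈ B, ∀ a < 256, fv a c.v = false → app g a ^^^ a ∈ I)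
    (hd' : ∀ g ∈ B, ∀ a ∈ I, app g a ^^^ a = 0 ∨ app g a ^^^ a = c.v)
    (hfix : ∀ a ∈ I, (∀ g ∈ B, app g a = a) → a = 0 ∨ a = c.v)
    (hcard : B.ncard * I.ncard = 128) : False := by
  classical
  simp only [InCase.okX, InCase.lsOK, InCase.gOKX, Bool.and_eq_true, List.all_eq_true, Bool.or_eq_true,
    decide_eq_true_eq, List.mem_range, mem_iff, beq_iff_eq, List.any_eq_true, Bool.not_eq_true',
    nodupB_iff] at h
  obtain ⟨⟨⟨-, hhd⟩, hls⟩, hP, hg⟩ := h
  have hne : c.Ls ≠ [] := fun e => by simp [e] at hhd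
  have hfilt : (c.Ls.filter fun L => decide (∀ x ∈ L, x ∈ I)) ≠ [] := by
    intro e
    have hmem : c.Ls.headD [] ∈ c.Ls := by
      obtain ⟨a, r, hr⟩ := List.exists_cons_of_ne_nil hne
      rw [hr]; exact List.mem_cons_self
    have := List.filter_eq_nil_iff.1 e _ hmem
    rw [hhd] at this
    simp [h0, hv] at this
  obtain ⟨L, hL, hmax⟩ : ∃ L ∈ c.Ls.filter (fun L => decide (∀ x ∈ L, x ∈ I)),
      ∀ M ∈ c.Ls.filter (fun L => decide (∀ x ∈ L, x ∈ I)), M.length ≤ L.length := by
    obtain ⟨a, ha⟩ := List.exists_mem_of_ne_nil _ hfilt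
    obtain ⟨L, hL, hm⟩ := Finset.exists_max_image
      (c.Ls.filter (fun L => decide (∀ x ∈ L, x ∈ I))).toFinset List.length ⟨a, List.mem_toFinset.2 ha⟩
    exact ⟨L, List.mem_toFinset.1 hL, fun M hM => hm M (List.mem_toFinset.2 hM)⟩
  simp only [List.mem_filter, decide_eq_true_eq] at hL hmax
  obtain ⟨hLs, hLI⟩ := hL
  obtain ⟨hnd, hstep⟩ := hls L hLs
  have heq : ∀ i ∈ I, i ∈ L := by
    intro i hi
    rcases hstep i (hI i hi) with ((h1 | h1) | ⟨x, hx', h1⟩) | h1
    · exact h1
    · rw [hq i hi] at h1; simp at h1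
    · rw [hf i hi x (hLI x hx')] at h1; simp at h1
    · have hsub := close_sub hx hA 2 _ (ext_sub hx hLI hi)
      rcases h1 with h1 | ⟨M, hM, hlen, hMs⟩
      · have : sing l (close c.A 2 (ext L i)) = true := by
          simp only [sing, List.all_eq_true, Bool.and_eq_true, Bool.not_eq_true']
          exact fun a ha => ⟨hq a (hsub a ha), fun b hb => hf a (hsub a ha) b (hsub b hb)⟩
        rw [this] at h1; simp at h1
      · have := hmax M ⟨hM, fun x hx' => hsub x (hMs x hx')⟩
        omega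
  have hIL : I = {x | x ∈ L} := Set.ext fun x => ⟨heq x, hLI x⟩
  have hIn : I.ncard = L.length := by
    rw [hIL, show {x | x ∈ L} = (L.toFinset : Set ℕ) by ext; simp, Set.ncard_coe_finset,
      List.toFinset_card_of_nodup hnd]
  have hdisp : ∀ g ∈ B, dispOK c.v c.P L g = true := by
    intro g hg'
    simp only [dispOK, Bool.and_eq_true, List.all_eq_true, Nat.beq_eq, Bool.or_eq_true, mem_iff]
    exact ⟨⟨hB2 g hg', fun a ha => heq _ (hd g hg' a (hP a ha).1 (hP a ha).2)⟩,
      fun a ha => hd' g hg' a (hLI a ha)⟩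
  have key : ∀ G : List ℕ, (∀ g ∈ B, g ∈ G) → ¬ (G.length * L.length < 128) ∧
      fixes c.v L G = false := by
    intro G hBG
    refine ⟨fun hlt => ?_, ?_⟩
    · have h1 : B.ncard ≤ G.length := by
        calc B.ncard ≤ (G.toFinset : Set ℕ).ncard :=
              Set.ncard_le_ncard (fun g hg' => by simpa using hBG g hg') (Finset.finite_toSet _)
          _ = G.toFinset.card := Set.ncard_coe_finset _
          _ ≤ G.length := List.toFinset_card_le _
      have := Nat.mul_le_mul_right L.length h1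
      rw [hIn] at hcard
      omega
    · rw [← Bool.not_eq_true]
      intro hf'
      simp only [fixes, List.any_eq_true, Bool.and_eq_true, Bool.not_eq_true', List.all_eq_true,
        Nat.beq_eq, ← Bool.not_eq_true] at hf'
      obtain ⟨w, hw, ⟨hw0, hwv⟩, hwG⟩ := hf'
      rcases hfix w (hLI w hw) (fun g hg' => hwG g (hBG g hg')) with e | e
      exacts [hw0 e, hwv e]
  have h0' : ∀ g ∈ B, g ∈ c.S.filter (dispOK c.v c.P L) := fun g hg' =>
    List.mem_filter.2 ⟨hBS g hg', hdisp g hg'⟩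
  have hk0 := key _ h0'
  rcases hg L hLs with h0 | ((h1 | h1) | h1)
  · exact hbad (h0 ▸ hIL)
  · exact hk0.1 h1
  · rw [hk0.2] at h1; simp at h1
  · have hk1 := key ((c.S.filter (dispOK c.v c.P L)).filter fun g => !tooBig c.cj L.length g)
      (fun g hg' => List.mem_filter.2 ⟨h0' g hg', by
        rw [Bool.not_eq_true', ← Bool.not_eq_true]
        intro hb
        simp only [tooBig, Bool.and_eq_true, decide_eq_true_eq, nodupB_iff] at hb
        have hsub := ncl_sub hBm hBc 3 _ (extG_sub hBm (L := [idm]) (by simpa using hid) hg')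
        have h2 : (ncl c.cj 3 (extG [idm] g)).length ≤ B.ncard := by
          rw [← List.toFinset_card_of_nodup hb.2, ← Set.ncard_coe_finset]
          refine Set.ncard_le_ncard (fun x hx' => hsub x (by simpa using hx')) ?_
          exact Set.Finite.subset (Finset.finite_toSet c.S.toFinset) fun x hx' => by
            simpa using hBS x hx'
        have := Nat.mul_le_mul_right L.length h2
        rw [hIn] at hcard
        omega⟩)
    rcases h1 with h1 | h1
    · exact hk1.1 h1
    · rw [hk1.2] at h1; simp at h1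

end Cfsg.Agent.U62Rec
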