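import Cfsg.Agent.U62Rec.Pairs
import Cfsg.Agent.U62Rec.Ident

/-!
# The involutions of the group of a component

An involution fixing `z` is a member, a product of two adjacent members or a product of three
pairwise adjacent members not on a line.
-/

set_option autoImplicit false

open Cfsg Subgroup

namespace Cfsg.Agent.U62Rec

open Cfsg.Agent.LargeExtra Cfsg.Agent.ThreeTrans Cfsg.Agent.ThreeTrans.SpPSU

variable {G : Type*} [Group G]

/-- A member, a pair product or a triangle product. -/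
def Kinds [Finite G] (C : Cfg) (D : Set G) (z k : G) : Prop :=
  k ∈ comp2 D z ∨ (∃ a ∈ comp2 D z, ∃ b ∈ dperp D a, k = a * b) ∨
    ∃ a ∈ comp2 D z, ∃ b ∈ dperp D a, ∃ e ∈ dperp D a, e ∈ dperp D b ∧
      (∀ Ma : Mod C a, Ma.rho e ≠ Ma.rho b) ∧ k = a * b * e

namespace Full

variable [Finite G] {C : Cfg} {outs : List Out} {c : ℕ} {P : List ℕ} {D : Set G} {z : G} {W : Prop}
variable {a b d e k t w y : G}
variable (K : Full C outs c P D z W)
include K

theorem kinds_of_base (ha : a ∈ comp2 D z) (h : Kinds C D a k) : Kinds C D z k := by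
  simpa only [Kinds, K.toCtx.comp2_eq ha] using h

theorem cent_stab (ht : t ∈ centralizer ({z} : Set G)) (ha : a ∈ comp2 D z) :
    t * a * t⁻¹ ∈ comp2 D z := by
  have := K.comp2_map ha t
  rwa [mem_centralizer_singleton_iff.1 ht, mul_inv_cancel_right] at this

theorem cent_norm (ht : t ∈ centralizer ({z} : Set G)) (hk : k ∈ closure (comp2 D z)) :
    t * k * t⁻¹ ∈ closure (comp2 D z) := by
  have hle : closure (comp2 D z) ≤ (closure (comp2 D z)).comap (MulAut.conj t).toMonoidHom :=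
    (closure_le _).2 fun a ha => subset_closure (K.cent_stab ht ha)
  exact hle hk

theorem lift_nbr (M : Mod C z) (ht : t ∈ centralizer ({z} : Set G)) (hw : w ∈ dperp D z) :
    t * w * t⁻¹ ∈ dperp D z ∧
      M.rho (t * w * t⁻¹) = cmp (cmp (M.rho t) (M.rho w)) (M.rho t⁻¹) := by
  obtain ⟨h1, -, -, -⟩ := K.nat.nbr K.env M K.hz hw
  have hz : t * z * t⁻¹ = z := by
    rw [mem_centralizer_singleton_iff.1 ht, mul_inv_cancel_right]
  refine ⟨⟨K.env.closed t w hw.1, fun e => hw.2.1 ?_, ?_⟩, ?_⟩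
  · rw [← hz] at e
    exact mul_left_cancel (mul_right_cancel e)
  · rw [← hz, Commute, SemiconjBy, conjm, conjm, hw.2.2.eq]
  · rw [M.rho_mul _ (mul_mem ht h1) _ (inv_mem ht), M.rho_mul _ ht _ h1]

/-- Members over distinct points do not lie on one line. -/
theorem off (M : Mod C z) (hd : d ∈ dperp D z) (he : e ∈ dperp D z) (hde : Commute d e)
    (hne : M.rho d ≠ M.rho e) (Md : Mod C d) : Md.rho z ≠ Md.rho e := by
  intro h
  have hned : e ≠ d := fun e' => hne (by rw [e'])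
  have hz : z ∈ dperp D d := K.nat.dperp_symm K.env K.hz hd
  have hed : e ∈ dperp D d := ⟨he.1, hned, hde⟩
  obtain ⟨Me⟩ := K.env.mods e he.1
  have h1 := K.nat.mate K.env Md hd.1 hz hed h.symm he.2.1 Me
  exact hne (K.nat.mate K.env Me he.1 ⟨hd.1, hned.symm, hde.symm⟩
    (K.nat.dperp_symm K.env K.hz he) h1 hd.2.1.symm M)

/-- An element of `O₂(C z)` over a moved vector is a product of two members of that fibre. -/
theorem oc_pair (M : Mod C z) {q : ℕ} (hq : q ∈ P) (ha : a ∈ oc z) (h0 : M.bar a ≠ 0)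
    (hv : M.bar a ∈ moved q) :
    ∃ d ∈ dperp D z, ∃ e ∈ dperp D z,
      d ≠ e ∧ M.rho d = q ∧ M.rho e = q ∧ a = d * e := by
  classical
  obtain ⟨y, hy⟩ := K.nbr
  obtain ⟨w, hw, rfl⟩ := K.nat.exists_over K.env M K.hz hy hq
  obtain ⟨h1, -, hK, -⟩ := K.nat.nbr K.env M K.hz hw
  obtain ⟨j, hj, hje⟩ := (M.mem_moved h1 _).1 hv
  obtain ⟨i, hi, hie⟩ := hK.moved_I j hj
  rw [← hje] at hie
  have hi1 : i ≠ 1 := fun e => h0 (by rw [← hie, e, M.bar_one])
  obtain ⟨hw', hwr⟩ := K.nat.fibre_mem K.env M K.hz hw hi hi1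
  have hne : w ≠ w * (i * z) := fun e => by
    have h2 : i * z = 1 := mul_eq_left.1 e.symm
    rw [eq_inv_of_mul_eq_one_left h2, M.bar_inv M.z_mem, M.bar_z] at hie
    exact h0 hie.symm
  have hww := K.toCtx.mul_self hw.1
  rcases (M.bar_eq_iff hi.1 ha).1 hie with e | e
  swap
  · exact ⟨w, hw, _, hw', hne, rfl, hwr, by rw [e, ← mul_assoc, hww, one_mul]⟩
  -- `i = z w w'`
  obtain ⟨w2, hw2, hw2r, hw2n⟩ := K.exists_other M hw {w, w * (i * z)}
    (Finset.card_le_two.trans (by norm_num))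
  simp only [Finset.mem_insert, Finset.mem_singleton, not_or] at hw2n
  obtain ⟨w3, hw3, hw3r, hw3n⟩ := K.exists_other M hw {w, w * (i * z), w2} Finset.card_le_three
  simp only [Finset.mem_insert, Finset.mem_singleton, not_or] at hw3n
  have h5 := K.five M hw ⟨hw', hwr, hne.symm⟩ ⟨hw2, hw2r, hw2n.1⟩ ⟨hw3, hw3r, hw3n.1⟩
    (Ne.symm hw2n.2) (Ne.symm hw3n.2.1) (Ne.symm hw3n.2.2)
  refine ⟨w3, hw3, w2, hw2, hw3n.2.2, hw3r, hw2r, ?_⟩
  rw [← h5, mul_assoc _ w2, K.toCtx.mul_self hw2.1, mul_one, mul_assoc z, ← mul_assoc w w, hww,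
    one_mul, (M.set.comm_z hi.1).eq, ← mul_assoc, M.zz, one_mul, e]

/-- The image is a transvection. -/
theorem single (M : Mod C z) (he : e ∈ dperp D z) (hk : k ∈ centralizer ({z} : Set G))
    (hkk : k * k = 1) (hr : M.rho k = M.rho e) : Kinds C D z k := by
  classical
  obtain ⟨h1, -, hK, hp⟩ := K.nat.nbr K.env M K.hz he
  have hee := K.toCtx.mul_self he.1
  obtain ⟨a, ha, rfl⟩ : ∃ a ∈ oc z, k = e * a := by
    refine ⟨e * k, ?_, by rw [← mul_assoc, hee, one_mul]⟩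
    have := (M.rho_inj h1 hk).1 hr.symm
    rwa [K.toCtx.inv_eq he.1] at this
  have hfx : M.Fx e a := by
    show M.bar (e * a * e⁻¹) = M.bar a
    have : e * a * e⁻¹ = a⁻¹ := by
      rw [K.toCtx.inv_eq he.1]
      refine eq_inv_of_mul_eq_one_left ?_
      rw [mul_assoc (e * a), hkk]
    rw [this, M.bar_inv ha]
  have hae : Commute a e := hK.fix a ha hfx
  have ha2 : a * a = 1 := by
    have : e * a * (e * a) = a * a := by
      rw [← hae.eq, mul_assoc, hae.eq, ← mul_assoc e e, hee, one_mul]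
    rw [← this]; exact hkk
  by_cases h0 : M.bar a = 0
  · rcases M.bar_eq a ha h0 with e' | e'
    · left; rw [e', mul_one]; exact K.nbr_mem he
    · exact Or.inr (Or.inl ⟨e, K.nbr_mem he, z, K.nat.dperp_symm K.env K.hz he, by rw [e']⟩)
  obtain ⟨q, hq, hv⟩ := K.shapes.sing _ (M.bar_lt a) h0 ((M.sq_eq ha).1 ha2)
  have hcom := K.shapes.fixT _ hp q hq _ hv h0 ((M.fx_iff h1 ha).1 hfx)
  obtain ⟨d, hd, f, hf, hdf, hdr, hfr, rfl⟩ := K.oc_pair M hq ha h0 hv
  have hdfc : Commute d f := K.nat.same_commute K.env M K.hz hd hf (hfr.trans hdr.symm)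
  have hde : Commute d e := (K.nat.commute_iff K.env M K.hz hd he).2 (by rw [hdr, com_comm]; exact hcom)
  have hfe : Commute f e := (K.nat.commute_iff K.env M K.hz hf he).2 (by rw [hfr, com_comm]; exact hcom)
  by_cases hpq : M.rho e = q
  · by_cases hed : e = d
    · left; rw [hed, ← mul_assoc, K.toCtx.mul_self hd.1, one_mul]; exact K.nbr_mem hf
    by_cases hef : e = f
    · left
      rw [hef, hdfc.eq, ← mul_assoc, K.toCtx.mul_self hf.1, one_mul]; exact K.nbr_mem hd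
    obtain ⟨g, hg, hgr, hgn⟩ := K.exists_other M he {e, d, f} Finset.card_le_three
    simp only [Finset.mem_insert, Finset.mem_singleton, not_or] at hgn
    have h5 := K.five M he ⟨hd, hdr.trans hpq.symm, Ne.symm hed⟩ ⟨hf, hfr.trans hpq.symm, Ne.symm hef⟩
      ⟨hg, hgr, hgn.1⟩ hdf (Ne.symm hgn.2.1) (Ne.symm hgn.2.2)
    refine Or.inr (Or.inl ⟨z, K.self_mem, g, hg, ?_⟩)
    rw [← h5, ← mul_assoc z, ← mul_assoc z, ← mul_assoc z, M.zz, one_mul, mul_assoc]
  · have hzd : z ∈ dperp D d := K.nat.dperp_symm K.env K.hz hd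
    have hned : e ≠ d := fun h => hpq (h ▸ hdr)
    have hnef : e ≠ f := fun h => hpq (h ▸ hfr)
    refine Or.inr (Or.inr ⟨d, K.nbr_mem hd, f, ⟨hf.1, hdf.symm, hdfc⟩, e, ⟨he.1, hned, hde⟩,
      ⟨he.1, hnef, hfe⟩, fun Md h => ?_, by rw [(hde.mul_left hfe).eq]⟩)
    have h2 := K.nat.mate K.env M K.hz hf hd (hdr.trans hfr.symm) hdf Md
    exact K.off M hd he hde (fun h' => hpq (h'.symm.trans hdr)) Md (h2.symm.trans h.symm)

/-- The image is a product of two commuting transvections. -/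
theorem double (M : Mod C z) (hd : d ∈ dperp D z) (he : e ∈ dperp D z)
    (hne : M.rho d ≠ M.rho e) (hcom : com (M.rho d) (M.rho e) = true)
    (hk : k ∈ centralizer ({z} : Set G)) (hkk : k * k = 1)
    (hr : M.rho k = cmp (M.rho d) (M.rho e)) : Kinds C D z k := by
  classical
  obtain ⟨hd1, -, hKd, hpd⟩ := K.nat.nbr K.env M K.hz hd
  obtain ⟨he1, -, hKe, hpe⟩ := K.nat.nbr K.env M K.hz he
  have hdd := K.toCtx.mul_self hd.1
  have hee := K.toCtx.mul_self he.1
  have hde : Commute d e := (K.nat.commute_iff K.env M K.hz hd he).2 hcom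
  have hbb : d * e * (d * e) = 1 := by
    rw [mul_assoc, ← mul_assoc e, ← hde.eq, mul_assoc d e, hee, mul_one, hdd]
  have hbi : (d * e)⁻¹ = d * e := inv_eq_of_mul_eq_one_right hbb
  have hbC := mul_mem hd1 he1
  have hval : M.rho (d * e) = cmp (M.rho d) (M.rho e) := M.rho_mul d hd1 e he1
  obtain ⟨a, ha, rfl⟩ : ∃ a ∈ oc z, k = d * e * a := by
    refine ⟨d * e * k, ?_, by rw [← mul_assoc, hbb, one_mul]⟩
    have := (M.rho_inj hbC hk).1 (hval.trans hr.symm)
    rwa [hbi] at this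
  have hfx : app (cmp (M.rho d) (M.rho e)) (M.bar a) = M.bar a := by
    rw [← hval, ← M.rho_act _ hbC a ha]
    have : d * e * a * (d * e)⁻¹ = a⁻¹ := by
      rw [hbi]
      refine eq_inv_of_mul_eq_one_left ?_
      rw [mul_assoc (d * e * a), hkk]
    rw [this, M.bar_inv ha]
  obtain ⟨v1, hv1, v2, hv2, hv⟩ := K.shapes.fixSum _ hpd _ hpe hne hcom _ (M.bar_lt a) hfx
  -- move inside the two fibres
  have shift : ∀ {d : G} {v : ℕ}, d ∈ dperp D z → v ∈ moved (M.rho d) →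
      ∃ f ∈ dperp D z, M.rho f = M.rho d ∧ ∃ t ∈ oc z, M.bar t = v ∧ f = d * t := by
    intro d v hd hv
    obtain ⟨hd1, -, hKd, -⟩ := K.nat.nbr K.env M K.hz hd
    obtain ⟨j, hj, rfl⟩ := (M.mem_moved hd1 v).1 hv
    obtain ⟨i, hi, hie⟩ := hKd.moved_I j hj
    by_cases hi1 : i = 1
    · exact ⟨d, hd, rfl, 1, one_mem _, by rw [← hie, hi1], (mul_one d).symm⟩
    · exact ⟨_, (K.nat.fibre_mem K.env M K.hz hd hi hi1).1,
        (K.nat.fibre_mem K.env M K.hz hd hi hi1).2, i * z, mul_mem hi.1 M.z_mem,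
        by rw [M.bar_mul_z hi.1, hie], rfl⟩
  obtain ⟨f1, hf1, hf1r, t1, ht1, ht1b, rfl⟩ := shift hd hv1
  obtain ⟨f2, hf2, hf2r, t2, ht2, ht2b, rfl⟩ := shift he hv2
  have hc1 : Commute (d * t1) e := (K.nat.commute_iff K.env M K.hz hf1 he).2 (by rw [hf1r]; exact hcom)
  have ht1e : Commute t1 e := by
    have h := hde.mul_left hc1
    rwa [← mul_assoc, hdd, one_mul] at h
  have hff : Commute (d * t1) (e * t2) :=
    (K.nat.commute_iff K.env M K.hz hf1 hf2).2 (by rw [hf1r, hf2r]; exact hcom)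
  have hne' : M.rho (d * t1) ≠ M.rho (e * t2) := by rwa [hf1r, hf2r]
  have hbar : M.bar (t1 * t2) = M.bar a := by rw [M.bar_mul t1 ht1 t2 ht2, ht1b, ht2b, hv]
  have hprod : d * t1 * (e * t2) = d * e * (t1 * t2) := by
    rw [show d * t1 * (e * t2) = d * (t1 * e) * t2 by group, ht1e.eq]; group
  have hdp : (e * t2) ∈ dperp D (d * t1) :=
    ⟨hf2.1, fun h => hne' (by rw [h]), hff⟩
  rcases (M.bar_eq_iff (mul_mem ht1 ht2) ha).1 hbar with e' | e'
  · exact Or.inr (Or.inl ⟨_, K.nbr_mem hf1, _, hdp, by rw [hprod, e']⟩)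
  · refine Or.inr (Or.inr ⟨_, K.nbr_mem hf1, _, hdp, z, K.nat.dperp_symm K.env K.hz hf1,
      K.nat.dperp_symm K.env K.hz hf2, fun Ma => ?_, by rw [hprod, e', ← mul_assoc]⟩)
    exact K.off M hf1 hf2 hff hne' Ma

/-- The involutions fixing `z`. -/
theorem invol_cases (hU : k ∈ closure (comp2 D z)) (hk : k ∈ centralizer ({z} : Set G))
    (hkk : k * k = 1) (hk1 : k ≠ 1) : Kinds C D z k := by
  classical
  obtain ⟨M⟩ := K.env.mods z K.hz
  obtain ⟨y, hy⟩ := K.nbr
  by_cases hid : M.rho k = idm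
  · have hko : k ∈ oc z := (M.rho_ker k hk).1 hid
    by_cases h0 : M.bar k = 0
    · rcases M.bar_eq k hko h0 with e | e
      · exact absurd e hk1
      · exact Or.inl (e ▸ K.self_mem)
    obtain ⟨q, hq, hv⟩ := K.shapes.sing _ (M.bar_lt k) h0 ((M.sq_eq hko).1 hkk)
    obtain ⟨d, hd, f, hf, hdf, hdr, hfr, rfl⟩ := K.oc_pair M hq hko h0 hv
    exact Or.inr (Or.inl ⟨d, K.nbr_mem hd, f, ⟨hf.1, hdf.symm,
      K.nat.same_commute K.env M K.hz hd hf (hfr.trans hdr.symm)⟩, rfl⟩)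
  have hsq : cmp (M.rho k) (M.rho k) = idm := by rw [← M.rho_mul k hk k hk, hkk, M.rho_one]
  obtain ⟨o, ho, h, hh, hconj⟩ := K.nat.facts.cls _ (M.rho_gen k hk) hid hsq
  obtain ⟨t, ht, rfl⟩ := M.exists_rho hh
  have hmk : M.rho k = cmp (cmp (M.rho t) o.1.c) (M.rho t⁻¹) := by
    rw [← hconj, cmp_assoc, (M.rho_cancel ht).1, cmp_idm (M.rho_code k)]
  rcases K.shapes.shape o.1.c (List.mem_map.2 ⟨o, ho, rfl⟩) with hc | ⟨p, hp, q, hq, hpq, hcom, hc⟩ |
    ⟨hW, hwords⟩
  · obtain ⟨w, hw, hwr⟩ := K.nat.exists_over K.env M K.hz hy hc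
    obtain ⟨hw', hwr'⟩ := K.lift_nbr M ht hw
    exact K.single M hw' hk hkk (by rw [hwr', hwr, hmk])
  · obtain ⟨w, hw, hwr⟩ := K.nat.exists_over K.env M K.hz hy hp
    obtain ⟨v, hv, hvr⟩ := K.nat.exists_over K.env M K.hz hy hq
    obtain ⟨hw', -⟩ := K.lift_nbr M ht hw
    obtain ⟨hv', -⟩ := K.lift_nbr M ht hv
    obtain ⟨hw1, -, -, -⟩ := K.nat.nbr K.env M K.hz hw'
    obtain ⟨hv1, -, -, -⟩ := K.nat.nbr K.env M K.hz hv'
    obtain ⟨hw0, -, -, -⟩ := K.nat.nbr K.env M K.hz hw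
    obtain ⟨hv0, -, -, -⟩ := K.nat.nbr K.env M K.hz hv
    refine K.double M hw' hv' (fun e => hpq ?_) ((K.nat.commute_iff K.env M K.hz hw' hv').1 ?_)
      hk hkk ?_
    · have hinj : ∀ {u u' : G}, u ∈ centralizer ({z} : Set G) → u' ∈ centralizer ({z} : Set G) →
          M.rho (t * u * t⁻¹) = M.rho (t * u' * t⁻¹) → M.rho u = M.rho u' := by
        intro u u' hu hu' e
        have hC : ∀ {u}, u ∈ centralizer ({z} : Set G) → t * u * t⁻¹ ∈ centralizer ({z} : Set G) :=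
          fun hu => mul_mem (mul_mem ht hu) (inv_mem ht)
        rw [M.rho_inj (hC hu) (hC hu')] at e
        rw [M.rho_inj hu hu']
        have h2 := oc_conj_mem (inv_mem ht) e
        rwa [show t⁻¹ * ((t * u * t⁻¹)⁻¹ * (t * u' * t⁻¹)) * t⁻¹⁻¹ = u⁻¹ * u' by group] at h2
      rw [← hwr, ← hvr]
      exact hinj hw0 hv0 e
    · have hwv : Commute w v := (K.nat.commute_iff K.env M K.hz hw hv).2 (by rw [hwr, hvr]; exact hcom)
      rw [Commute, SemiconjBy, conjm, conjm, hwv.eq]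
    · rw [hmk, ← hc, ← hwr, ← hvr, ← M.rho_mul _ hw0 _ hv0,
        ← M.rho_mul _ hw1 _ hv1, ← M.rho_mul _ ht _ (mul_mem hw0 hv0),
        ← M.rho_mul _ (mul_mem ht (mul_mem hw0 hv0)) _ (inv_mem ht)]
      exact congrArg M.rho (by group)
  exfalso
  -- all maps come from the component
  have hk' : t⁻¹ * k * t ∈ closure (comp2 D z) := by
    simpa using K.cent_norm (inv_mem ht) hU
  have hkC : t⁻¹ * k * t ∈ centralizer ({z} : Set G) := mul_mem (mul_mem (inv_mem ht) hk) ht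
  have hc : IsCode o.1.c := by
    have := sidesOK_extra K.nat.sides o ho
    simp only [Out.extraOK, Bool.and_eq_true, decide_eq_true_eq] at this
    exact this.2
  have hkr : M.rho (t⁻¹ * k * t) = o.1.c := by
    rw [M.rho_mul _ (mul_mem (inv_mem ht) hk) t ht, M.rho_mul _ (inv_mem ht) k hk, cmp_assoc, hconj,
      ← cmp_assoc, (M.rho_cancel ht).2, idm_cmp hc]
  set H := closure (comp2 D z) ⊓ centralizer ({z} : Set G) with hH
  have hev : ∀ w, ∃ x ∈ H, M.rho x = evalW (o.1.c :: P) w := by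
    intro w
    induction w with
    | nil => exact ⟨1, H.one_mem, by rw [M.rho_one, evalW, List.foldr_nil]⟩
    | cons i w ih =>
      obtain ⟨x, hx, hxr⟩ := ih
      obtain ⟨x', hx', hxr'⟩ : ∃ x' ∈ H, M.rho x' = (o.1.c :: P).getD i idm := by
        rw [List.getD_eq_getElem?_getD]
        cases he : (o.1.c :: P)[i]? with
        | none => exact ⟨1, one_mem _, by rw [Option.getD_none]; exact M.rho_one⟩
        | some p =>
          simp only [Option.getD_some]
          rcases List.mem_cons.1 (List.mem_of_getElem? he) with hp | hp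
          · exact ⟨_, Subgroup.mem_inf.2 ⟨hk', hkC⟩, hkr.trans hp.symm⟩
          · obtain ⟨w, hw, hwr⟩ := K.nat.exists_over K.env M K.hz hy hp
            exact ⟨w, Subgroup.mem_inf.2 ⟨subset_closure (K.nbr_mem hw),
              (K.nat.nbr K.env M K.hz hw).1⟩, hwr⟩
      refine ⟨x' * x, mul_mem hx' hx, ?_⟩
      rw [M.rho_mul _ hx'.2 _ hx.2, hxr', hxr]
      simp only [evalW, List.foldr_cons]
  have hgen : ∀ m, Gen C.gens m → ∃ x ∈ H, M.rho x = m := by
    intro m hm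
    induction hm with
    | one => exact ⟨1, H.one_mem, M.rho_one⟩
    | @step g m hg _ ih =>
      obtain ⟨x, hx, rfl⟩ := ih
      obtain ⟨w, hw⟩ := hwords g hg
      obtain ⟨x', hx', hxr'⟩ := hev w
      exact ⟨x' * x, mul_mem hx' hx, by rw [M.rho_mul _ hx'.2 _ hx.2, hxr', hw]⟩
  have hall : H = centralizer ({z} : Set G) := by
    refine le_antisymm inf_le_right fun g hg => ?_
    obtain ⟨x, hx, hxr⟩ := hgen _ (M.rho_gen g hg)
    have h1 := (M.rho_inj hx.2 hg).1 hxr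
    have h2 : g = x * (x⁻¹ * g) := by group
    rw [h2]
    exact mul_mem hx (le_inf K.toCtx.oc_le_closure (oc_le z) h1)
  have hcard := (K.toCtx.ident K.bound Cfsg.Agent.ThreeTrans.SU32.F4.card_eq).2
  rw [← hH, hall] at hcard
  exact K.outer hW hcard

end Full

end Cfsg.Agent.U62Rec
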