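import Cfsg.Agent.U62Rec.Dichotomy
import Cfsg.Agent.LargeExtra.SingularSubgroup

/-!
# From the centraliser of the involution to coordinates

The abelianisation of `oc z` with the action of `C(z)` modulo `oc z` is a space of 256 vectors with a
quadratic form; a frame in it gives a basis of `oc z`, hence coordinates.
-/

set_option autoImplicit false

open Cfsg Subgroup
open scoped commutatorElement

namespace Cfsg.Agent.U62Rec

open Cfsg.Agent.LargeExtra

variable {G : Type*} [Group G] [Finite G]

theorem setting_of {z : G} (hz : orderOf z = 2)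
    (hJ : IsExtraspecial 2 ↥(pCore 2 ↥(centralizer ({z} : Set G))))
    (hCJ : centralizer ((pCore 2 ↥(centralizer ({z} : Set G))) : Set ↥(centralizer ({z} : Set G))) ≤
      pCore 2 ↥(centralizer ({z} : Set G))) : Setting z where
  ord := hz
  es := extraspecial_congr (equivMapOfInjective _ _ (subtype_injective _)) hJ
  cent := by
    intro x hx
    have hxz : x ∈ centralizer ({z} : Set G) :=
      mem_centralizer_singleton_iff.2 (mem_centralizer_iff.1 hx z (mem_oc_self hz)).symm
    refine ⟨⟨x, hxz⟩, hCJ (mem_centralizer_iff.2 fun j hj => Subtype.ext ?_), rfl⟩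
    exact mem_centralizer_iff.1 hx _ ⟨j, hj, rfl⟩

theorem card_oc {z : G} {n : ℕ} (h : Nat.card ↥(pCore 2 ↥(centralizer ({z} : Set G))) = n) :
    Nat.card ↥(oc z) = n := by
  rw [← h]
  exact (Nat.card_congr (equivMapOfInjective _ _ (subtype_injective _)).toEquiv).symm

theorem exists_of_forall₂ {α β : Type*} {r : α → β → Prop} {l : List α} {l' : List β}
    (h : List.Forall₂ r l l') {a : α} (ha : a ∈ l) : ∃ b ∈ l', r a b := by
  induction h with
  | nil => simp at ha
  | @cons x y l l' hxy _ ih =>
    rcases List.mem_cons.1 ha with rfl | ha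
    · exact ⟨y, List.mem_cons_self .., hxy⟩
    · obtain ⟨y', hy', h⟩ := ih ha
      exact ⟨y', List.mem_cons_of_mem _ hy', h⟩

section Space

variable {z : G} (S : Setting z) (hcard : Nat.card ↥(oc z) = 512) {Q : Type*} [Group Q]
  (φ : ↥(centralizer ({z} : Set G)) →* Q) (hφ : Function.Surjective φ)
  (hker : ∀ h, φ h = 1 ↔ (h : G) ∈ oc z)

/-- The space: the abelianisation of `oc z`. -/
abbrev OV (z : G) : Type _ := Additive (Abelianization ↥(oc z))

/-- Its quotient map. -/
def toV (z : G) (a : ↥(oc z)) : OV z := Additive.ofMul (Abelianization.of a)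

theorem toV_mul (a b : ↥(oc z)) : toV z (a * b) = toV z a + toV z b := by
  simp [toV, map_mul]

theorem toV_surj (v : OV z) : ∃ a, toV z a = v := by
  obtain ⟨a, ha⟩ := QuotientGroup.mk_surjective (Additive.toMul v)
  exact ⟨a, by rw [toV]; exact congrArg Additive.ofMul ha⟩

/-- A representative of a vector. -/
noncomputable def rep (v : OV z) : ↥(oc z) := (toV_surj v).choose

theorem toV_rep (v : OV z) : toV z (rep v) = v := (toV_surj v).choose_spec

include S

theorem commutator_eq : (commutator ↥(oc z) : Set ↥(oc z)) = {1, ⟨z, mem_oc_self S.ord⟩} := by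
  rw [S.es.1.2.2]
  ext a
  rw [SetLike.mem_coe, mem_center_iff]
  constructor
  · intro ha
    rcases S.center_cases a.2 (fun q hq => congrArg Subtype.val (ha ⟨q, hq⟩)) with e | e
    · exact Or.inl (Subtype.ext e)
    · exact Or.inr (Subtype.ext e)
  · rintro (rfl | rfl) g
    · rw [mul_one, one_mul]
    · exact Subtype.ext (S.comm_z g.2).eq

theorem toV_eq_iff (a b : ↥(oc z)) : toV z a = toV z b ↔ (b : G) = a ∨ (b : G) = a * z := by
  rw [toV, toV, Additive.ofMul.apply_eq_iff_eq]
  show (QuotientGroup.mk a : _ ⧸ commutator ↥(oc z)) = QuotientGroup.mk b ↔ _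
  rw [QuotientGroup.eq, ← SetLike.mem_coe, commutator_eq S]
  simp only [Set.mem_insert_iff, Set.mem_singleton_iff, Subtype.ext_iff, coe_mul, coe_inv, coe_one]
  rw [inv_mul_eq_iff_eq_mul, inv_mul_eq_iff_eq_mul, mul_one]

theorem commute_z_mul {a b : G} (ha : a ∈ oc z) (hb : b ∈ oc z) :
    Commute (a * z) b ↔ Commute a b := by
  have hc : Commute z b := (S.comm_z hb).symm
  refine ⟨fun h => ?_, fun h => h.mul_left hc⟩
  have := h.mul_left hc
  rwa [mul_assoc, S.sq_one, mul_one] at this

theorem sq_cases {a : G} (ha : a ∈ oc z) : a * a = 1 ∨ a * a = z := by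
  refine S.center_cases (mul_mem ha ha) fun b hb => ?_
  rcases S.commutator_cases ha hb with e | e
  · have : Commute a b := commutatorElement_eq_one_iff_mul_comm.1 e
    exact (this.mul_left this).symm
  · have e1 : a * b = z * b * a := by
      rw [← e]; group
    have hza : Commute z a := (S.comm_z ha).symm
    show b * (a * a) = a * a * b
    calc b * (a * a) = z * z * (b * a) * a := by rw [S.sq_one, one_mul, mul_assoc]
      _ = z * (a * b) * a := by rw [e1]; simp only [mul_assoc]
      _ = a * (z * b * a) := by rw [← mul_assoc z, hza.eq]; simp only [mul_assoc]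
      _ = a * a * b := by rw [← e1, mul_assoc]

theorem V_two (v : OV z) : v + v = 0 := by
  rw [← toV_rep v, ← toV_mul]
  have e : toV z (1 : ↥(oc z)) = 0 := by simp [toV]
  rw [← e, toV_eq_iff S]
  show (1 : G) = _ ∨ (1 : G) = _
  rcases sq_cases S (rep v).2 with h | h
  · exact Or.inl h.symm
  · exact Or.inr (by rw [coe_mul, h, S.sq_one])

omit S in
/-- The commutation form. -/
noncomputable def formB (v w : OV z) : Bool := by
  classical exact decide ¬Commute (rep v : G) (rep w : G)

omit S in
/-- The squaring form. -/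
noncomputable def formQ (v : OV z) : Bool := by
  classical exact decide ((rep v : G) * (rep v : G) = z)

theorem formB_toV (a b : ↥(oc z)) :
    formB (toV z a) (toV z b) = true ↔ ¬Commute (a : G) (b : G) := by
  have key : ∀ a c : ↥(oc z), toV z a = toV z c → ∀ x ∈ oc z, (Commute (c : G) x ↔ Commute (a : G) x) := by
    intro a c h x hx
    rcases (toV_eq_iff S a c).1 h with e | e <;> rw [e]
    exact commute_z_mul S a.2 hx
  simp only [formB, decide_eq_true_eq]
  rw [key a _ (toV_rep (toV z a)).symm _ (rep (toV z b)).2, Commute.symm_iff,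
    key b _ (toV_rep (toV z b)).symm _ a.2, Commute.symm_iff]

theorem formQ_toV (a : ↥(oc z)) : formQ (toV z a) = true ↔ (a : G) * a = z := by
  simp only [formQ, decide_eq_true_eq]
  rcases (toV_eq_iff S a _).1 (toV_rep (toV z a)).symm with e | e <;> rw [e]
  rw [show (a : G) * z * ((a : G) * z) = a * a * (z * z) by
    rw [mul_assoc, ← mul_assoc z, ← (S.comm_z a.2).eq, mul_assoc, ← mul_assoc (a : G)], S.sq_one,
    mul_one]

omit S in
/-- Conjugation on the space. -/
noncomputable def actV (z : G) (h : ↥(centralizer ({z} : Set G))) (v : OV z) : OV z :=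
  toV z ⟨(h : G) * (rep v : G) * (h : G)⁻¹, oc_conj_mem h.2 (rep v).2⟩

theorem actV_toV (h : ↥(centralizer ({z} : Set G))) (a : ↥(oc z)) :
    actV z h (toV z a) = toV z ⟨(h : G) * a * (h : G)⁻¹, oc_conj_mem h.2 a.2⟩ := by
  rw [actV, toV_eq_iff S]
  rcases (toV_eq_iff S a _).1 (toV_rep (toV z a)).symm with e | e
  · left; simp only; rw [e]
  · right
    simp only
    have hzh : (h : G)⁻¹ * z = z * (h : G)⁻¹ := mem_centralizer_singleton_iff.1 (inv_mem h.2)
    rw [e]
    calc (h : G) * a * (h : G)⁻¹ = (h : G) * a * (h : G)⁻¹ * (z * z) := by rw [S.sq_one, mul_one]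
      _ = (h : G) * a * ((h : G)⁻¹ * z) * z := by simp only [mul_assoc]
      _ = (h : G) * ((a : G) * z) * (h : G)⁻¹ * z := by rw [hzh]; simp only [mul_assoc]

theorem actV_mul (g h : ↥(centralizer ({z} : Set G))) (v : OV z) :
    actV z (g * h) v = actV z g (actV z h v) := by
  conv_rhs => arg 3; rw [actV]
  rw [actV_toV S]
  show toV z _ = toV z _
  congr 1
  exact Subtype.ext (by simp [mul_assoc])

theorem actV_oc (h : ↥(centralizer ({z} : Set G))) (hh : (h : G) ∈ oc z) (v : OV z) :
    actV z h v = v := by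
  conv_rhs => rw [← toV_rep v]
  rw [actV, toV_eq_iff S]
  rcases S.commutator_cases hh (rep v).2 with e | e
  · left; exact (mul_inv_eq_one.1 e).symm
  · right
    show (rep v : G) = (h : G) * rep v * (h : G)⁻¹ * z
    rw [mul_inv_eq_iff_eq_mul.1 e, ← (S.comm_z (rep v).2).eq, mul_assoc, S.sq_one, mul_one]

include hcard in
theorem card_OV : Nat.card (OV z) = 256 := by
  have h2 : Nat.card ↥(commutator ↥(oc z)) = 2 := by
    rw [← SetLike.coe_sort_coe, Nat.card_coe_set_eq, commutator_eq S, Set.ncard_pair]
    exact fun e => S.ne_one (congrArg Subtype.val e).symm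
  have := (commutator ↥(oc z)).card_eq_card_quotient_mul_card_subgroup
  rw [hcard, h2] at this
  show Nat.card (↥(oc z) ⧸ commutator ↥(oc z)) = 256
  omega

theorem commute_mul_iff {a c x : G} (ha : a ∈ oc z) (hc : c ∈ oc z) (hx : x ∈ oc z) :
    Commute (a * c) x ↔ (Commute a x ↔ Commute c x) := by
  have key : ∀ {u v : G}, u ∈ oc z → v ∈ oc z →
      (Commute u v ∧ u * v * u⁻¹ = v) ∨ (¬Commute u v ∧ u * v * u⁻¹ = z * v) := by
    intro u v hu hv
    by_cases h : Commute u v
    · exact Or.inl ⟨h, by rw [h.eq, mul_inv_cancel_right]⟩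
    refine Or.inr ⟨h, ?_⟩
    rcases S.commutator_cases hu hv with e | e
    · exact absurd (commutatorElement_eq_one_iff_mul_comm.1 e) h
    · exact mul_inv_eq_iff_eq_mul.1 e
  have e1 : a * c * x * (a * c)⁻¹ = a * (c * x * c⁻¹) * a⁻¹ := by group
  have haz : a * (z * x) * a⁻¹ = z * (a * x * a⁻¹) := by
    rw [← mul_assoc, (S.comm_z ha).eq]; group
  have iff1 : Commute (a * c) x ↔ a * c * x * (a * c)⁻¹ = x := by
    rw [mul_inv_eq_iff_eq_mul]; rfl
  have hzx : z * x ≠ x := fun e => S.ne_one (mul_eq_right.1 e)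
  rw [iff1, e1]
  rcases key hc hx with ⟨hc', e⟩ | ⟨hc', e⟩ <;> rcases key ha hx with ⟨ha', e'⟩ | ⟨ha', e'⟩ <;> rw [e]
  · simp [e', ha', hc']
  · simp [e', ha', hc', hzx]
  · rw [haz, e']; simp [ha', hc', hzx]
  · rw [haz, e', ← mul_assoc, S.sq_one, one_mul]; simp [ha', hc']

theorem q_mul_eq (a b : ↥(oc z)) : formQ (toV z (a * b)) =
    ((formQ (toV z a) ^^ formQ (toV z b)) ^^ formB (toV z a) (toV z b)) := by
  have hB := formB_toV S a b
  have ha := formQ_toV S a
  have hb := formQ_toV S b
  have hab := formQ_toV S (a * b)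
  have h1z : ¬(1 : G) = z := S.ne_one.symm
  have hp : ((a * b : ↥(oc z)) : G) * ((a * b : ↥(oc z)) : G) = (a : G) * (b * a) * b := by
    simp only [coe_mul, mul_assoc]
  rw [hp] at hab
  by_cases hc : Commute (a : G) (b : G)
  · have e : (a : G) * (b * a) * b = a * a * (b * b) := by rw [← hc.eq]; simp only [mul_assoc]
    rw [e] at hab
    have fB : formB (toV z a) (toV z b) = false := by rw [← Bool.not_eq_true, hB]; simpa using hc
    rw [fB, Bool.xor_false]
    rcases sq_cases S a.2 with h1 | h1 <;> rcases sq_cases S b.2 with h2 | h2 <;>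
      rw [h1] at ha hab <;> rw [h2] at hb hab <;> simp [S.sq_one, h1z] at ha hb hab <;>
      simp [ha, hb, hab]
  · have e0 : (b : G) * a = z * (a * b) := by
      rcases S.commutator_cases b.2 a.2 with e | e
      · exact absurd (commutatorElement_eq_one_iff_mul_comm.1 e :) fun h => hc h.symm
      · rw [mul_inv_eq_iff_eq_mul, mul_inv_eq_iff_eq_mul] at e
        rw [e, mul_assoc]
    have e : (a : G) * (b * a) * b = z * (a * a * (b * b)) := by
      rw [e0, ← mul_assoc (a : G) z, (S.comm_z a.2).eq]; simp only [mul_assoc]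
    rw [e] at hab
    have fB : formB (toV z a) (toV z b) = true := hB.2 hc
    rw [fB]
    rcases sq_cases S a.2 with h1 | h1 <;> rcases sq_cases S b.2 with h2 | h2 <;>
      rw [h1] at ha hab <;> rw [h2] at hb hab <;> simp [S.sq_one, h1z] at ha hb hab <;>
      simp [ha, hb, hab]

theorem mem_oc_of_fix {h : ↥(centralizer ({z} : Set G))} (hfix : ∀ v, actV z h v = v) :
    (h : G) ∈ oc z := by
  let H1 : Subgroup ↥(centralizer ({z} : Set G)) :=
    { carrier := {h | ∀ v, actV z h v = v}
      one_mem' := actV_oc S 1 (one_mem _)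
      mul_mem' := fun {x y} hx hy v => by rw [actV_mul S, hy, hx]
      inv_mem' := fun {x} hx v => by
        conv_lhs => rw [← hx v]
        rw [← actV_mul S, inv_mul_cancel]
        exact actV_oc S 1 (one_mem _) v }
  have hN : H1.Normal := ⟨fun x hx g v => by
    rw [actV_mul S, actV_mul S, hx, ← actV_mul S, mul_inv_cancel]
    exact actV_oc S 1 (one_mem _) v⟩
  have hp : IsPGroup 2 H1 := by
    intro x
    have hsq : ((x : ↥(centralizer ({z} : Set G))) : G) * (x : ↥(centralizer ({z} : Set G))) ∈ oc z := by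
      refine S.cent (mem_centralizer_iff.2 fun a ha => ?_)
      set g : G := ((x : ↥(centralizer ({z} : Set G))) : G)
      have hgz : g * z = z * g := mem_centralizer_singleton_iff.1 (x : ↥(centralizer ({z} : Set G))).2
      have e := x.2 (toV z ⟨a, ha⟩)
      rw [actV_toV S, toV_eq_iff S] at e
      simp only at e
      rcases e with e | e
      · have e2 : g * a = a * g := mul_inv_eq_iff_eq_mul.1 e.symm
        rw [← mul_assoc, ← e2, mul_assoc, ← e2, ← mul_assoc]
      · have e2 : g * a = a * z * g := by
          have e3 : g * a * g⁻¹ = a * z := by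
            calc g * a * g⁻¹ = g * a * g⁻¹ * z * z := by rw [mul_assoc _ z z, S.sq_one, mul_one]
              _ = a * z := by rw [← e]
          exact mul_inv_eq_iff_eq_mul.1 e3
        calc a * (g * g) = a * z * z * g * g := by
              rw [mul_assoc a z z, S.sq_one, mul_one, mul_assoc]
          _ = a * z * (g * z) * g := by rw [hgz]; simp only [mul_assoc]
          _ = g * a * (z * g) := by rw [e2]; simp only [mul_assoc]
          _ = g * (a * z * g) := by simp only [mul_assoc]
          _ = g * (g * a) := by rw [e2]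
          _ = g * g * a := by rw [mul_assoc]
    obtain ⟨k, hk⟩ := oc_isPGroup z ⟨_, hsq⟩
    refine ⟨k + 1, Subtype.ext (Subtype.ext ?_)⟩
    have := congrArg Subtype.val hk
    simpa [pow_succ', pow_mul, sq] using this
  exact ⟨h, Core.le_pCore hp hfix, rfl⟩

include hcard hφ hker in
/-- The space with the action. -/
theorem exists_rep : ∃ R : Rep Q (OV z), (∀ a b : ↥(oc z), R.B (toV z a) (toV z b) = true ↔ ¬Commute (a : G) b) ∧
    (∀ a : ↥(oc z), R.q (toV z a) = true ↔ (a : G) * a = z) ∧
    ∀ h a, R.act (φ h) (toV z a) = toV z ⟨(h : G) * a * (h : G)⁻¹, oc_conj_mem h.2 a.2⟩ := by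
  classical
  let act : Q → OV z → OV z := fun x v => actV z (Function.surjInv hφ x) v
  have hact : ∀ h v, act (φ h) v = actV z h v := by
    intro h v
    set k := Function.surjInv hφ (φ h)
    have hk : φ (k * h⁻¹) = 1 := by
      rw [map_mul, map_inv, Function.surjInv_eq hφ, mul_inv_cancel]
    have e := actV_oc S _ ((hker _).1 hk) (actV z h v)
    rwa [← actV_mul S, inv_mul_cancel_right] at e
  have act_add : ∀ (h : ↥(centralizer ({z} : Set G))) (v w : OV z),
      actV z h (v + w) = actV z h v + actV z h w := by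
    intro h v w
    conv_lhs => rw [← toV_rep v, ← toV_rep w, ← toV_mul, actV_toV S]
    rw [actV, actV, ← toV_mul]
    congr 1
    exact Subtype.ext (by simp [mul_assoc])
  let R : Rep Q (OV z) :=
    { act := act
      act_one := fun v => by
        rw [← map_one φ, hact, actV_oc S _ (one_mem _)]
      act_mul := fun x y v => by
        obtain ⟨g, rfl⟩ := hφ x
        obtain ⟨h, rfl⟩ := hφ y
        rw [← map_mul, hact, hact, hact, actV_mul S]
      act_add := fun x v w => act_add _ v w
      B := formB
      q := formQ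
      B_act := fun x v w => by
        obtain ⟨h, rfl⟩ := hφ x
        rw [Bool.eq_iff_iff]
        conv_rhs => rw [← toV_rep v, ← toV_rep w]
        rw [hact, hact, actV, actV, formB_toV S, formB_toV S]
        show ¬Commute _ _ ↔ _
        rw [Commute.conj_iff]
      q_act := fun x v => by
        obtain ⟨h, rfl⟩ := hφ x
        rw [Bool.eq_iff_iff]
        conv_rhs => rw [← toV_rep v]
        rw [hact, actV, formQ_toV S, formQ_toV S]
        show _ * _ * _ * (_ * _ * _) = z ↔ _
        rw [conjm]
        have hz : (h : G) * z * (h : G)⁻¹ = z := by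
          rw [mem_centralizer_singleton_iff.1 h.2, mul_inv_cancel_right]
        constructor
        · intro e
          have e' := e.trans hz.symm
          exact mul_left_cancel (mul_right_cancel e')
        · intro e; rw [e, hz]
      B_add := fun a b c => by
        rw [← toV_rep a, ← toV_rep b, ← toV_rep c, ← toV_mul]
        have e := commute_mul_iff S (rep a).2 (rep b).2 (rep c).2
        have ea := formB_toV S (rep a) (rep c)
        have eb := formB_toV S (rep b) (rep c)
        have eab := formB_toV S (rep a * rep b) (rep c)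
        rw [coe_mul, e] at eab
        cases h1 : formB (toV z (rep a)) (toV z (rep c)) <;>
          cases h2 : formB (toV z (rep b)) (toV z (rep c)) <;>
            cases h3 : formB (toV z (rep a * rep b)) (toV z (rep c)) <;>
              simp [h1, h2, h3] at ea eb eab ⊢ <;> tauto
      B_comm := fun a b => by
        simp only [formB, Commute.symm_iff (a := (rep a : G))]
      B_self := fun a => by simp [formB]
      B_nondeg := fun v hv => by
        have h1 : (rep v : G) ≠ 1 := fun e => hv (by
          rw [← toV_rep v, show rep v = 1 from Subtype.ext e]; simp [toV])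
        have hz : (rep v : G) ≠ z := fun e => hv (by
          rw [← toV_rep v, show (0 : OV z) = toV z 1 by simp [toV]]
          exact ((toV_eq_iff S 1 (rep v)).2 (Or.inr (by rw [e, coe_one, one_mul]))).symm)
        obtain ⟨y, hy, e⟩ := S.exists_mover (rep v).2 h1 hz
        refine ⟨toV z ⟨y, hy⟩, ?_⟩
        rw [← toV_rep v, formB_toV S]
        intro hc
        apply S.ne_one
        simp only at hc
        rw [← hc.eq, mul_inv_cancel_right] at e
        exact mul_left_cancel (e.symm.trans (mul_one _).symm)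
      q_add := fun a b => by
        rw [← toV_rep a, ← toV_rep b, ← toV_mul]
        exact q_mul_eq S (rep a) (rep b)
      two := V_two S
      faith := fun x hx => by
        obtain ⟨h, rfl⟩ := hφ x
        rw [hker]
        have hfix : ∀ v, actV z h v = v := fun v => by rw [← hact]; exact hx v
        exact mem_oc_of_fix S hfix
      card := card_OV S hcard }
  exact ⟨R, formB_toV S, formQ_toV S, fun h a => (hact h _).trans (actV_toV S h a)⟩

include S hcard hφ hker in
/-- Coordinates from a frame described by codes. -/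
theorem exists_mod {R : Rep Q (OV z)}
    (hB : ∀ a b : ↥(oc z), R.B (toV z a) (toV z b) = true ↔ ¬Commute (a : G) b)
    (hq : ∀ a : ↥(oc z), R.q (toV z a) = true ↔ (a : G) * a = z)
    (hA : ∀ h a, R.act (φ h) (toV z a) = toV z ⟨(h : G) * a * (h : G)⁻¹, oc_conj_mem h.2 a.2⟩)
    {l : ℕ} {e : Fin 8 → OV z} (Fr : R.Frame e l) {cl : List ℕ} {xs : List Q}
    (hl : List.Forall₂ (R.Moves e) cl xs) (hcode : ∀ g ∈ cl, IsCode g)
    (htop : closure {x | x ∈ xs} = ⊤) : Nonempty (Mod ⟨cl, l⟩ z) := by
  classical
  let b : Fin 8 → G := fun k => (rep (e k) : G)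
  have hbe : ∀ k, toV z (rep (e k)) = e k := fun k => toV_rep _
  have B : Basis ⟨cl, l⟩ z b :=
    { set := S
      card := hcard
      mem := fun k => (rep (e k)).2
      sq := fun k => by
        have h := hq (rep (e k))
        rw [hbe, Fr.q_e] at h
        cases hv : qv l (2 ^ (k : ℕ)) <;> simp only [hv, Bool.false_eq_true, false_iff, true_iff] at h
        · rw [if_neg (by simp [hv])]
          exact (sq_cases S (rep (e k)).2).resolve_right h
        · rw [if_pos (by simp [hv])]
          exact h
      comm := fun i j => by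
        have h := hB (rep (e i)) (rep (e j))
        rw [hbe, hbe, Fr.B_e] at h
        rw [← Bool.not_eq_true, h, not_not] }
  have hco : ∀ (a : ↥(oc z)), ∀ n < 256, toV z a = vec e n → coord b a = n := by
    intro a n hn h
    refine Basis.coord_unique hn fun k => ?_
    rw [← Fr.B_vec k n hn, ← h, ← hbe k, hB]
  have hlift : ∀ g x, R.Moves e g x → IsCode g →
      ∃ h : ↥(centralizer ({z} : Set G)), φ h = x ∧ code8 b h = g := by
    intro g x hm hc
    obtain ⟨h, rfl⟩ := hφ x
    refine ⟨h, rfl, ?_⟩
    have hk : ∀ k : Fin 8, app (code8 b h) (2 ^ (k : ℕ)) = app g (2 ^ (k : ℕ)) := fun k => by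
      rw [Basis.app_code8]
      refine hco ⟨_, oc_conj_mem h.2 (rep (e k)).2⟩ _ (app_lt _ _) ?_
      rw [← hA, hbe, hm k]
    rw [eq_pack (Basis.isCode_code8 _), eq_pack hc]
    have h0 := hk 0; have h1 := hk 1; have h2 := hk 2; have h3 := hk 3
    have h4 := hk 4; have h5 := hk 5; have h6 := hk 6; have h7 := hk 7
    norm_num at h0 h1 h2 h3 h4 h5 h6 h7
    rw [h0, h1, h2, h3, h4, h5, h6, h7]
  have hl1 : ∀ g ∈ cl, ∃ x ∈ xs, R.Moves e g x := fun g hg => exists_of_forall₂ hl hg
  have hl2 : ∀ x ∈ xs, ∃ g ∈ cl, R.Moves e g x := fun x hx => exists_of_forall₂ hl.flip hx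
  let T : Set G := {t | ∃ h : ↥(centralizer ({z} : Set G)), (h : G) = t ∧ φ h ∈ xs ∧
    Gen cl (code8 b t)}
  refine ⟨B.toMod (fun h hh => B.gen_of_closure (S := T) ?_ ?_ hh) ?_⟩
  · rintro t ⟨h, rfl, -, hg⟩
    exact ⟨h.2, hg⟩
  · intro g hg
    let K : Subgroup ↥(centralizer ({z} : Set G)) :=
      (closure T ⊔ oc z).comap (centralizer ({z} : Set G)).subtype
    have hK : ∀ y, ∃ k ∈ K, φ k = y := by
      have : closure {x | x ∈ xs} ≤ K.map φ := by
        rw [closure_le]
        intro x hx
        obtain ⟨g', hg', hm⟩ := hl2 x hx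
        obtain ⟨h, he, hc⟩ := hlift g' x hm (hcode g' hg')
        exact ⟨h, mem_sup_left (subset_closure ⟨h, rfl, he.symm ▸ hx,
          by show Gen cl (code8 b (h : G)); rw [hc]; exact Gen.of_mem hcode hg'⟩), he⟩
      rw [htop] at this
      exact fun y => this (mem_top y)
    obtain ⟨k, hk, hky⟩ := hK (φ ⟨g, hg⟩)
    have hd : φ (k⁻¹ * ⟨g, hg⟩) = 1 := by rw [map_mul, map_inv, hky, inv_mul_cancel]
    have := mul_mem (show (k : G) ∈ closure T ⊔ oc z from hk) (mem_sup_right ((hker _).1 hd))
    simpa using this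
  · intro g hg
    obtain ⟨x, -, hm⟩ := hl1 g hg
    obtain ⟨h, -, hc⟩ := hlift g x hm (hcode g hg)
    exact ⟨h, h.2, hc⟩

end Space

end Cfsg.Agent.U62Rec
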