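import Cfsg.Agent.U62Rec.Points
import Cfsg.Agent.ThreeTrans.SpPSU.Lines

/-!
# The neighbours of a vertex

`D` is the class of `z`; two members are adjacent if they commute.  The neighbours of a vertex map
onto the 45 points, four over each, and commute exactly if the points are collinear.
-/

set_option autoImplicit false

open Cfsg Subgroup

namespace Cfsg.Agent.U62Rec

open Cfsg.Agent.LargeExtra Cfsg.Agent.ThreeTrans Cfsg.Agent.ThreeTrans.SpPSU

/-- A natural configuration with its transvections. -/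
structure NatCfg (C : Cfg) (outs : List Out) (c : ℕ) (P : List ℕ) : Prop where
  facts : Facts C outs
  sides : sidesOK outs = true
  kind : ∀ o ∈ outs, o.2.2.2.2 ≠ 2 ∧ o.2.2.2.2 ≠ 3
  only : ∀ o ∈ outs, o.2.2.2.2 = 1 → o.1.c = c
  pts : Points C.gens c P

theorem com_comm (a b : ℕ) : com a b = com b a := by
  rw [Bool.eq_iff_iff]
  simp only [com, Nat.beq_eq]
  exact eq_comm

theorem com_self (a : ℕ) : com a a = true := by simp [com, Nat.beq_eq]

variable {G : Type*} [Group G]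

/-- A conjugacy class each member of which has coordinates. -/
structure Env (C : Cfg) (D : Set G) : Prop where
  mods : ∀ x ∈ D, Nonempty (Mod C x)
  cls : ∀ x ∈ D, ∀ y ∈ D, ∃ g, g * x * g⁻¹ = y
  closed : ∀ g x : G, x ∈ D → g * x * g⁻¹ ∈ D

theorem Env.ofMod [Finite G] {C : Cfg} {z : G} (M : Mod C z) :
    Env C {y | ∃ g, g * z * g⁻¹ = y} where
  mods := fun _ ⟨g, hg⟩ => ⟨hg ▸ M.conj g⟩
  cls := fun _ ⟨g, hg⟩ _ ⟨h, hh⟩ => ⟨h * g⁻¹, by rw [← hg, ← hh]; group⟩
  closed := fun g _ ⟨h, hh⟩ => ⟨g * h, by rw [← hh]; group⟩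

namespace NatCfg

variable [Finite G] {C : Cfg} {outs : List Out} {c : ℕ} {P : List ℕ} {D : Set G} {x y y' u w : G}
variable (N : NatCfg C outs c P) (E : Env C D)
include N E

theorem dperp_symm (hx : x ∈ D) (hy : y ∈ dperp D x) : x ∈ dperp D y :=
  ⟨hx, hy.2.1.symm, hy.2.2.symm⟩

theorem nbr (M : Mod C x) (hx : x ∈ D) (hy : y ∈ dperp D x) :
    y ∈ centralizer ({x} : Set G) ∧ y ∉ oc x ∧ M.Kind1 y ∧ M.rho y ∈ P := by
  obtain ⟨g, rfl⟩ := E.cls x hx y hy.1
  have hC : g * x * g⁻¹ ∈ centralizer ({x} : Set G) :=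
    mem_centralizer_singleton_iff.2 hy.2.2.eq.symm
  have hn : g * x * g⁻¹ ∉ oc x := fun e => hy.2.1 (M.eq_z_of_mem N.facts.covered e)
  obtain ⟨h1, -, o, ho, e, h, hh, hc⟩ := M.natural N.facts N.sides N.kind hC hn
  rw [N.only o ho e] at hc
  exact ⟨hC, hn, h1, N.pts.mem_of_conj _ (M.rho_code _) h hh hc⟩

theorem rho_sq (M : Mod C x) (hx : x ∈ D) (hy : y ∈ dperp D x) :
    y * y = 1 ∧ cmp (M.rho y) (M.rho y) = idm := by
  obtain ⟨h1, -, -, -⟩ := N.nbr E M hx hy
  have h2 : y * y = 1 := (Classical.choice (E.mods y hy.1)).zz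
  exact ⟨h2, by rw [← M.rho_mul y h1 y h1, h2, M.rho_one]⟩

theorem notMem_oc (M : Mod C x) (hx : x ∈ D) (hy : y ∈ dperp D x) : x ∉ oc y := by
  obtain ⟨g, rfl⟩ := E.cls x hx y hy.1
  exact M.z_notMem N.facts.covered (N.nbr E M hx hy).2.1

theorem inj_I (M : Mod C x) (hx : x ∈ D) (hy : y ∈ dperp D x) {a b : G} (ha : a ∈ oc x ⊓ oc y)
    (hb : b ∈ oc x ⊓ oc y) (h : M.bar a = M.bar b) : a = b := by
  obtain ⟨g, rfl⟩ := E.cls x hx y hy.1
  exact M.inj_I N.facts.covered (N.nbr E M hx hy).2.1 ha hb h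

theorem I_commute (M : Mod C x) {i : G} (hi : i ∈ oc x ⊓ oc y) :
    Commute i x ∧ Commute i y :=
  ⟨M.set.comm_z hi.1, (mem_centralizer_singleton_iff.1 (oc_le y hi.2) : i * y = y * i)⟩

/-- Members of one fibre. -/
theorem fibre_cases (M : Mod C x) (hx : x ∈ D) (hy : y ∈ dperp D x) (hw : w ∈ dperp D x)
    (he : M.rho w = M.rho y) :
    w = y ∨ ∃ i ∈ oc x ⊓ oc y, i ≠ 1 ∧ w = y * (i * x) := by
  obtain ⟨g, rfl⟩ := E.cls x hx y hy.1
  obtain ⟨g', rfl⟩ := E.cls x hx w hw.1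
  exact M.fibre N.facts N.sides N.kind (N.nbr E M hx hy).1 (N.nbr E M hx hy).2.1
    (N.nbr E M hx hw).1 he

theorem fibre_mem (M : Mod C x) (hx : x ∈ D) (hy : y ∈ dperp D x) {i : G}
    (hi : i ∈ oc x ⊓ oc y) (hi1 : i ≠ 1) :
    y * (i * x) ∈ dperp D x ∧ M.rho (y * (i * x)) = M.rho y := by
  obtain ⟨h1, h2, h3, -⟩ := N.nbr E M hx hy
  obtain ⟨g, rfl⟩ := E.cls x hx y hy.1
  obtain ⟨j, -, hje⟩ := M.fibre_mem h3 N.facts.covered h1 hi hi1
  have hix : i * x ∈ oc x := mul_mem hi.1 M.z_mem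
  refine ⟨⟨hje ▸ E.closed j _ hy.1, fun e => h2 ?_, ?_⟩, ?_⟩
  · rw [eq_mul_inv_of_mul_eq e]
    exact mul_mem M.z_mem (inv_mem hix)
  · exact ((M.commz (mul_mem h1 (oc_le x hix)))).symm
  · rw [M.rho_mul _ h1 _ (oc_le x hix), M.rho_of_mem hix, cmp_idm (M.rho_code _)]

theorem same_commute (M : Mod C x) (hx : x ∈ D) (hy : y ∈ dperp D x) (hw : w ∈ dperp D x)
    (he : M.rho w = M.rho y) : Commute y w := by
  rcases N.fibre_cases E M hx hy hw he with rfl | ⟨i, hi, -, rfl⟩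
  · exact Commute.refl _
  · obtain ⟨-, hiy⟩ := N.I_commute E M hi
    exact (Commute.refl y).mul_right (hiy.symm.mul_right hy.2.2.symm)

/-- Neighbours commute exactly if their images do. -/
theorem commute_iff (M : Mod C x) (hx : x ∈ D) (hy : y ∈ dperp D x) (hy' : y' ∈ dperp D x) :
    Commute y y' ↔ com (M.rho y) (M.rho y') = true := by
  obtain ⟨h1, -, hK, hp⟩ := N.nbr E M hx hy
  obtain ⟨h1', -, hK', hp'⟩ := N.nbr E M hx hy'
  constructor
  · intro h
    simp only [com, Nat.beq_eq]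
    rw [← M.rho_mul y h1 y' h1', ← M.rho_mul y' h1' y h1, h.eq]
  intro h
  simp only [com, Nat.beq_eq] at h
  by_cases hpp : M.rho y' = M.rho y
  · exact N.same_commute E M hx hy hy' hpp
  obtain ⟨hyy, hyy'⟩ := N.rho_sq E M hx hy
  obtain ⟨hy2, hy2'⟩ := N.rho_sq E M hx hy'
  have hxy : Commute x y := hy.2.2
  have hxy' : Commute x y' := hy'.2.2
  -- the conjugates lie in the fibres
  have hconj : ∀ {a b : G}, a ∈ dperp D x → b ∈ dperp D x → b * b = 1 →
      cmp (M.rho a) (M.rho b) = cmp (M.rho b) (M.rho a) → cmp (M.rho b) (M.rho b) = idm →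
      b * a * b ∈ dperp D x ∧ M.rho (b * a * b) = M.rho a := by
    intro a b ha hb hbb hab hb2
    have hbi : b⁻¹ = b := inv_eq_of_mul_eq_one_right hbb
    obtain ⟨ca, -, -, -⟩ := N.nbr E M hx ha
    obtain ⟨cb, -, -, -⟩ := N.nbr E M hx hb
    refine ⟨⟨?_, fun e => ha.2.1 ?_, ?_⟩, ?_⟩
    · have := E.closed b a ha.1
      rwa [hbi] at this
    · calc a = b * b * a * (b * b) := by rw [hbb, one_mul, mul_one]
        _ = b * (b * a * b) * b := by group
        _ = b * (x * b) := by rw [e, mul_assoc]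
        _ = x := by rw [hb.2.2.eq, ← mul_assoc, hbb, one_mul]
    · exact (hb.2.2.mul_right ha.2.2).mul_right hb.2.2
    · rw [M.rho_mul _ (mul_mem cb ca) _ cb, M.rho_mul _ cb _ ca, cmp_assoc, hab, ← cmp_assoc, hb2,
        idm_cmp (M.rho_code _)]
  obtain ⟨hm, hme⟩ := hconj hy hy' hy2 h hy2'
  obtain ⟨hm', hme'⟩ := hconj hy' hy hyy h.symm hyy'
  rcases N.fibre_cases E M hx hy hm hme with e | ⟨i, hi, hi1, e⟩
  · rw [Commute, SemiconjBy]
    calc y * y' = y' * y * y' * y' := by rw [e]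
      _ = y' * y := by rw [mul_assoc, hy2, mul_one]
  exfalso
  rcases N.fibre_cases E M hx hy' hm' hme' with e' | ⟨i', hi', hi1', e'⟩
  · have : y' * y * y' = y := by
      calc y' * y * y' = (y * y' * y) * y * y' := by rw [e']
        _ = y * y' * (y * y) * y' := by group
        _ = y * (y' * y') := by rw [hyy, mul_one, mul_assoc]
        _ = y := by rw [hy2, mul_one]
    rw [this, left_eq_mul] at e
    refine hi1 (N.inj_I E M hx hy hi (one_mem _) ?_)
    rw [M.bar_one, ← M.bar_mul_z hi.1, e, M.bar_one]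
  obtain ⟨hix', hiy'⟩ := N.I_commute E M hi'
  have hii : i = i' := by
    refine mul_right_cancel (b := x) ?_
    calc i * x = y * (y * (i * x)) := by rw [← mul_assoc, hyy, one_mul]
      _ = (y * y' * y) * y' := by rw [← e]; group
      _ = y' * (i' * x * y') := by rw [e', mul_assoc]
      _ = i' * x := by
        rw [(hiy'.mul_left hxy').eq, ← mul_assoc, hy2, one_mul]
  refine hi1 (N.inj_I E M hx hy hi (one_mem _) ?_)
  rw [M.bar_one]
  refine N.pts.disjoint _ hp _ hp' (Ne.symm hpp) _ ?_ ?_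
  · exact (M.mem_moved h1 _).2 (hK.I_moved i hi)
  · exact (M.mem_moved h1' _).2 (hii ▸ hK'.I_moved i' hi')

/-- Every point has a fibre as soon as there is a neighbour. -/
theorem exists_over (M : Mod C x) (hx : x ∈ D) (hy : y ∈ dperp D x) {q : ℕ} (hq : q ∈ P) :
    ∃ w ∈ dperp D x, M.rho w = q := by
  obtain ⟨h1, -, -, hp⟩ := N.nbr E M hx hy
  obtain ⟨h, hh, he⟩ := N.pts.trans _ hp q hq
  obtain ⟨k, hk, rfl⟩ := M.exists_rho hh
  refine ⟨k * y * k⁻¹, ⟨E.closed k y hy.1, fun e => hy.2.1 ?_, ?_⟩, ?_⟩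
  · calc y = k⁻¹ * (k * y * k⁻¹) * k := by group
      _ = x := by
        rw [e, mul_assoc, (mem_centralizer_singleton_iff.1 hk).symm, inv_mul_cancel_left]
  · have hkx : Commute x k := (mem_centralizer_singleton_iff.1 hk).symm
    exact (hkx.mul_right hy.2.2).mul_right hkx.inv_right
  · rw [M.rho_mul _ (mul_mem hk h1) _ (inv_mem hk), M.rho_mul _ hk _ h1, ← he, cmp_assoc,
      (M.rho_cancel hk).1, cmp_idm (N.pts.code q hq)]

/-- Two neighbours have product of order at most three. -/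
theorem cube (M : Mod C x) (hx : x ∈ D) (hy : y ∈ dperp D x) (hy' : y' ∈ dperp D x)
    (h : ¬ Commute y y') : (y * y') ^ 3 = 1 := by
  classical
  obtain ⟨h1, -, -, hp⟩ := N.nbr E M hx hy
  obtain ⟨h1', -, -, hp'⟩ := N.nbr E M hx hy'
  have hf : com (M.rho y) (M.rho y') = false := by
    rw [← Bool.not_eq_true]
    exact fun e => h ((N.commute_iff E M hx hy hy').2 e)
  set r := (y * y') ^ 3 with hr
  have hrw : ∀ (v : G) (Mv : Mod C v), v ∈ D → y ∈ dperp D v → y' ∈ dperp D v → r ∈ oc v := by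
    intro v Mv hv ha ha'
    obtain ⟨c1, -, -, q1⟩ := N.nbr E Mv hv ha
    obtain ⟨c2, -, -, q2⟩ := N.nbr E Mv hv ha'
    have hf' : com (Mv.rho y) (Mv.rho y') = false := by
      rw [← Bool.not_eq_true]
      exact fun e => h ((N.commute_iff E Mv hv ha ha').2 e)
    have hm := mul_mem c1 c2
    refine (Mv.rho_ker _ (pow_mem hm 3)).1 ?_
    rw [pow_succ', pow_two, Mv.rho_mul _ hm _ (mul_mem hm hm), Mv.rho_mul _ hm _ hm,
      Mv.rho_mul _ c1 _ c2]
    exact N.pts.cube _ q1 _ q2 hf'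
  have hrx : r ∈ oc x := hrw x M hx hy hy'
  have hcount := N.pts.common _ hp _ hp' hf
  have hlist : 2 ≤ (P.filter fun s => com (M.rho y) s && com (M.rho y') s).length := by
    rw [← List.countP_eq_length_filter]; omega
  set L := P.filter fun s => com (M.rho y) s && com (M.rho y') s with hL
  have hnd : L.Nodup := N.pts.nodup.filter _
  have hmem : ∀ s ∈ L, s ∈ P ∧ com (M.rho y) s = true ∧ com (M.rho y') s = true := fun s hs => by
    simpa [hL, List.mem_filter] using hs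
  have key : ∀ s ∈ L, M.bar r ∈ moved s := by
    intro s hs
    obtain ⟨hsP, c1, c2⟩ := hmem s hs
    obtain ⟨w, hw, rfl⟩ := N.exists_over E M hx hy hsP
    have hyw : Commute y w := (N.commute_iff E M hx hy hw).2 c1
    have hyw' : Commute y' w := (N.commute_iff E M hx hy' hw).2 c2
    obtain ⟨Mw⟩ := E.mods w hw.1
    have hrI : r ∈ oc x ⊓ oc w := Subgroup.mem_inf.2 ⟨hrx, hrw w Mw hw.1
      ⟨hy.1, fun e => h (e ▸ hyw'.symm), hyw.symm⟩ ⟨hy'.1, fun e => h (e ▸ hyw), hyw'.symm⟩⟩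
    obtain ⟨cw, -, hKw, -⟩ := N.nbr E M hx hw
    exact (M.mem_moved cw _).2 (hKw.I_moved r hrI)
  obtain ⟨s, s', hs, hs', hne⟩ : ∃ s s', s ∈ L ∧ s' ∈ L ∧ s ≠ s' := by
    obtain ⟨s, hs, s', hs', hne⟩ := (Finset.one_lt_card (s := L.toFinset)).1
      (by rw [List.toFinset_card_of_nodup hnd]; omega)
    exact ⟨s, s', List.mem_toFinset.1 hs, List.mem_toFinset.1 hs', hne⟩
  have h0 := N.pts.disjoint _ (hmem s hs).1 _ (hmem s' hs').1 hne _ (key s hs) (key s' hs')
  rcases M.bar_eq r hrx h0 with e | e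
  · exact e
  · exfalso
    obtain ⟨w, hw, hwe⟩ := N.exists_over E M hx hy (hmem s hs).1
    obtain ⟨Mw⟩ := E.mods w hw.1
    refine N.notMem_oc E M hx hw ?_
    have hyw : Commute y w := (N.commute_iff E M hx hy hw).2 (hwe ▸ (hmem s hs).2.1)
    have hyw' : Commute y' w := (N.commute_iff E M hx hy' hw).2 (hwe ▸ (hmem s hs).2.2)
    exact e ▸ hrw w Mw hw.1 ⟨hy.1, fun e => h (e ▸ hyw'.symm), hyw.symm⟩
      ⟨hy'.1, fun e => h (e ▸ hyw), hyw'.symm⟩

/-- A fibre has four members. -/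
theorem fibre_card (M : Mod C x) (hx : x ∈ D) (hy : y ∈ dperp D x) :
    {w | w ∈ dperp D x ∧ M.rho w = M.rho y}.ncard = 4 := by
  classical
  obtain ⟨h1, h2, hK, -⟩ := N.nbr E M hx hy
  let f : G → G := fun i => if i = 1 then y else y * (i * x)
  have hS : {w | w ∈ dperp D x ∧ M.rho w = M.rho y} = f '' ((oc x ⊓ oc y : Subgroup G) : Set G) := by
    ext w
    constructor
    · rintro ⟨hw, he⟩
      rcases N.fibre_cases E M hx hy hw he with rfl | ⟨i, hi, hi1, rfl⟩
      · exact ⟨1, one_mem _, if_pos rfl⟩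
      · exact ⟨i, hi, if_neg hi1⟩
    · rintro ⟨i, hi, rfl⟩
      by_cases hi1 : i = 1
      · simp only [f, if_pos hi1]; exact ⟨hy, rfl⟩
      · simp only [f, if_neg hi1]; exact N.fibre_mem E M hx hy hi hi1
  rw [hS, Set.InjOn.ncard_image, ← Nat.card_coe_set_eq]
  · exact hK.card
  intro i hi j hj e
  have hmain : ∀ a ∈ oc x ⊓ oc y, a * x = 1 → False := fun a ha e => N.notMem_oc E M hx hy <| by
    rw [eq_inv_of_mul_eq_one_right e]
    exact inv_mem ha.2
  by_cases hi1 : i = 1 <;> by_cases hj1 : j = 1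
  · rw [hi1, hj1]
  · simp only [f, if_pos hi1, if_neg hj1, left_eq_mul] at e
    exact (hmain j hj e).elim
  · simp only [f, if_neg hi1, if_pos hj1, mul_eq_left] at e
    exact (hmain i hi e).elim
  · simp only [f, if_neg hi1, if_neg hj1] at e
    exact mul_right_cancel (mul_left_cancel e)

/-- Lines are `x` with a fibre. -/
theorem line_eq (M : Mod C x) (hx : x ∈ D) (hy : y ∈ dperp D x) :
    line D x y = insert x {w | w ∈ dperp D x ∧ M.rho w = M.rho y} := by
  have hxy : Commute x y := hy.2.2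
  ext w
  constructor
  · rintro ⟨hw, he⟩
    by_cases hwx : w = x
    · exact Or.inl hwx
    have hwd : w ∈ dperp D x := ⟨hw, hwx, he x ⟨hx, Commute.refl _, hxy⟩⟩
    refine Or.inr ⟨hwd, ?_⟩
    by_contra hne
    obtain ⟨-, -, -, hp⟩ := N.nbr E M hx hy
    obtain ⟨-, -, -, hq⟩ := N.nbr E M hx hwd
    obtain ⟨s, hs, c1, c2⟩ := N.pts.sep _ hp _ hq (Ne.symm hne)
    obtain ⟨e, he', rfl⟩ := N.exists_over E M hx hy hs
    have h3 := he e ⟨he'.1, he'.2.2.symm, ((N.commute_iff E M hx hy he').2 c1).symm⟩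
    rw [N.commute_iff E M hx he' hwd, com_comm, c2] at h3
    simp at h3
  · rintro (rfl | ⟨hw, he⟩)
    · exact mem_left hx
    refine ⟨hw.1, fun e he' => ?_⟩
    by_cases hex : e = x
    · rw [hex]; exact hw.2.2
    have hed : e ∈ dperp D x := ⟨he'.1, hex, he'.2.1.symm⟩
    rw [N.commute_iff E M hx hed hw, he, ← N.commute_iff E M hx hed hy]
    exact he'.2.2

/-- Seen from a mate, the base and the first member give one point. -/
theorem mate (M : Mod C x) (hx : x ∈ D) (hy : y ∈ dperp D x) (hw : w ∈ dperp D x)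
    (he : M.rho w = M.rho y) (hne : w ≠ y) (Mw : Mod C w) : Mw.rho y = Mw.rho x := by
  have h1 : y ∈ line D x w := by
    rw [N.line_eq E M hx hw]; exact Or.inr ⟨hy, he.symm⟩
  rw [line_swap, N.line_eq E Mw hw.1 (N.dperp_symm E hx hw)] at h1
  rcases h1 with e | e
  · exact absurd e (Ne.symm hne)
  · exact e.2

/-- What commutes with two members of a fibre commutes with the base. -/
theorem unique (M : Mod C x) (hx : x ∈ D) (hy : y ∈ dperp D x) (hw : w ∈ dperp D x)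
    (he : M.rho w = M.rho y) (hne : w ≠ y) (hu : u ∈ D) (hwu : Commute w u) (hyu : Commute y u) :
    Commute x u := by
  by_cases hu' : u = w
  · rw [hu']; exact hw.2.2
  obtain ⟨Mw⟩ := E.mods w hw.1
  have hu2 : u ∈ dperp D w := ⟨hu, hu', hwu⟩
  have hy2 : y ∈ dperp D w := ⟨hy.1, Ne.symm hne, (N.same_commute E M hx hy hw he).symm⟩
  have hx2 : x ∈ dperp D w := N.dperp_symm E hx hw
  rw [N.commute_iff E Mw hw.1 hx2 hu2, ← N.mate E M hx hy hw he hne Mw,
    ← N.commute_iff E Mw hw.1 hy2 hu2]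
  exact hyu

end NatCfg

end Cfsg.Agent.U62Rec
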