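import Cfsg.Agent.U62Rec.BasisOf

/-!
# The frame in the case of four planes
-/

set_option autoImplicit false
set_option maxRecDepth 100000

namespace Cfsg.Agent.U62Rec

/-- The codes of the four elements. -/
def gND : Fin 4 → ℕ := ![13871139766500065793, 13871139766432695042, 13871122105594544898,
  9241439349563196162]

/-- The codes of the three involutions. -/
def gNS : Fin 3 → ℕ := ![9241421688489445380, 9241395249175069185, 2310487621341807105]

/-- The code of the further element. -/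
def gNU : ℕ := 13871127667798382141

/-- The code of the outer element. -/
def gNX : ℕ := 13853125299270845185

/-- The eigenspace of a coordinate. -/
def idN (k : Fin 4) : Fin 14 := ![1, 2, 3, 4] k

/-- An element moving it. -/
def oN (k : Fin 4) : Fin 4 := ![1, 0, 0, 0] k

theorem gN_facts :
    (∀ i k, app (gND i) (u0 k) = (if i = k then u0 k else u1 k) ∧
      app (gND i) (u1 k) = (if i = k then u1 k else u0 k ^^^ u1 k)) ∧
    (∀ j k, app (gNS j) (u0 k) = u0 (Sp43.swp j k) ∧ app (gNS j) (u1 k) = u1 (Sp43.swp j k)) ∧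
    (∀ k, app gNX (u0 k) = u0 k ∧ app gNX (u1 k) = u0 k ^^^ u1 k) := by decide +kernel

theorem idN_facts : ∀ k i : Fin 4,
    (i = k → dot (chr (idN k)) (Act3.ev i) = 0) ∧
    (i ≠ k → dot (chr (idN k)) (Act3.ev i) = dot (chr (idN k)) (Act3.ev (oN k))) := by
  decide +kernel

theorem idN_sig : ∀ (j : Fin 3) (k : Fin 4) (t : Ex),
    dot (chr (idN k)) (sig j t) = 0 ↔ dot (chr (idN (Sp43.swp j k))) t = 0 := by decide +kernel

theorem oN_ne : ∀ k, oN k ≠ k := by decide

namespace Act3

variable {Q : Type*} [Group Q] {V : Type*} [AddCommGroup V] {R : Rep Q V} {d : Fin 4 → Q}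
  {s : Fin 3 → Q} {u : Q} (A : Act3 R d s u)
  (hc : ∀ k, Nat.card ↥(piece R d (chr (idN k))) = 4)
include A hc

omit A in
theorem planeN (k : Fin 4) : Plane R d (idN k) (oN k) where
  ne := by revert k; decide
  card := hc k
  moved := by
    revert k
    decide +kernel

theorem act_s_N {j : Fin 3} {k : Fin 4} {v : V} (hv : v ∈ piece R d (chr (idN k))) :
    R.act (s j) v ∈ piece R d (chr (idN (Sp43.swp j k))) :=
  A.act_s_mem (idN_sig j k) hv

theorem s_fix_N {j : Fin 3} {k : Fin 4} (hk : Sp43.swp j k = k) {v : V}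
    (hv : v ∈ piece R d (chr (idN k))) : R.act (s j) v = v := by
  refine A.invol_id (planeN hc k) hv (fun w hw => by simpa [hk] using A.act_s_N hc (j := j) hw)
    (fun w _ => by rw [← R.act_mul, A.rels.s_sq, R.act_one]) fun w hw => ?_
  rw [← R.act_mul, A.rels.s_d, R.act_mul]
  refine A.d_eq (by simpa [hk] using A.act_s_N hc (j := j) hw) ((idN_facts k _).2 ?_)
  intro e
  have : oN k = k := Equiv.injective (Equiv.swap j.castSucc j.succ)
    (show Sp43.swp j (oN k) = Sp43.swp j k by rw [e, hk])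
  exact oN_ne k this

/-- The vectors made from one. -/
theorem nat_basis {w0 : V} (hw0 : w0 ∈ piece R d (chr (idN 0))) (hne : w0 ≠ 0) :
    ∃ w y : Fin 4 → V, R.Frame (mkE w y) 255 ∧ (∀ i, R.Moves (mkE w y) (gND i) (d i)) ∧
      (∀ j, R.Moves (mkE w y) (gNS j) (s j)) ∧
      ∀ x, Outer d s x → R.act x w0 = w0 → R.Moves (mkE w y) gNX x := by
  let w : Fin 4 → V := ![w0, R.act (s 0) w0, R.act (s 1) (R.act (s 0) w0),
    R.act (s 2) (R.act (s 1) (R.act (s 0) w0))]
  let y : Fin 4 → V := fun k => R.act (d (oN k)) (w k)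
  have hs2 : ∀ j v, R.act (s j) (R.act (s j) v) = v := fun j v => by
    rw [← R.act_mul, A.rels.s_sq, R.act_one]
  have m0 : w 0 ∈ piece R d (chr (idN 0)) := hw0
  have m1 : w 1 ∈ piece R d (chr (idN 1)) := A.act_s_N hc (j := 0) (k := 0) m0
  have m2 : w 2 ∈ piece R d (chr (idN 2)) := A.act_s_N hc (j := 1) (k := 1) m1
  have m3 : w 3 ∈ piece R d (chr (idN 3)) := A.act_s_N hc (j := 2) (k := 2) m2
  have hm : ∀ k, w k ∈ piece R d (chr (idN k)) := fun k => by fin_cases k <;> assumption
  have hn : ∀ k, w k ≠ 0 := by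
    have step : ∀ j v, v ≠ 0 → R.act (s j) v ≠ 0 := fun j v hv e =>
      hv (R.act_inj _ (e.trans (R.act_zero _).symm))
    intro k
    fin_cases k
    exacts [hne, step _ _ hne, step _ _ (step _ _ hne), step _ _ (step _ _ (step _ _ hne))]
  have hy : ∀ k, y k ∈ piece R d (chr (idN k)) := fun k => A.act_d_mem (hm k) _
  have hsw : ∀ j k, R.act (s j) (w k) = w (Sp43.swp j k) := by
    intro j k
    fin_cases j <;> fin_cases k
    exacts [rfl, hs2 0 _, A.s_fix_N hc (j := 0) (k := 2) rfl m2,
      A.s_fix_N hc (j := 0) (k := 3) rfl m3, A.s_fix_N hc (j := 1) (k := 0) rfl m0, rfl,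
      hs2 1 _, A.s_fix_N hc (j := 1) (k := 3) rfl m3, A.s_fix_N hc (j := 2) (k := 0) rfl m0,
      A.s_fix_N hc (j := 2) (k := 1) rfl m1, rfl, hs2 2 _]
  have hF : R.Frame (mkE w y) 255 := by
    refine frame_of A idN (by decide) hm hy
      (fun k => A.B_self_act (planeN hc k) (hm k) (hn k)) (fun k => ?_) (fun k => ?_)
    · rw [A.q_true (planeN hc k) (hm k) (hn k)]
      revert k; decide +kernel
    · show R.q (R.act _ _) = _
      rw [R.q_act, A.q_true (planeN hc k) (hm k) (hn k)]
      revert k; decide +kernel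
  refine ⟨w, y, hF, fun i => moves_of R (fun k => ?_) (fun k => ?_),
    fun j => moves_of R (fun k => ?_) (fun k => ?_), fun x hx hfix => ?_⟩
  · rw [(gN_facts.1 i k).1]
    by_cases h : i = k
    · rw [if_pos h, vec_u0, A.d_fix (hm k) ((idN_facts k i).1 h)]
    · rw [if_neg h, vec_u1, A.d_eq (hm k) ((idN_facts k i).2 h)]
  · rw [(gN_facts.1 i k).2]
    by_cases h : i = k
    · rw [if_pos h, vec_u1, A.d_fix (hy k) ((idN_facts k i).1 h)]
    · rw [if_neg h, vec_both R, A.d_eq (hy k) ((idN_facts k i).2 h)]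
      exact A.twice (planeN hc k) (hm k) (hn k)
  · rw [(gN_facts.2.1 j k).1, vec_u0, hsw]
  · rw [(gN_facts.2.1 j k).2, vec_u1]
    show R.act (s j) (R.act _ _) = R.act _ _
    rw [← R.act_mul, A.rels.s_d, R.act_mul, hsw]
    refine A.d_eq (hm _) ((idN_facts _ _).2 fun e => oN_ne k ?_)
    exact Equiv.injective (Equiv.swap j.castSucc j.succ) e
  · have hfw : ∀ k, R.act x (w k) = w k := by
      have step : ∀ j v, R.act x v = v → R.act x (R.act (s j) v) = R.act (s j) v := fun j v hv => by
        rw [← R.act_mul, hx.fix_s, R.act_mul, hv]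
      intro k
      fin_cases k
      exacts [hfix, step _ _ hfix, step _ _ (step _ _ hfix), step _ _ (step _ _ (step _ _ hfix))]
    refine moves_of R (fun k => ?_) (fun k => ?_)
    · rw [(gN_facts.2.2 k).1, vec_u0, hfw]
    · rw [(gN_facts.2.2 k).2, vec_both R]
      show R.act x (R.act _ _) = _
      rw [outer_d hx _ (A.rels.d_cube _), hfw]
      exact A.twice (planeN hc k) (hm k) (hn k)

end Act3

end Cfsg.Agent.U62Rec
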