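import Cfsg.Agent.U62Rec.InJCheck

/-!
# Finite conditions for conjugates of `z` outside `O₂(C(z))`

For an involutory map `c` the subspaces `A`, `I` and the maps of `B` established in `OutJ` are
enumerated; a predicate is checked on each possibility.
-/

set_option autoImplicit false

namespace Cfsg.Agent.U62Rec

/-- The data of an involutory map. -/
structure OutCase where
  c : ℕ
  /-- all maps commuting with `c` and with square `1` or `c` -/
  S : List ℕ
  /-- some maps commuting with `c` -/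
  A : List ℕ
  /-- spanning vectors of the fixed space -/
  kb : List ℕ
  /-- functionals, covering all choices of values on `kb` -/
  ls : List ℕ
  /-- the moved space with preimages -/
  tp : List (ℕ × ℕ)

/-- Adjoin a vector, without a size limit. -/
def adj (L : List ℕ) (i : ℕ) : List ℕ := bif mem i L then L else L ++ L.map (· ^^^ i)

namespace OutCase

variable (c : OutCase)

/-- The fixed space. -/
def K : List ℕ := (List.range 256).filter fun v => Nat.beq (app c.c v) v

/-- The moved space. -/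
def T : List ℕ := c.tp.map (·.1)

/-- A preimage. -/
def pre (i : ℕ) : ℕ := ((c.tp.find? fun p => Nat.beq p.1 i).map (·.2)).getD 0

/-- The moved space is the fixed space. -/
def full : Bool := c.K.all fun v => mem v c.T

/-- The kernel of a functional in the fixed space. -/
def Ab (l : ℕ) : List ℕ := c.K.filter fun v => !lv l v

/-- The possible elements of `I`. -/
def Z (q : ℕ) (Ab : List ℕ) : List ℕ :=
  Ab.filter fun i => !qv q i && Ab.all (fun w => !fv i w) &&
    (Nat.beq i 0 || !mem i c.T || (decide (Ab.length = c.K.length) && !fv i (c.pre i)))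

/-- A subspace that may be part of `I`. -/
def iOK (Z L : List ℕ) : Bool :=
  L.all (fun i => mem i Z) && L.all (fun a => L.all fun b =>
    Nat.beq a 0 || Nat.beq b 0 || Nat.beq a b || !mem a c.T || !mem b c.T || fv a (c.pre b))

/-- Grow a subspace. -/
def grow (L : List ℕ) (i : ℕ) : List ℕ :=
  bif c.full then close c.A 2 (ext L i) else ext L i

/-- Check a predicate on every possible subspace containing `L`. -/
def search (Z : List ℕ) (P : List ℕ → Bool) : ℕ → List ℕ → Bool
  | 0, _ => false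
  | n + 1, L => P L && Z.all fun i =>
      mem i L || !c.iOK Z (c.grow L i) || search Z P n (c.grow L i)

/-- The possible maps. -/
def G (Ab L : List ℕ) : List ℕ :=
  c.S.filter fun g => (let s := cmp g g; Nat.beq s idm || Nat.beq s c.c) &&
    Ab.all (fun a => mem (app g a ^^^ a) L)

/-- All possibilities satisfy `P`. -/
def ok (q : ℕ) (P : List ℕ → List ℕ → List ℕ → Bool) : Bool :=
  (List.range 256).all (fun v => mem (app c.c v ^^^ v) c.T) &&
  c.tp.all (fun p => decide (p.2 < 256) && Nat.beq (app c.c p.2 ^^^ p.2) p.1) &&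
  c.kb.all (fun v => mem v c.K) &&
  c.K.all (fun v => mem v (c.kb.foldl adj [0])) &&
  (List.range (2 ^ c.kb.length)).all (fun b => c.ls.any fun l =>
    (c.kb.zipIdx).all fun p => lv l p.1 == b.testBit p.2) &&
  c.ls.all (fun l => let Ab := c.Ab l
    !(c.T.all fun t => (mem t Ab) == !qv q t) ||
      (let Z := c.Z q Ab; c.search Z (fun L => P Ab L (c.G Ab L)) 6 [0]))

end OutCase

theorem ext_nodup {L : List ℕ} (hsub : ∀ a ∈ L, ∀ b ∈ L, a ^^^ b ∈ L) (hL : L.Nodup) (i : ℕ) :
    (ext L i).Nodup := by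
  unfold ext
  cases h : mem i L || decide (32 ≤ L.length) with
  | true => simpa using hL
  | false =>
    simp only [cond_false]
    have hi : i ∉ L := fun e => by rw [mem_iff.2 e] at h; simp at h
    refine List.nodup_append.2 ⟨hL, hL.map fun a b e => ?_, ?_⟩
    · have := congrArg (· ^^^ i) e
      simpa [Nat.xor_assoc] using this
    · intro a ha b hb e
      obtain ⟨x, hx, rfl⟩ := List.mem_map.1 hb
      subst e
      refine hi ?_
      have := hsub _ ha x hx
      rwa [Nat.xor_comm x i, Nat.xor_assoc, Nat.xor_self, Nat.xor_zero] at this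

theorem ext_closed {L : List ℕ} (hsub : ∀ a ∈ L, ∀ b ∈ L, a ^^^ b ∈ L) (i : ℕ) :
    ∀ a ∈ ext L i, ∀ b ∈ ext L i, a ^^^ b ∈ ext L i := by
  unfold ext
  cases h : mem i L || decide (32 ≤ L.length) with
  | true => simpa using hsub
  | false =>
    simp only [cond_false, List.mem_append, List.mem_map]
    rintro a (ha | ⟨x, hx, rfl⟩) b (hb | ⟨w, hw, rfl⟩)
    · exact Or.inl (hsub a ha b hb)
    · exact Or.inr ⟨a ^^^ w, hsub a ha w hw, by rw [Nat.xor_assoc]⟩
    · exact Or.inr ⟨x ^^^ b, hsub x hx b hb, by rw [Nat.xor_assoc, Nat.xor_comm b i, ← Nat.xor_assoc]⟩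
    · left
      have e : x ^^^ i ^^^ (w ^^^ i) = x ^^^ w := by
        rw [Nat.xor_assoc, Nat.xor_comm w i, ← Nat.xor_assoc i, Nat.xor_self, Nat.zero_xor]
      rw [e]; exact hsub x hx w hw

theorem foldl_ext_closed : ∀ (N L : List ℕ), L.Nodup → (∀ a ∈ L, ∀ b ∈ L, a ^^^ b ∈ L) →
    (N.foldl ext L).Nodup ∧ ∀ a ∈ N.foldl ext L, ∀ b ∈ N.foldl ext L, a ^^^ b ∈ N.foldl ext L
  | [], L, h1, h2 => ⟨h1, h2⟩
  | i :: N, L, h1, h2 => by
    rw [List.foldl_cons]
    exact foldl_ext_closed N _ (ext_nodup h2 h1 i) (ext_closed h2 i)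

theorem close_closed (A : List ℕ) : ∀ (n : ℕ) (L : List ℕ), L.Nodup →
    (∀ a ∈ L, ∀ b ∈ L, a ^^^ b ∈ L) →
    (close A n L).Nodup ∧ ∀ a ∈ close A n L, ∀ b ∈ close A n L, a ^^^ b ∈ close A n L
  | 0, L, h1, h2 => ⟨h1, h2⟩
  | n + 1, L, h1, h2 => by
    rw [close]
    obtain ⟨a1, a2⟩ := foldl_ext_closed (A.flatMap fun a => L.map (app a)) L h1 h2
    exact close_closed A n _ a1 a2

/-- A map that agrees with a functional on spanning vectors agrees everywhere. -/
theorem agree_foldl {φ : ℕ → Bool} {X : Set ℕ} {l : ℕ}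
    (hX : ∀ a ∈ X, ∀ b ∈ X, a ^^^ b ∈ X)
    (hφ : ∀ a ∈ X, ∀ b ∈ X, φ (a ^^^ b) = (φ a ^^ φ b)) :
    ∀ (N L : List ℕ), (∀ a ∈ N, a ∈ X ∧ lv l a = φ a) → (∀ a ∈ L, a ∈ X ∧ lv l a = φ a) →
      ∀ a ∈ N.foldl adj L, a ∈ X ∧ lv l a = φ a
  | [], L, _, hL => by simpa using hL
  | i :: N, L, hN, hL => by
    rw [List.foldl_cons]
    refine agree_foldl hX hφ N _ (fun a ha => hN a (List.mem_cons_of_mem _ ha)) ?_
    obtain ⟨hi, hil⟩ := hN i List.mem_cons_self
    unfold adj
    cases h : mem i L with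
    | true => simpa using hL
    | false =>
      intro a ha
      simp only [cond_false, List.mem_append, List.mem_map] at ha
      rcases ha with ha | ⟨b, hb, rfl⟩
      · exact hL a ha
      · obtain ⟨hb, hbl⟩ := hL b hb
        exact ⟨hX b hb i hi, by rw [lv_xor, hbl, hil, hφ b hb i hi]⟩

end Cfsg.Agent.U62Rec
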