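import Cfsg.Agent.U62Rec.InJ
import Cfsg.Agent.U62Rec.OutJCheck

/-!
# Conjugates of `z` outside `O₂(C(z))`

`A = O₂(C z) ∩ C y`, `B = O₂(C y) ∩ C z`, `I` their intersection; the finite conditions bound the
order of `B` by that of a set of maps.
-/

set_option autoImplicit false

open Cfsg Subgroup

namespace Cfsg.Agent.U62Rec

open Cfsg.Agent.LargeExtra

/-- The maps listed for an involutory map are all those commuting with it. -/
structure OutHyp (gens : List ℕ) (l : ℕ) (c : OutCase) (P : List ℕ → List ℕ → List ℕ → Bool) :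
    Prop where
  ok : c.ok l P = true
  S_all : ∀ m, Gen gens m → cmp m c.c = cmp c.c m → (cmp m m = idm ∨ cmp m m = c.c) → m ∈ c.S
  A_gen : ∀ m ∈ c.A, Gen gens m ∧ cmp m c.c = cmp c.c m

theorem OutCase.search_spec {c : OutCase} {Z : List ℕ} {P : List ℕ → Bool} (I : Set ℕ)
    (hx : ∀ a ∈ I, ∀ b ∈ I, a ^^^ b ∈ I) (hZ : ∀ a ∈ I, a ∈ Z)
    (hpair : ∀ a ∈ I, ∀ b ∈ I, a ≠ 0 → b ≠ 0 → a ≠ b → a ∈ c.T → b ∈ c.T →
      fv a (c.pre b) = true)
    (hinv : c.full = true → (∃ i ∈ I, i ≠ 0) → ∀ m ∈ c.A, ∀ a ∈ I, app m a ∈ I) :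
    ∀ (n : ℕ) (L : List ℕ), c.search Z P n L = true → L.Nodup → 0 ∈ L →
      (∀ a ∈ L, ∀ b ∈ L, a ^^^ b ∈ L) → (∀ a ∈ L, a ∈ I) →
      ∃ L' : List ℕ, L'.Nodup ∧ I = {x | x ∈ L'} ∧ P L' = true
  | 0, L, h => by simp [OutCase.search] at h
  | n + 1, L, h => fun hnd h0 hcl hsub => by
    simp only [OutCase.search, Bool.and_eq_true, List.all_eq_true, Bool.or_eq_true, mem_iff] at h
    obtain ⟨hP, hnext⟩ := h
    by_cases hall : ∀ i ∈ I, i ∈ L
    · exact ⟨L, hnd, Set.ext fun x => ⟨hall x, hsub x⟩, hP⟩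
    push Not at hall
    obtain ⟨i, hi, hiL⟩ := hall
    have hi0 : i ≠ 0 := fun e => hiL (e ▸ h0)
    have hgrow : (c.grow L i).Nodup ∧ 0 ∈ c.grow L i ∧
        (∀ a ∈ c.grow L i, ∀ b ∈ c.grow L i, a ^^^ b ∈ c.grow L i) ∧
        ∀ a ∈ c.grow L i, a ∈ I := by
      unfold OutCase.grow
      cases hf : c.full with
      | false =>
        simp only [cond_false]
        refine ⟨ext_nodup hcl hnd i, ?_, ext_closed hcl i, ext_sub hx hsub hi⟩
        unfold ext
        cases mem i L || decide (32 ≤ L.length) <;> simp [h0]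
      | true =>
        simp only [cond_true]
        obtain ⟨a1, a2⟩ := close_closed c.A 2 _ (ext_nodup hcl hnd i) (ext_closed hcl i)
        have hs := close_sub hx (hinv hf ⟨i, hi, hi0⟩) 2 _ (ext_sub hx hsub hi)
        refine ⟨a1, ?_, a2, hs⟩
        obtain ⟨a, ha⟩ : ∃ a, a ∈ close c.A 2 (ext L i) := by
          by_contra hc
          push Not at hc
          have key : ∀ (N M : List ℕ), M ≠ [] → N.foldl ext M ≠ [] := by
            intro N
            induction N with
            | nil => exact fun M hM => hM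
            | cons a N ih =>
              intro M hM
              refine ih _ ?_
              unfold ext
              cases mem a M || decide (32 ≤ M.length) <;> simp [hM]
          have key2 : ∀ (n : ℕ) (M : List ℕ), M ≠ [] → close c.A n M ≠ [] := by
            intro n
            induction n with
            | zero => exact fun M hM => hM
            | succ n ih => exact fun M hM => ih _ (key _ M hM)
          have hne : ext L i ≠ [] := by
            have hL : L ≠ [] := List.ne_nil_of_mem h0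
            unfold ext
            cases mem i L || decide (32 ≤ L.length) <;> simp [hL]
          exact key2 2 _ hne (List.eq_nil_iff_forall_not_mem.2 hc)
        simpa using a2 a ha a ha
    obtain ⟨g1, g2, g3, g4⟩ := hgrow
    rcases hnext i (hZ i hi) with (e | e) | e
    · exact absurd e hiL
    · exfalso
      have : c.iOK Z (c.grow L i) = true := by
        simp only [OutCase.iOK, Bool.and_eq_true, List.all_eq_true, mem_iff, Bool.or_eq_true,
          Nat.beq_eq, Bool.not_eq_true', ← Bool.not_eq_true]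
        refine ⟨fun a ha => hZ a (g4 a ha), fun a ha b hb => ?_⟩
        by_cases h' : a = 0 ∨ b = 0 ∨ a = b ∨ a ∉ c.T ∨ b ∉ c.T
        · rcases h' with h' | h' | h' | h' | h' <;> simp [h']
        · push Not at h'
          exact Or.inr (hpair a (g4 a ha) b (g4 b hb) h'.1 h'.2.1 h'.2.2.1 h'.2.2.2.1 h'.2.2.2.2)
      rw [this] at e
      simp at e
    · exact OutCase.search_spec I hx hZ hpair hinv n _ e g1 g2 g3 g4

namespace Mod

variable {G : Type*} [Group G] [Finite G] {C : Cfg} {z : G} (M : Mod C z)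
include M

/-- `z ∉ oc y`. -/
theorem z_notMem (hC : Covered C) {g : G} (hy : g * z * g⁻¹ ∉ oc z) :
    z ∉ oc (g * z * g⁻¹) := by
  intro hz
  have e : g⁻¹ * (g * z * g⁻¹) * g⁻¹⁻¹ = z := by group
  have h1 := (M.conj g).eq_z_of_mem hC (g := g⁻¹) (by rw [e]; exact hz)
  rw [e] at h1
  exact hy (by rw [← h1]; exact M.z_mem)

/-- A product with an element of `oc z ∩ oc y` is no conjugate of `z`. -/
theorem mul_notConj (hC : Covered C) {g : G} {b : G} (hb : b ∈ oc (g * z * g⁻¹)) (hb1 : b ≠ 1)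
    (k : G) : k * z * k⁻¹ ≠ g * z * g⁻¹ * b := by
  intro h
  have e : k * g⁻¹ * (g * z * g⁻¹) * (k * g⁻¹)⁻¹ = g * z * g⁻¹ * b := by rw [← h]; group
  have h1 := (M.conj g).eq_z_of_mem hC (g := k * g⁻¹)
    (by rw [e]; exact mul_mem (M.conj g).z_mem hb)
  rw [e] at h1
  exact hb1 (mul_eq_left.1 h1)

theorem involution {g : G} : g * z * g⁻¹ * (g * z * g⁻¹) = 1 := by
  rw [conjm, M.set.core.sq_one, mul_one, mul_inv_cancel]

set_option maxHeartbeats 1600000 in
/-- What the finite conditions give. -/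
theorem profile (hC : Covered C) {c : OutCase} {P : List ℕ → List ℕ → List ℕ → Bool}
    (hc : OutHyp C.gens C.l c P) {g : G} (hy : g * z * g⁻¹ ∈ centralizer ({z} : Set G))
    (hyn : g * z * g⁻¹ ∉ oc z) (hrho : M.rho (g * z * g⁻¹) = c.c) :
    ∃ Ab L : List ℕ, Ab.Nodup ∧ L.Nodup ∧
      M.bar '' ((oc z ⊓ centralizer ({g * z * g⁻¹} : Set G) : Subgroup G) : Set G) = {x | x ∈ Ab} ∧
      M.bar '' ((oc z ⊓ oc (g * z * g⁻¹) : Subgroup G) : Set G) = {x | x ∈ L} ∧
      M.rho '' ((oc (g * z * g⁻¹) ⊓ centralizer ({z} : Set G) : Subgroup G) : Set G)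
        ⊆ {x | x ∈ c.G Ab L} ∧
      P Ab L (c.G Ab L) = true ∧
      Nat.card ↥(oc z ⊓ centralizer ({g * z * g⁻¹} : Set G)) = 2 * Ab.length ∧
      Nat.card ↥(oc (g * z * g⁻¹) ⊓ centralizer ({z} : Set G)) ≤ (c.G Ab L).length * L.length := by
  classical
  have hzn := M.z_notMem hC hyn
  set My := M.conj g with hMy
  set y := g * z * g⁻¹ with hydef


  clear_value y
  have hyy : y * y = 1 := My.zz
  have hyi : y⁻¹ = y := My.zi
  set A' := oc z ⊓ centralizer ({y} : Set G) with hA'
  set B' := oc y ⊓ centralizer ({z} : Set G) with hB'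
  set I' := oc z ⊓ oc y with hI'
  have hIA : I' ≤ A' := fun i hi => Subgroup.mem_inf.2 ⟨hi.1, oc_le y hi.2⟩
  have hIB : I' ≤ B' := fun i hi => Subgroup.mem_inf.2 ⟨hi.2, oc_le z hi.1⟩
  obtain ⟨hok, hSall, hAgen⟩ := hc
  simp only [OutCase.ok, Bool.and_eq_true, List.all_eq_true, mem_iff, decide_eq_true_eq, Nat.beq_eq,
    List.any_eq_true, Bool.or_eq_true, List.mem_range, beq_iff_eq] at hok
  obtain ⟨⟨⟨⟨⟨hT, htp⟩, hkb⟩, hspan⟩, hls⟩, hsearch⟩ := hok
  have hTmem : ∀ v < 256, app c.c v ^^^ v ∈ c.T := hT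
  have hpre : ∀ i ∈ c.T, c.pre i < 256 ∧ app c.c (c.pre i) ^^^ c.pre i = i := by
    intro i hi
    obtain ⟨p, hp, rfl⟩ := List.mem_map.1 hi
    unfold OutCase.pre
    cases e : c.tp.find? fun q => Nat.beq q.1 p.1 with
    | none =>
      have := List.find?_eq_none.1 e p hp
      simp [Nat.beq_eq] at this
    | some q =>
      simp only [Option.map_some, Option.getD_some]
      have hq1 := List.find?_some e
      simp only [Nat.beq_eq] at hq1
      exact ⟨(htp q (List.mem_of_find?_eq_some e)).1, hq1 ▸ (htp q (List.mem_of_find?_eq_some e)).2⟩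
  have hKmem : ∀ v, v ∈ c.K ↔ v < 256 ∧ app c.c v = v := fun v => by
    simp [OutCase.K, List.mem_filter, Nat.beq_eq]
  have hcc : cmp (M.rho y) (M.rho y) = idm := by
    rw [← M.rho_mul y hy y hy, hyy, M.rho_one]
  have hK : ∀ a ∈ A', M.bar a ∈ c.K := fun a ha => (hKmem _).2 ⟨M.bar_lt a, by
    rw [← hrho, ← M.rho_act y hy a ha.1, ← (My.commz ha.2).eq, mul_inv_cancel_right]⟩
  -- commutators of `A'` with `I'`
  have hAI : ∀ a ∈ A', ∀ i ∈ I', Commute a i := by
    intro a ha i hi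
    refine M.commute_of_comm ?_
    rcases M.comm_cases ha.1 hi.1 with e | e
    · exact e
    · exfalso
      exact hzn (e ▸ mul_mem (My.oc_norm ha.2 hi.2) (inv_mem hi.2))
  have hIsq : ∀ i ∈ I', i * i = 1 := by
    intro i hi
    rcases M.sq_cases hi.1 with e | e
    · exact e
    · exact absurd (e ▸ mul_mem hi.2 hi.2) hzn
  have hIinj : ∀ i ∈ I', M.bar i = 0 → i = 1 := by
    intro i hi h
    rcases M.bar_eq i hi.1 h with e | e
    · exact e
    · exact absurd (e ▸ hi.2) hzn
  -- the commutator with a lift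
  have hlift : ∀ j ∈ oc z, y * (j * y * j⁻¹) ∈ oc z ∧
      M.bar (y * (j * y * j⁻¹)) = app c.c (M.bar j) ^^^ M.bar j := by
    intro j hj
    have e : y * (j * y * j⁻¹) = y * j * y⁻¹ * j⁻¹ := by rw [hyi]; group
    refine ⟨e ▸ mul_mem (M.oc_norm hy hj) (inv_mem hj), ?_⟩
    rw [e, M.bar_mul _ (M.oc_norm hy hj) _ (inv_mem hj), M.rho_act y hy j hj, hrho, M.bar_inv hj]
  have hAbar : ∀ a ∈ oc z, M.bar a ∈ M.bar '' (A' : Set G) → a ∈ A' := by
    rintro a ha ⟨b, hb, hab⟩
    refine Subgroup.mem_inf.2 ⟨ha, ?_⟩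
    rcases (M.bar_eq_iff hb.1 ha).1 hab with e | e <;> rw [e]
    · exact hb.2
    · exact mul_mem hb.2 (mem_centralizer_singleton_iff.2 (M.commz hy).eq.symm)
  set φ : ℕ → Bool := fun w => decide (w ∉ M.bar '' (A' : Set G)) with hφdef
  -- elements over the fixed space
  have hkz : ∀ k ∈ oc z, M.bar k ∈ c.K → (φ (M.bar k) = false → y * (k * y * k⁻¹) = 1) ∧
      (φ (M.bar k) = true → y * (k * y * k⁻¹) = z) := by
    intro k hk hkK
    obtain ⟨h1, h2⟩ := hlift k hk
    rw [((hKmem _).1 hkK).2, Nat.xor_self] at h2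
    constructor
    · intro hφ
      have hkA : k ∈ A' := hAbar k hk (by simpa [hφdef] using hφ)
      rw [(My.commz hkA.2).eq, mul_inv_cancel_right, hyy]
    · intro hφ
      rcases M.bar_eq _ h1 h2 with e | e
      · exfalso
        have e2 : k * y * k⁻¹ = y := by
          rw [← mul_right_inj y, e, hyy]
        have hkA : k ∈ A' :=
          Subgroup.mem_inf.2 ⟨hk, mem_centralizer_singleton_iff.2 (mul_inv_eq_iff_eq_mul.1 e2)⟩
        simp [hφdef] at hφ
        exact hφ k hkA rfl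
      · exact e
  have hKx : ∀ a ∈ c.K, ∀ b ∈ c.K, a ^^^ b ∈ c.K := fun a ha b hb => (hKmem _).2
    ⟨Nat.xor_lt_two_pow (n := 8) ((hKmem _).1 ha).1 ((hKmem _).1 hb).1, by
      rw [app_xor, ((hKmem _).1 ha).2, ((hKmem _).1 hb).2]⟩
  have hφ : ∀ a ∈ c.K, ∀ b ∈ c.K, φ (a ^^^ b) = (φ a ^^ φ b) := by
    intro a ha b hb
    obtain ⟨ka, hka, rfl⟩ := M.bar_surj a ((hKmem _).1 ha).1
    obtain ⟨kb, hkb', rfl⟩ := M.bar_surj b ((hKmem _).1 hb).1
    have hab := hKx _ ha _ hb
    rw [← M.bar_mul ka hka kb hkb'] at hab ⊢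
    have hzc : Commute ka z := M.set.comm_z hka
    have hval : y * (ka * kb * y * (ka * kb)⁻¹) =
        y * (ka * y * ka⁻¹) * (y * (kb * y * kb⁻¹)) := by
      have hc' : ∀ x, x = y * (kb * y * kb⁻¹) → Commute ka x := by
        intro x hx
        cases hb' : φ (M.bar kb) with
        | false => rw [hx, (hkz kb hkb' hb).1 hb']; exact Commute.one_right _
        | true => rw [hx, (hkz kb hkb' hb).2 hb']; exact hzc
      have h3 := hc' _ rfl
      calc y * (ka * kb * y * (ka * kb)⁻¹)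
          = y * (ka * (y * (y * (kb * y * kb⁻¹))) * ka⁻¹) := by
            rw [← mul_assoc y y, hyy, one_mul]; group
        _ = y * (ka * y * (y * (kb * y * kb⁻¹)) * ka⁻¹) := by simp only [mul_assoc]
        _ = y * (ka * y * ka⁻¹) * (y * (kb * y * kb⁻¹)) := by
            rw [mul_assoc (ka * y), ← (h3.inv_left).eq]
            simp only [mul_assoc]
    have key : ∀ k ∈ oc z, M.bar k ∈ c.K →
        y * (k * y * k⁻¹) = if φ (M.bar k) then z else 1 := by
      intro k hk hkK
      cases h : φ (M.bar k)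
      · simpa using (hkz k hk hkK).1 h
      · simpa using (hkz k hk hkK).2 h
    rw [key _ (mul_mem hka hkb') hab, key ka hka ha, key kb hkb' hb] at hval
    clear key hkz
    generalize φ (M.bar (ka * kb)) = r, φ (M.bar ka) = p, φ (M.bar kb) = q at hval ⊢
    cases r <;> cases p <;> cases q <;> first
      | rfl
      | (exfalso; simp [M.zz] at hval; first | exact M.z_ne hval | exact M.z_ne hval.symm)
  -- the functional
  obtain ⟨b, hb⟩ : ∃ b : ℕ, b < 2 ^ c.kb.length ∧ ∀ p ∈ c.kb.zipIdx, b.testBit p.2 = φ p.1 := by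
    have : ∀ L : List ℕ, ∃ b : ℕ, b < 2 ^ L.length ∧ ∀ p ∈ L.zipIdx, b.testBit p.2 = φ p.1 := by
      intro L
      induction L using List.reverseRecOn with
      | nil => exact ⟨0, by simp, by simp⟩
      | append_singleton L a ih =>
        obtain ⟨b, hb, hb'⟩ := ih
        refine ⟨b + cond (φ a) (2 ^ L.length) 0, ?_, ?_⟩
        · rw [List.length_append, List.length_singleton, pow_succ]
          cases φ a <;> simp <;> omega
        · intro p hp
          rw [List.zipIdx_append, List.mem_append] at hp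
          rcases hp with hp | hp
          · have hlt := (List.mem_zipIdx hp).2.1
            rw [← hb' p hp]
            cases φ a
            · simp
            · simp only [cond_true]
              rw [add_comm, Nat.testBit_two_pow_add_gt (by simpa using hlt)]
          · simp only [zero_add, List.zipIdx_cons, List.zipIdx_nil, List.mem_singleton] at hp
            subst hp
            cases h : φ a
            · simp [Nat.testBit_eq_false_of_lt hb, h]
            · simp [add_comm b, Nat.testBit_two_pow_add_eq, Nat.testBit_eq_false_of_lt hb, h]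
    exact this _
  obtain ⟨l, hl, hlb⟩ := hls b hb.1
  have hagree : ∀ a ∈ c.K, lv l a = φ a := by
    intro a ha
    refine (agree_foldl (X := {x | x ∈ c.K}) hKx hφ c.kb [0] ?_ ?_ a (hspan a ha)).2
    · intro k hk
      refine ⟨hkb k hk, ?_⟩
      obtain ⟨i, hi, rfl⟩ := List.getElem_of_mem hk
      have hp : (c.kb[i], i) ∈ c.kb.zipIdx := List.mem_zipIdx_iff_getElem?.2 (List.getElem?_eq_getElem hi)
      have := hlb _ hp
      simp only at this
      rw [this]; exact hb.2 _ hp
    · intro k hk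
      rw [List.mem_singleton.1 hk]
      refine ⟨(hKmem 0).2 ⟨by norm_num, app_zero _⟩, ?_⟩
      have h0 : (0 : ℕ) ∈ M.bar '' (A' : Set G) := ⟨1, one_mem _, M.bar_one⟩
      have h1 : φ 0 = false := decide_eq_false (not_not.2 h0)
      rw [h1]
      show Nat.beq (par ((l &&& 255) &&& 0)) 1 = false
      rw [Nat.and_zero]
      rfl
  have hAb : M.bar '' (A' : Set G) = {x | x ∈ c.Ab l} := by
    ext w
    simp only [Set.mem_ofPred_eq, OutCase.Ab, List.mem_filter, Bool.not_eq_true']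
    constructor
    · rintro ⟨a, ha, rfl⟩
      refine ⟨hK a ha, ?_⟩
      rw [hagree _ (hK a ha)]
      exact decide_eq_false (not_not.2 ⟨a, ha, rfl⟩)
    · rintro ⟨hw, hw'⟩
      rw [hagree w hw] at hw'
      exact not_not.1 (of_decide_eq_false hw')
  have hTK : ∀ t ∈ c.T, (mem t (c.Ab l) == !qv C.l t) = true := by
    intro t ht
    obtain ⟨hp, hp'⟩ := hpre t ht
    obtain ⟨j, hj, hjb⟩ := M.bar_surj _ hp
    obtain ⟨ha, ha'⟩ := hlift j hj
    rw [hjb, hp'] at ha'
    set a := y * (j * y * j⁻¹) with hadef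
    have hinv : y * a * y = a⁻¹ := by
      rw [hadef, mul_inv_rev, mul_inv_rev, mul_inv_rev, inv_inv, hyi, ← mul_assoc y y, hyy, one_mul]
      group
    have h1 : mem t (c.Ab l) = true ↔ qv C.l t = false := by
      rw [mem_iff, ← ha', ← M.sq_eq ha]
      constructor
      · intro hm
        have hm' : M.bar a ∈ M.bar '' (A' : Set G) := by rw [hAb]; exact hm
        have hc' := (My.commz (hAbar a ha hm').2).eq
        rw [← hc', mul_assoc, hyy, mul_one] at hinv
        calc a * a = a * a⁻¹ := by rw [← hinv]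
          _ = 1 := mul_inv_cancel a
      · intro hs
        have hm : a ∈ A' := Subgroup.mem_inf.2 ⟨ha, by
          rw [inv_eq_of_mul_eq_one_right hs] at hinv
          rw [mem_centralizer_singleton_iff]
          calc a * y = y * a * y * y := by rw [hinv]
            _ = y * a := by rw [mul_assoc, hyy, mul_one]⟩
        have : M.bar a ∈ M.bar '' (A' : Set G) := ⟨a, hm, rfl⟩
        rw [hAb] at this
        exact this
    clear * - h1
    cases h2 : mem t (c.Ab l) <;> cases h3 : qv C.l t <;> rw [h2, h3] at h1 <;> simp at h1 ⊢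
  -- the subspace `I`
  set I : Set ℕ := M.bar '' (I' : Set G) with hI
  have hIx : ∀ a ∈ I, ∀ b ∈ I, a ^^^ b ∈ I := by
    rintro _ ⟨a, ha, rfl⟩ _ ⟨b, hb, rfl⟩
    exact ⟨a * b, mul_mem ha hb, M.bar_mul a ha.1 b hb.1⟩
  have notConj : ∀ b ∈ oc y, b ≠ 1 → ∀ k : G, k * z * k⁻¹ ≠ y * b := by
    subst hydef
    exact fun b hb hb1 k => M.mul_notConj hC hb hb1 k
  -- the conjugation by a lift of a preimage
  have star : ∀ i ∈ I', M.bar i ≠ 0 → ∀ j ∈ oc z,
      app c.c (M.bar j) ^^^ M.bar j = M.bar i → j * y * j⁻¹ = y * i * z := by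
    intro i hi hi0 j hj hji
    obtain ⟨ha, ha'⟩ := hlift j hj
    rw [hji] at ha'
    rcases (M.bar_eq_iff hi.1 ha).1 ha'.symm with e | e
    · exfalso
      refine notConj i hi.2 (fun h => hi0 (by rw [h, M.bar_one])) (j * g) ?_
      calc j * g * z * (j * g)⁻¹ = y * (y * (j * y * j⁻¹)) := by
            rw [← mul_assoc y y, hyy, one_mul, hydef]; group
        _ = y * i := by rw [e]
    · calc j * y * j⁻¹ = y * (y * (j * y * j⁻¹)) := by rw [← mul_assoc y y, hyy, one_mul]
        _ = y * i * z := by rw [e, mul_assoc]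
  have noYZ : ∀ i ∈ I', M.bar i ≠ 0 → M.bar i ∈ c.T → ∀ k : G, k * z * k⁻¹ ≠ y * z := by
    intro i hi hi0 hiT k hk
    obtain ⟨hp, hp'⟩ := hpre _ hiT
    obtain ⟨j, hj, hjb⟩ := M.bar_surj _ hp
    have h1 := star i hi hi0 j hj (by rw [hjb, hp'])
    refine notConj i hi.2 (fun h => hi0 (by rw [h, M.bar_one])) (j * k) ?_
    calc j * k * z * (j * k)⁻¹ = j * (k * z * k⁻¹) * j⁻¹ := by group
      _ = j * y * j⁻¹ * (j * z * j⁻¹) := by rw [hk]; group
      _ = y * i * z * z := by rw [h1, (M.set.comm_z hj).eq, mul_inv_cancel_right]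
      _ = y * i := by rw [mul_assoc, M.zz, mul_one]
  have hIfull : (∃ i ∈ I, i ≠ 0 ∧ i ∈ c.T) → ∀ w ∈ c.K, φ w = false := by
    rintro ⟨_, ⟨i, hi, rfl⟩, hi0, hiT⟩ w hw
    obtain ⟨k, hk, rfl⟩ := M.bar_surj w ((hKmem w).1 hw).1
    by_contra hcon
    have h1 := (hkz k hk hw).2 (by simpa using hcon)
    refine noYZ i hi hi0 hiT (k * g) ?_
    calc k * g * z * (k * g)⁻¹ = y * (y * (k * y * k⁻¹)) := by
          rw [← mul_assoc y y, hyy, one_mul, hydef]; group
      _ = y * z := by rw [h1]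
  have hZ : ∀ w ∈ I, w ∈ c.Z C.l (c.Ab l) := by
    rintro _ ⟨i, hi, rfl⟩
    rw [OutCase.Z, List.mem_filter]
    simp only [Bool.and_eq_true, List.all_eq_true, Bool.or_eq_true, decide_eq_true_eq, Nat.beq_eq,
      Bool.not_eq_true']
    have hmem : M.bar i ∈ M.bar '' (A' : Set G) := ⟨i, hIA hi, rfl⟩
    rw [hAb] at hmem
    refine ⟨hmem, ⟨(M.sq_eq hi.1).1 (hIsq i hi), fun w hw => ?_⟩, ?_⟩
    · have hw' : w ∈ M.bar '' (A' : Set G) := by rw [hAb]; exact hw
      obtain ⟨a, ha, rfl⟩ := hw'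
      exact (M.commute_iff hi.1 ha.1).1 (hAI a ha i hi).symm
    · by_cases h0 : M.bar i = 0
      · exact Or.inl (Or.inl h0)
      by_cases hT' : M.bar i ∈ c.T
      · refine Or.inr ⟨?_, ?_⟩
        · have : c.Ab l = c.K := List.filter_eq_self.2 fun w hw => by
            rw [hagree w hw, hIfull ⟨_, ⟨i, hi, rfl⟩, h0, hT'⟩ w hw]; rfl
          rw [this]
        · -- applying a lift twice
          obtain ⟨hp, hp'⟩ := hpre _ hT'
          obtain ⟨j, hj, hjb⟩ := M.bar_surj _ hp
          have h1 := star i hi h0 j hj (by rw [hjb, hp'])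
          rw [← Bool.not_eq_true]
          intro hf
          have h2 : j * i * j⁻¹ = i * z := by
            rw [M.comm hj hi.1, hjb, fv_comm, hf, if_pos rfl, mul_assoc i j z, (M.set.comm_z hj).eq,
              ← mul_assoc, mul_inv_cancel_right]
          have h3 : j * j * y * (j * j)⁻¹ = y := by
            rcases M.sq_cases hj with e | e <;> rw [e]
            · simp
            · rw [(M.commz hy).symm.eq, mul_inv_cancel_right]
          have h4 : j * j * y * (j * j)⁻¹ = y * z := by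
            calc j * j * y * (j * j)⁻¹ = j * (j * y * j⁻¹) * j⁻¹ := by group
              _ = (j * y * j⁻¹) * (j * i * j⁻¹) * (j * z * j⁻¹) := by
                  conv_lhs => rw [h1]
                  group
              _ = y * i * z * (i * z) * z := by
                  rw [h1, h2, (M.set.comm_z hj).eq, mul_inv_cancel_right]
              _ = y * (i * i) * (z * z) * z := by
                  rw [show y * i * z * (i * z) * z = y * i * (z * i) * z * z by simp only [mul_assoc],
                    ← (M.set.comm_z hi.1).eq]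
                  simp only [mul_assoc]
              _ = y * z := by rw [hIsq i hi, M.zz, mul_one, mul_one]
          rw [h3] at h4
          exact M.z_ne (mul_eq_left.1 h4.symm)
      · exact Or.inl (Or.inr (by rw [← Bool.not_eq_true, mem_iff]; exact hT'))
  have hpair : ∀ a ∈ I, ∀ b ∈ I, a ≠ 0 → b ≠ 0 → a ≠ b → a ∈ c.T → b ∈ c.T →
      fv a (c.pre b) = true := by
    rintro _ ⟨i, hi, rfl⟩ _ ⟨k, hk, rfl⟩ hi0 hk0 hne hiT hkT
    obtain ⟨p1, p1'⟩ := hpre _ hiT
    obtain ⟨p2, p2'⟩ := hpre _ hkT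
    obtain ⟨j, hj, hjb⟩ := M.bar_surj _ p1
    obtain ⟨j', hj', hjb'⟩ := M.bar_surj _ p2
    have h1 := star i hi hi0 j hj (by rw [hjb, p1'])
    have h2 := star k hk hk0 j' hj' (by rw [hjb', p2'])
    have h3 := star (k * i) (mul_mem hk hi) ?_ (j' * j) (mul_mem hj' hj) ?_
    · by_contra hf
      rw [Bool.not_eq_true, ← hjb', fv_comm] at hf
      have h4 : j' * i * j'⁻¹ = i := by
        rw [((M.commute_iff hj' hi.1).2 hf).eq, mul_inv_cancel_right]
      have h5 : j' * j * y * (j' * j)⁻¹ = y * (k * i) := by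
        calc j' * j * y * (j' * j)⁻¹ = j' * (j * y * j⁻¹) * j'⁻¹ := by group
          _ = (j' * y * j'⁻¹) * (j' * i * j'⁻¹) * (j' * z * j'⁻¹) := by rw [h1]; group
          _ = y * k * z * i * z := by rw [h2, h4, (M.set.comm_z hj').eq, mul_inv_cancel_right]
          _ = y * (k * i) * (z * z) := by
              rw [mul_assoc (y * k) z i, ← (M.set.comm_z hi.1).eq]; simp only [mul_assoc]
          _ = y * (k * i) := by rw [M.zz, mul_one]
      rw [h5] at h3
      exact M.z_ne (mul_eq_left.1 h3.symm)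
    · rw [M.bar_mul k hk.1 i hi.1]
      exact fun e => hne (Nat.xor_eq_zero_iff.1 e).symm
    · rw [M.bar_mul j' hj' j hj, app_xor, M.bar_mul k hk.1 i hi.1, hjb, hjb']
      calc app c.c (c.pre (M.bar k)) ^^^ app c.c (c.pre (M.bar i)) ^^^
            (c.pre (M.bar k) ^^^ c.pre (M.bar i))
          = (app c.c (c.pre (M.bar k)) ^^^ c.pre (M.bar k)) ^^^
            (app c.c (c.pre (M.bar i)) ^^^ c.pre (M.bar i)) := by ac_rfl
        _ = _ := by rw [p1', p2']
  have hinv : c.full = true → (∃ i ∈ I, i ≠ 0) → ∀ m ∈ c.A, ∀ a ∈ I, app m a ∈ I := by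
    intro hfull ⟨i0, hi0, hi00⟩ m hm
    have hKT : ∀ v ∈ c.K, v ∈ c.T := by
      simpa [OutCase.full, List.all_eq_true, mem_iff] using hfull
    obtain ⟨i, hi, rfl⟩ := hi0
    have hiT : M.bar i ∈ c.T := hKT _ (hK i (hIA hi))
    obtain ⟨hg, hmc⟩ := hAgen m hm
    obtain ⟨h, hh, rfl⟩ := M.exists_rho hg
    set y' := h * y * h⁻¹ with hy'
    have hy'C : y' ∈ centralizer ({z} : Set G) := mul_mem (mul_mem hh hy) (inv_mem hh)
    have hy'ρ : M.rho y' = c.c := by
      rw [hy', M.rho_mul _ (mul_mem hh hy) _ (inv_mem hh), M.rho_mul h hh y hy, hrho, hmc, cmp_assoc,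
        (M.rho_cancel hh).1, cmp_idm (hrho ▸ M.rho_code y)]
    have ha : y * y' ∈ oc z := by
      have := (M.rho_inj hy hy'C).1 (hrho.trans hy'ρ.symm)
      rwa [hyi] at this
    have hy'2 : y' * y' = 1 := by rw [hy', conjm, hyy, mul_one, mul_inv_cancel]
    have hfix : M.bar (y * y') ∈ c.K := by
      refine (hKmem _).2 ⟨M.bar_lt _, ?_⟩
      rw [← hrho, ← M.rho_act y hy _ ha, ← M.bar_inv ha]
      congr 1
      rw [mul_inv_rev, inv_eq_of_mul_eq_one_right hy'2, hyi, ← mul_assoc y y, hyy, one_mul]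
    obtain ⟨hp, hp'⟩ := hpre _ (hKT _ hfix)
    obtain ⟨j, hj, hjb⟩ := M.bar_surj _ hp
    obtain ⟨hl1, hl2⟩ := hlift j hj
    rw [hjb, hp'] at hl2
    have hjy : j * y * j⁻¹ = y' := by
      rcases (M.bar_eq_iff ha hl1).1 hl2.symm with e | e
      · exact mul_left_cancel e
      · exfalso
        rw [mul_assoc y y', mul_right_inj] at e
        refine noYZ i hi (fun e0 => hi00 e0) hiT (j⁻¹ * h * g) ?_
        calc j⁻¹ * h * g * z * (j⁻¹ * h * g)⁻¹ = j⁻¹ * y' * j := by rw [hy', hydef]; group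
          _ = j⁻¹ * (j * y * j⁻¹ * z) * j := by rw [e, mul_assoc y', M.zz, mul_one]
          _ = y * (j⁻¹ * z * j) := by group
          _ = y * z := by rw [(M.set.comm_z (inv_mem hj)).eq, mul_assoc, inv_mul_cancel, mul_one]
    have hk : j⁻¹ * h ∈ centralizer ({z} : Set G) := mul_mem (inv_mem (oc_le z hj)) hh
    have hky : j⁻¹ * h * y * (j⁻¹ * h)⁻¹ = y := by
      calc j⁻¹ * h * y * (j⁻¹ * h)⁻¹ = j⁻¹ * (h * y * h⁻¹) * j := by group
        _ = j⁻¹ * (j * y * j⁻¹) * j := by rw [hjy]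
        _ = y := by group
    rintro _ ⟨a, ha', rfl⟩
    refine ⟨j⁻¹ * h * a * (j⁻¹ * h)⁻¹, Subgroup.mem_inf.2 ⟨M.oc_norm hk ha'.1, ?_⟩, ?_⟩
    · have := conj_mem_oc (g := j⁻¹ * h) ha'.2
      rwa [hky] at this
    · rw [M.rho_act _ hk a ha'.1, M.rho_mul _ (inv_mem (oc_le z hj)) h hh,
        M.rho_of_mem (inv_mem hj), idm_cmp (M.rho_code h)]
  rcases hsearch l hl with h | h
  · exfalso
    rw [Bool.not_eq_true', ← Bool.not_eq_true] at h
    exact h (List.all_eq_true.2 hTK)
  obtain ⟨L, hLnd, hIL, hPL⟩ := OutCase.search_spec I hIx hZ hpair hinv _ _ h (by simp) (by simp)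
    (by simp) (fun a ha => by rw [List.mem_singleton.1 ha]; exact ⟨1, one_mem _, M.bar_one⟩)
  have hnd : (c.Ab l).Nodup := (List.nodup_range.filter _).filter _
  have hGsub : M.rho '' (B' : Set G) ⊆ {x | x ∈ c.G (c.Ab l) L} := by
    rintro _ ⟨b, hb, rfl⟩
    simp only [Set.mem_ofPred_eq, OutCase.G, List.mem_filter, Bool.and_eq_true, Bool.or_eq_true,
      Nat.beq_eq, List.all_eq_true, mem_iff]
    have hsq : cmp (M.rho b) (M.rho b) = idm ∨ cmp (M.rho b) (M.rho b) = c.c := by
      rw [← M.rho_mul b hb.2 b hb.2]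
      rcases My.sq_cases hb.1 with e | e <;> rw [e]
      · exact Or.inl M.rho_one
      · exact Or.inr hrho
    refine ⟨hSall _ (M.rho_gen b hb.2) ?_ hsq, hsq, fun w hw => ?_⟩
    · rw [← hrho, ← M.rho_mul b hb.2 y hy, ← M.rho_mul y hy b hb.2, (My.commz (oc_le y hb.1)).eq]

    · have hw' : w ∈ M.bar '' (A' : Set G) := by rw [hAb]; exact hw
      obtain ⟨a, ha, rfl⟩ := hw'
      have hm : b * a * b⁻¹ * a⁻¹ ∈ I' := by
        refine Subgroup.mem_inf.2 ⟨mul_mem (M.oc_norm hb.2 ha.1) (inv_mem ha.1), ?_⟩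
        rw [show b * a * b⁻¹ * a⁻¹ = b * (a * b⁻¹ * a⁻¹) by group]
        exact mul_mem hb.1 (My.oc_norm ha.2 (inv_mem hb.1))
      have : M.bar (b * a * b⁻¹ * a⁻¹) ∈ I := ⟨_, hm, rfl⟩
      rw [hIL] at this
      rwa [M.bar_mul _ (M.oc_norm hb.2 ha.1) _ (inv_mem ha.1), M.rho_act b hb.2 a ha.1,
        M.bar_inv ha.1] at this
  refine ⟨c.Ab l, L, hnd, hLnd, hAb, hIL, hGsub, hPL, ?_, ?_⟩
  · rw [M.card_bar inf_le_left (Subgroup.mem_inf.2
      ⟨M.z_mem, mem_centralizer_singleton_iff.2 (M.commz hy).eq.symm⟩), hAb,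
      show {x | x ∈ c.Ab l} = ((c.Ab l).toFinset : Set ℕ) by ext; simp, Set.ncard_coe_finset,
      List.toFinset_card_of_nodup hnd]
  · have h3 : Nat.card ↥B' = (M.rho '' (B' : Set G)).ncard * Nat.card ↥I' :=
      card_fibres M.rho B' I' hIB fun a ha b hb => by
        rw [M.rho_inj ha.2 hb.2]
        exact ⟨fun e => Subgroup.mem_inf.2 ⟨e, mul_mem (inv_mem ha.1) hb.1⟩, fun e => e.1⟩
    have h4 : Nat.card ↥I' = L.length := by
      rw [card_fibres M.bar I' ⊥ bot_le fun a ha b hb => ?_, Subgroup.card_bot, mul_one]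
      · show (M.bar '' (I' : Set G)).ncard = L.length
        rw [show M.bar '' (I' : Set G) = {x | x ∈ L} from hIL,
          show {x | x ∈ L} = (L.toFinset : Set ℕ) by ext; simp, Set.ncard_coe_finset,
          List.toFinset_card_of_nodup hLnd]
      · rw [Subgroup.mem_bot]
        constructor
        · intro e
          refine hIinj _ (mul_mem (inv_mem ha) hb) ?_
          rw [M.bar_mul _ (inv_mem ha.1) _ hb.1, M.bar_inv ha.1, e, Nat.xor_self]
        · intro e; rw [inv_mul_eq_one.1 e]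
    have h5 : (M.rho '' (B' : Set G)).ncard ≤ (c.G (c.Ab l) L).length := by
      calc (M.rho '' (B' : Set G)).ncard ≤ ((c.G (c.Ab l) L).toFinset : Set ℕ).ncard :=
            Set.ncard_le_ncard (fun x hx => by simpa using hGsub hx) (Finset.finite_toSet _)
        _ ≤ _ := by rw [Set.ncard_coe_finset]; exact List.toFinset_card_le _
    rw [h3, h4]
    exact Nat.mul_le_mul_right _ h5

end Mod

end Cfsg.Agent.U62Rec
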