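import Cfsg.Agent.U62Rec.Side

/-!
# Commuting conjugates of `z`

Both sides of a pair are compared: in the reducible configurations `z` is isolated, in the natural
ones a second conjugate in `C(z)` acts as a transvection and the fibres have four elements.
-/

set_option autoImplicit false

open Cfsg Subgroup

namespace Cfsg.Agent.U62Rec

open Cfsg.Agent.LargeExtra

/-- The bounds of two cases are incompatible unless both are special of one kind. -/
def pairOK (i j : Out) : Bool :=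
  (decide (i.2.2.1 < 2 * j.2.1) || (decide (j.2.2.1 < 2 * i.2.1) && decide (j.2.2.2.1 < 2 * i.2.1))) &&
    (decide (i.2.2.2.1 < 2 * j.2.1) || decide (j.2.2.2.1 < 2 * i.2.1) ||
      Nat.beq i.2.2.2.2 j.2.2.2.2)

/-- The conditions on the list of rows. -/
def sidesOK (outs : List Out) : Bool :=
  outs.all (fun i => i.extraOK && decide (2 ≤ i.2.1) && outs.all fun j => pairOK i j) &&
    (outs.all (fun i => !Nat.beq i.2.2.2.2 1) ||
      outs.all fun i => !Nat.beq i.2.2.2.2 2 && !Nat.beq i.2.2.2.2 3)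

theorem sidesOK_extra {outs : List Out} (h : sidesOK outs = true) : ∀ o ∈ outs, o.extraOK = true := by
  simp only [sidesOK, Bool.and_eq_true, List.all_eq_true] at h
  exact fun o ho => (h.1 o ho).1.1

namespace Mod

variable {G : Type*} [Group G] [Finite G] {C : Cfg} {z : G} (M : Mod C z)
variable {outs : List Out}
include M

/-- Intersections are faithful in coordinates. -/
theorem inj_I (hC : Covered C) {g : G} (hyn : g * z * g⁻¹ ∉ oc z) {a b : G}
    (ha : a ∈ oc z ⊓ oc (g * z * g⁻¹)) (hb : b ∈ oc z ⊓ oc (g * z * g⁻¹))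
    (h : M.bar a = M.bar b) : a = b := by
  rcases (M.bar_eq_iff ha.1 hb.1).1 h with e | e
  · exact e.symm
  · exfalso
    refine M.z_notMem hC hyn ?_
    have := mul_mem (inv_mem (show a ∈ oc (g * z * g⁻¹) from ha.2))
      (show b ∈ oc (g * z * g⁻¹) from hb.2)
    rwa [e, inv_mul_cancel_left] at this

/-- Both sides are special of one kind. -/
theorem kinds (hF : Facts C outs) (hs : sidesOK outs = true) {g : G}
    (hy : g * z * g⁻¹ ∈ centralizer ({z} : Set G)) (hyn : g * z * g⁻¹ ∉ oc z) :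
    ∃ o ∈ outs, (∃ h, Gen C.gens h ∧ cmp (M.rho (g * z * g⁻¹)) h = cmp h o.1.c) ∧
      M.KindP (g * z * g⁻¹) o.2.2.2.2 ∧ (M.conj g).KindP z o.2.2.2.2 ∧
      4 ≤ Nat.card ↥(oc (g * z * g⁻¹) ⊓ centralizer ({z} : Set G)) := by
  have hex := sidesOK_extra hs
  simp only [sidesOK, Bool.and_eq_true, List.all_eq_true, decide_eq_true_eq] at hs
  obtain ⟨i, hi, hc1, hA, hB⟩ := M.side hF hex hy hyn
  set y := g * z * g⁻¹ with hydef
  have e : g⁻¹ * y * g⁻¹⁻¹ = z := by rw [hydef]; group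
  have hzy : z ∈ centralizer ({y} : Set G) :=
    mem_centralizer_singleton_iff.2 (mem_centralizer_singleton_iff.1 hy).symm
  obtain ⟨j, hj, -, hA', hB'⟩ := (M.conj g).side hF hex (g := g⁻¹) (by rw [e]; exact hzy)
    (by rw [e]; exact M.z_notMem hF.covered hyn)
  rw [e] at hA' hB'
  change 2 * j.2.1 ≤ Nat.card ↥(oc y ⊓ centralizer ({z} : Set G)) at hA'
  change Nat.card ↥(oc z ⊓ centralizer ({y} : Set G)) ≤ j.2.2.1 ∨
    (Nat.card ↥(oc z ⊓ centralizer ({y} : Set G)) ≤ j.2.2.2.1 ∧ (M.conj g).KindP z j.2.2.2.2) at hB'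
  have p1 := (hs.1 i hi).2 j hj
  have p2 := (hs.1 j hj).2 i hi
  have m2 := (hs.1 j hj).1.2
  simp only [pairOK, Bool.and_eq_true, Bool.or_eq_true, decide_eq_true_eq, Nat.beq_eq] at p1 p2
  rcases hB with hB | ⟨hB, hK⟩
  · exfalso
    rcases hB' with hB' | ⟨hB', -⟩ <;> rcases p1.1 with q | q <;> omega
  rcases hB' with hB' | ⟨hB', hK'⟩
  · exfalso
    rcases p2.1 with q | q <;> omega
  have hk : i.2.2.2.2 = j.2.2.2.2 := by
    rcases p1.2 with (q | q) | q
    · omega
    · omega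
    · exact q
  exact ⟨i, hi, hc1, hK, hk ▸ hK',
    show 4 ≤ Nat.card ↥(oc y ⊓ centralizer ({z} : Set G)) by omega⟩

theorem kinds' (hF : Facts C outs) (hs : sidesOK outs = true) {g y : G} (e : g * z * g⁻¹ = y)
    (hy : y ∈ centralizer ({z} : Set G)) (hyn : y ∉ oc z) :
    ∃ o ∈ outs, M.KindP y o.2.2.2.2 ∧ (M.conj g).KindP z o.2.2.2.2 := by
  subst e
  obtain ⟨o, ho, -, hK, hK', -⟩ := M.kinds hF hs hy hyn
  exact ⟨o, ho, hK, hK'⟩

theorem not_kind2 {g : G} (h : M.Kind2 (g * z * g⁻¹)) (h' : (M.conj g).Kind2 z) : False := by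
  obtain ⟨a, ha, hay, hna, hnaz, hB⟩ := h.wit
  set y := g * z * g⁻¹ with hydef
  have haz : Commute a z := M.set.comm_z ha
  have hzC : ∀ {x : G}, Commute x y → x ∈ centralizer ({y} : Set G) := fun hx =>
    mem_centralizer_singleton_iff.2 hx.eq
  have hsq : a * a ∈ oc y ∨ a * a = z := by
    rcases M.sq_cases ha with e | e <;> rw [e]
    · exact Or.inl (one_mem _)
    · exact Or.inr rfl
  rcases h'.only a (hzC hay) haz hsq (fun b hb hfx => by
    have hbz := h'.fix b hb hfx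
    have := hB b (Subgroup.mem_inf.2 ⟨hb, mem_centralizer_singleton_iff.2 hbz.eq⟩)
    show (M.conj g).bar (a * b * a⁻¹) = (M.conj g).bar b
    rw [this.eq, mul_inv_cancel_right]) with e | e
  · exact hna e
  · refine hnaz ?_
    have h2 := inv_mem e
    rwa [mul_inv_rev, inv_inv, M.zi, ← haz.eq] at h2

theorem not_kind2' {g y : G} (e : g * z * g⁻¹ = y) (h : M.Kind2 y) (h' : (M.conj g).Kind2 z) :
    False := by
  subst e
  exact M.not_kind2 h h'

theorem no_kind3 (hF : Facts C outs) (hs : sidesOK outs = true)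
    (hr : ∀ o ∈ outs, o.2.2.2.2 ≠ 1) {g : G}
    (hy : g * z * g⁻¹ ∈ centralizer ({z} : Set G)) (hyn : g * z * g⁻¹ ∉ oc z)
    (h : M.Kind3 (g * z * g⁻¹))
    (hbig : 4 ≤ Nat.card ↥(oc (g * z * g⁻¹) ⊓ centralizer ({z} : Set G))) : False := by
  classical
  obtain ⟨k, hk, hfx, hnc⟩ := h.wit
  set y := g * z * g⁻¹ with hydef
  have hyy : y * y = 1 := (M.conj g).zz
  have hyi : y⁻¹ = y := (M.conj g).zi
  have hzn := M.z_notMem hF.covered hyn
  have hkC : k ∈ centralizer ({z} : Set G) := oc_le z hk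
  -- `k` moves `y` to `y z`
  have hkz : k * y * k⁻¹ = y * z := by
    rcases (M.bar_eq_iff (M.oc_norm hy hk) hk).1 hfx with e | e
    · exfalso
      refine hnc ?_
      rw [Commute, SemiconjBy]
      calc k * y = y * k * y⁻¹ * y := by rw [← e]
        _ = y * k := by group
    · calc k * y * k⁻¹ = y * k * y⁻¹ * z * y * k⁻¹ := by rw [← e]
        _ = y * k * y⁻¹ * (z * y) * k⁻¹ := by simp only [mul_assoc]
        _ = y * k * y⁻¹ * (y * z) * k⁻¹ := by rw [mem_centralizer_singleton_iff.1 hy]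
        _ = y * (k * z * k⁻¹) := by group
        _ = y * z := by rw [kzk hkC]
  have es : k * g * g⁻¹ * y * (k * g * g⁻¹)⁻¹ = y * z := by
    rw [show k * g * g⁻¹ = k by group]; exact hkz
  -- the intersection with the conjugate is trivial
  have h1 : ∀ b ∈ oc y ⊓ oc (y * z), b = 1 := by
    intro b hb
    have hsy : y * z ∈ centralizer ({y} : Set G) := by
      rw [mem_centralizer_singleton_iff, mul_assoc, (M.commz hy).eq.symm]
    have hsn : y * z ∉ oc y := fun e => hzn <| by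
      have := mul_mem (inv_mem (M.conj g).z_mem) e
      rwa [← hydef, inv_mul_cancel_left] at this
    obtain ⟨o, ho, hK, hK'⟩ := (M.conj g).kinds' hF hs (g := k * g * g⁻¹) (y := y * z) es hsy hsn
    have hne := hr o ho
    generalize o.2.2.2.2 = n at hK hK' hne
    match n, hne with
    | 0, _ => exact hK.elim
    | 1, hne => exact (hne rfl).elim
    | 2, _ => exact ((M.conj g).not_kind2' (y := y * z) es hK hK').elim
    | 3, _ => exact Subgroup.mem_bot.1 ((Subgroup.card_eq_one.1 hK.card) ▸ hb)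
    | n + 4, _ => exact hK.elim
  -- `B` has at most two elements
  have hcomm : ∀ b ∈ oc y ⊓ centralizer ({z} : Set G),
      k * b * k⁻¹ = b ∨ k * b * k⁻¹ = b * z := by
    intro b hb
    have hb' : b ∈ centralizer ({z} : Set G) := hb.2
    have e0 := h.fix b hb k hk hfx
    rcases (M.bar_eq_iff (M.oc_norm hb' hk) hk).1 e0 with e | e
    · left
      calc k * b * k⁻¹ = b * k * b⁻¹ * b * k⁻¹ := by rw [← e]
        _ = b := by group
    · right
      calc k * b * k⁻¹ = b * k * b⁻¹ * z * b * k⁻¹ := by rw [← e]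
        _ = b * k * b⁻¹ * (z * b) * k⁻¹ := by simp only [mul_assoc]
        _ = b * k * b⁻¹ * (b * z) * k⁻¹ := by rw [mem_centralizer_singleton_iff.1 hb']
        _ = b * (k * z * k⁻¹) := by group
        _ = b * z := by rw [kzk hkC]
  have hfixed : ∀ b ∈ oc y, k * b * k⁻¹ = b → b = 1 := fun b hb e =>
    h1 b (Subgroup.mem_inf.2 ⟨hb, by rw [← hkz, ← e]; exact conj_mem_oc hb⟩)
  set B := oc y ⊓ centralizer ({z} : Set G) with hBdef
  have htwo : ∀ b ∈ B, ∀ c ∈ B, b ≠ 1 → c ≠ 1 → b = c := by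
    intro b hb c hc hb1 hc1
    have eb := (hcomm b hb).resolve_left fun e => hb1 (hfixed b hb.1 e)
    have ec := (hcomm c hc).resolve_left fun e => hc1 (hfixed c hc.1 e)
    refine inv_mul_eq_one.1 (hfixed _ (mul_mem (inv_mem hb.1) hc.1) ?_)
    calc k * (b⁻¹ * c) * k⁻¹ = (k * b * k⁻¹)⁻¹ * (k * c * k⁻¹) := by group
      _ = z⁻¹ * (b⁻¹ * c) * z := by rw [eb, ec]; group
      _ = b⁻¹ * c := by
        have : Commute (b⁻¹ * c) z :=
          M.commz (mul_mem (inv_mem (show b ∈ centralizer ({z} : Set G) from hb.2))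
            (show c ∈ centralizer ({z} : Set G) from hc.2))
        rw [mul_assoc, this.eq, inv_mul_cancel_left]
  have : Nat.card ↥B ≤ 2 := by
    rw [← SetLike.coe_sort_coe, Nat.card_coe_set_eq]
    by_cases hex : ∃ b ∈ B, b ≠ 1
    · obtain ⟨b, hb, hb1⟩ := hex
      refine le_trans (Set.ncard_le_ncard (t := {1, b}) (fun c hc => ?_) (Set.toFinite _))
        ((Set.ncard_insert_le _ _).trans (by rw [Set.ncard_singleton]))
      by_cases hc1 : c = 1
      · exact Or.inl hc1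
      · exact Or.inr (htwo c hc b hb hc1 hb1)
    · push Not at hex
      refine le_trans (Set.ncard_le_ncard (t := {1}) (fun c hc => hex c hc) (Set.toFinite _)) ?_
      rw [Set.ncard_singleton]; omega
  omega

/-- In the configurations without natural possibility, `z` is isolated in its centraliser. -/
theorem isolated (hF : Facts C outs) (hs : sidesOK outs = true)
    (hr : ∀ o ∈ outs, o.2.2.2.2 ≠ 1) {g : G}
    (hy : g * z * g⁻¹ ∈ centralizer ({z} : Set G)) : g * z * g⁻¹ = z := by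
  by_cases hyn : g * z * g⁻¹ ∈ oc z
  · exact M.eq_z_of_mem hF.covered hyn
  exfalso
  obtain ⟨o, ho, -, hK, hK', hbig⟩ := M.kinds hF hs hy hyn
  have hne := hr o ho
  generalize o.2.2.2.2 = n at hK hK' hne
  match n, hne with
  | 0, _ => exact hK.elim
  | 1, hne => exact hne rfl
  | 2, _ => exact M.not_kind2 hK hK'
  | 3, _ => exact M.no_kind3 hF hs hr hy hyn hK hbig
  | n + 4, _ => exact hK.elim

/-- In the natural configurations both sides are transvections. -/
theorem natural (hF : Facts C outs) (hs : sidesOK outs = true)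
    (hr : ∀ o ∈ outs, o.2.2.2.2 ≠ 2 ∧ o.2.2.2.2 ≠ 3) {g : G}
    (hy : g * z * g⁻¹ ∈ centralizer ({z} : Set G)) (hyn : g * z * g⁻¹ ∉ oc z) :
    M.Kind1 (g * z * g⁻¹) ∧ (M.conj g).Kind1 z ∧
      ∃ o ∈ outs, o.2.2.2.2 = 1 ∧
        ∃ h, Gen C.gens h ∧ cmp (M.rho (g * z * g⁻¹)) h = cmp h o.1.c := by
  obtain ⟨o, ho, hc, hK, hK', -⟩ := M.kinds hF hs hy hyn
  have hne := hr o ho
  have e : o.2.2.2.2 = 1 := by
    generalize o.2.2.2.2 = n at hK hne
    match n, hne with
    | 0, _ => exact hK.elim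
    | 1, _ => rfl
    | 2, hne => exact (hne.1 rfl).elim
    | 3, hne => exact (hne.2 rfl).elim
    | n + 4, _ => exact hK.elim
  rw [e] at hK hK'
  exact ⟨hK, hK', o, ho, e, hc⟩

theorem natural' (hF : Facts C outs) (hs : sidesOK outs = true)
    (hr : ∀ o ∈ outs, o.2.2.2.2 ≠ 2 ∧ o.2.2.2.2 ≠ 3) {g y : G} (e : g * z * g⁻¹ = y)
    (hy : y ∈ centralizer ({z} : Set G)) (hyn : y ∉ oc z) :
    M.Kind1 y ∧ (M.conj g).Kind1 z := by
  subst e
  exact ⟨(M.natural hF hs hr hy hyn).1, (M.natural hF hs hr hy hyn).2.1⟩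

/-- The moved space of a transvection has four elements. -/
theorem moved_card {g : G} (h : M.Kind1 (g * z * g⁻¹)) (hC : Covered C)
    (hy : g * z * g⁻¹ ∈ centralizer ({z} : Set G)) (hyn : g * z * g⁻¹ ∉ oc z) :
    (moved (M.rho (g * z * g⁻¹))).toFinset.card = 4 := by
  classical
  rw [← h.card, ← Nat.card_eq_finsetCard]
  refine (Nat.card_congr (Equiv.ofBijective
    (fun i : ↥(oc z ⊓ oc (g * z * g⁻¹)) => (⟨M.bar i, ?_⟩ :
      ↥(moved (M.rho (g * z * g⁻¹))).toFinset)) ⟨?_, ?_⟩)).symm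
  · rw [List.mem_toFinset, M.mem_moved hy]
    exact h.I_moved i i.2
  · intro a b e
    exact Subtype.ext (M.inj_I hC hyn a.2 b.2 (congrArg Subtype.val e))
  · rintro ⟨v, hv⟩
    rw [List.mem_toFinset, M.mem_moved hy] at hv
    obtain ⟨j, hj, rfl⟩ := hv
    obtain ⟨i, hi, e⟩ := h.moved_I j hj
    exact ⟨⟨i, hi⟩, Subtype.ext e⟩

theorem moved_card' (hC : Covered C) {g y : G} (e : g * z * g⁻¹ = y) (h : M.Kind1 y)
    (hy : y ∈ centralizer ({z} : Set G)) (hyn : y ∉ oc z) :
    (moved (M.rho y)).toFinset.card = 4 := by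
  subst e
  exact M.moved_card h hC hy hyn

/-- The other members of a fibre. -/
theorem fibre_mem {g : G} (h : M.Kind1 (g * z * g⁻¹)) (hC : Covered C)
    (hy : g * z * g⁻¹ ∈ centralizer ({z} : Set G)) {i : G} (hi : i ∈ oc z ⊓ oc (g * z * g⁻¹))
    (hi1 : i ≠ 1) : ∃ j ∈ oc z, j * (g * z * g⁻¹) * j⁻¹ = g * z * g⁻¹ * (i * z) := by
  set y := g * z * g⁻¹ with hydef
  obtain ⟨j, hj, e⟩ := h.I_moved i hi
  have hyi : y⁻¹ = y := (M.conj g).zi
  refine ⟨j, hj, ?_⟩
  have e2 : y * (j * y * j⁻¹) = y * j * y⁻¹ * j⁻¹ := by rw [hyi]; group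
  rcases (M.bar_eq_iff hi.1 (mul_mem (M.oc_norm hy hj) (inv_mem hj))).1 e with e3 | e3
  · exfalso
    refine M.mul_notConj hC hi.2 hi1 (j * g) ?_
    calc j * g * z * (j * g)⁻¹ = j * y * j⁻¹ := by rw [hydef]; group
      _ = y⁻¹ * (y * (j * y * j⁻¹)) := by rw [inv_mul_cancel_left]
      _ = y * i := by rw [e2, e3, hyi]
  · calc j * y * j⁻¹ = y⁻¹ * (y * (j * y * j⁻¹)) := by rw [inv_mul_cancel_left]
      _ = y * (i * z) := by rw [e2, e3, hyi]

/-- `y z` is not conjugate to `z`. -/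
theorem mul_z_notConj (hF : Facts C outs) (hs : sidesOK outs = true)
    (hr : ∀ o ∈ outs, o.2.2.2.2 ≠ 2 ∧ o.2.2.2.2 ≠ 3) {g : G}
    (hy : g * z * g⁻¹ ∈ centralizer ({z} : Set G)) (hyn : g * z * g⁻¹ ∉ oc z) (k : G) :
    k * z * k⁻¹ ≠ g * z * g⁻¹ * z := by
  intro hs'
  set y := g * z * g⁻¹ with hydef
  set s := k * z * k⁻¹ with hsdef
  obtain ⟨hK, -, -⟩ := M.natural hF hs hr hy hyn
  have hzn := M.z_notMem hF.covered hyn
  have hsC : s ∈ centralizer ({z} : Set G) := hs' ▸ mul_mem hy M.hz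
  have hsn : s ∉ oc z := fun e => hyn <| by
    have := mul_mem e M.z_mem
    rwa [hs', mul_assoc, M.zz, mul_one] at this
  have hsz : z ∉ oc s := M.z_notMem hF.covered hsn
  obtain ⟨hKs, -, -⟩ := M.natural hF hs hr hsC hsn
  have hmv : ∀ j ∈ oc z, M.mv s j = M.mv y j := by
    intro j hj
    rw [mv, mv, hs', show y * z * j * (y * z)⁻¹ = y * (z * j * z⁻¹) * y⁻¹ by group,
      show z * j * z⁻¹ = j by rw [← (M.set.comm_z hj).eq, mul_inv_cancel_right]]
  have hor : ∀ i ∈ oc z ⊓ oc y, i ∈ oc s ∨ i * z ∈ oc s := by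
    intro i hi
    obtain ⟨j, hj, e⟩ := hK.I_moved i hi
    obtain ⟨i', hi', e'⟩ := hKs.moved_I j hj
    rcases (M.bar_eq_iff hi.1 hi'.1).1 (by rw [e', hmv j hj, e]) with e2 | e2
    · exact Or.inl (e2 ▸ hi'.2)
    · exact Or.inr (e2 ▸ hi'.2)
  have hsq : ∀ i ∈ oc z ⊓ oc y, i * i = 1 := by
    intro i hi
    rcases M.sq_cases hi.1 with e | e
    · exact e
    · exfalso
      apply hzn
      have := mul_mem (show i ∈ oc y from hi.2) (show i ∈ oc y from hi.2)
      rwa [e] at this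
  obtain ⟨i, hi, hi1, his⟩ : ∃ i ∈ oc z ⊓ oc y, i ≠ 1 ∧ i ∈ oc s := by
    classical
    have hc : (((oc z ⊓ oc y : Subgroup G) : Set G)).ncard = 4 := by
      rw [← Nat.card_coe_set_eq]; exact hK.card
    obtain ⟨a, ha, ha1⟩ := Set.exists_ne_of_one_lt_ncard (by omega) 1
      (s := ((oc z ⊓ oc y : Subgroup G) : Set G))
    obtain ⟨b, hb, hb'⟩ : ∃ b ∈ oc z ⊓ oc y, b ∉ ({1, a} : Set G) := by
      by_contra hcon
      push Not at hcon
      have := Set.ncard_le_ncard (s := ((oc z ⊓ oc y : Subgroup G) : Set G)) (t := {1, a})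
        hcon (Set.toFinite _)
      have := Set.ncard_insert_le (1 : G) {a}
      rw [Set.ncard_singleton] at this
      omega
    simp only [Set.mem_insert_iff, Set.mem_singleton_iff, not_or] at hb'
    rcases hor a ha with h | h
    · exact ⟨a, ha, ha1, h⟩
    rcases hor b hb with h2 | h2
    · exact ⟨b, hb, hb'.1, h2⟩
    refine ⟨a * b, mul_mem ha hb, fun e => hb'.2 ?_, ?_⟩
    · calc b = a * a * b := by rw [hsq a ha, one_mul]
        _ = a := by rw [mul_assoc, e, mul_one]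
    · have := mul_mem h h2
      rwa [show a * z * (b * z) = a * (z * b) * z by group, ← (M.set.comm_z hb.1).eq,
        show a * (b * z) * z = a * b * (z * z) by group, M.zz, mul_one] at this
  obtain ⟨j, -, hj⟩ := M.fibre_mem hK hF.covered hy hi hi1
  refine M.mul_notConj hF.covered (g := k) his hi1 (j * g) ?_
  calc j * g * z * (j * g)⁻¹ = j * y * j⁻¹ := by rw [hydef]; group
    _ = y * z * i := by
      rw [hj, (M.set.comm_z hi.1).eq]
      show _ = g * z * g⁻¹ * z * i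
      group
    _ = s * i := by rw [hs']

/-- A fibre consists of the element and three others. -/
theorem fibre (hF : Facts C outs) (hs : sidesOK outs = true)
    (hr : ∀ o ∈ outs, o.2.2.2.2 ≠ 2 ∧ o.2.2.2.2 ≠ 3) {g g' : G}
    (hy : g * z * g⁻¹ ∈ centralizer ({z} : Set G)) (hyn : g * z * g⁻¹ ∉ oc z)
    (hy' : g' * z * g'⁻¹ ∈ centralizer ({z} : Set G))
    (he : M.rho (g' * z * g'⁻¹) = M.rho (g * z * g⁻¹)) :
    g' * z * g'⁻¹ = g * z * g⁻¹ ∨ ∃ i ∈ oc z ⊓ oc (g * z * g⁻¹), i ≠ 1 ∧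
      g' * z * g'⁻¹ = g * z * g⁻¹ * (i * z) := by
  obtain ⟨hK, hK', -⟩ := M.natural hF hs hr hy hyn
  set y := g * z * g⁻¹ with hydef
  set y' := g' * z * g'⁻¹ with hy'def
  have hyy : y * y = 1 := (M.conj g).zz
  have hyi : y⁻¹ = y := (M.conj g).zi
  have hy'y : y' * y' = 1 := (M.conj g').zz
  obtain ⟨a, ha, hya⟩ : ∃ a ∈ oc z, y' = y * a := by
    refine ⟨y * y', ?_, by rw [← mul_assoc, hyy, one_mul]⟩
    have := (M.rho_inj hy hy').1 he.symm
    rwa [hyi] at this
  have hay : Commute a y := by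
    refine hK.fix a ha ?_
    show M.bar (y * a * y⁻¹) = M.bar a
    have e : y * a * y⁻¹ = a⁻¹ := by
      rw [hyi]
      refine eq_inv_of_mul_eq_one_left ?_
      rw [mul_assoc, ← hya, hy'y]
    rw [e, M.bar_inv ha]
  have ha2 : a * a = 1 := by
    rw [hya, show y * a * (y * a) = y * (a * y) * a by group, hay.eq,
      show y * (y * a) * a = y * y * (a * a) by group, hyy, one_mul] at hy'y
    exact hy'y
  have hai : a⁻¹ = a := inv_eq_of_mul_eq_one_right ha2
  have haz : Commute a z := M.set.comm_z ha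
  by_cases ha1 : a = 1
  · exact Or.inl (by rw [hya, ha1, mul_one])
  have hzy : z ∈ centralizer ({y} : Set G) :=
    mem_centralizer_singleton_iff.2 (mem_centralizer_singleton_iff.1 hy).symm
  have hn : a ∉ oc y := fun hay' => M.mul_notConj hF.covered hay' ha1 g' hya
  have hzn : a * z ∈ oc y := by
    by_contra hn'
    -- `a` would be a second transvection with the same subspaces
    have haC : a ∈ centralizer ({y} : Set G) := mem_centralizer_singleton_iff.2 hay.eq
    have es : g' * g⁻¹ * y * (g' * g⁻¹)⁻¹ = y' := by rw [hydef, hy'def]; group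
    have hy'C : y' ∈ centralizer ({y} : Set G) := hya ▸ mul_mem
      (mem_centralizer_singleton_iff.2 rfl) haC
    have hy'n : y' ∉ oc y := fun e => hn <| by
      have := mul_mem (M.conj g).z_mem e
      rwa [← hydef, hya, ← mul_assoc, hyy, one_mul] at this
    obtain ⟨hKy', -⟩ := (M.conj g).natural' hF hs hr (g := g' * g⁻¹) (y := y') es hy'C hy'n
    have hm := (M.conj g).moved_card' hF.covered (g := g' * g⁻¹) (y := y') es hKy' hy'C hy'n
    rw [hya, (M.conj g).rho_mul _ ((M.conj g).hz) a haC,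
      ((M.conj g).rho_ker y (M.conj g).hz).2 (M.conj g).z_mem,
      idm_cmp ((M.conj g).rho_code a)] at hm
    refine hn' ?_
    have := hK'.only a haC haz (by rw [ha2]; exact one_mem _) (fun b hb hfx => ?_) hm
    · rwa [hai] at this
    · have hbz := hK'.fix b hb hfx
      have hbC : b ∈ centralizer ({z} : Set G) := mem_centralizer_singleton_iff.2 hbz.eq
      have hmem : a * b * a⁻¹ * b⁻¹ ∈ oc y ⊓ oc z := by
        refine Subgroup.mem_inf.2 ⟨mul_mem (oc_conj_mem haC hb) (inv_mem hb), ?_⟩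
        rw [show a * b * a⁻¹ * b⁻¹ = a * (b * a⁻¹ * b⁻¹) by group]
        exact mul_mem ha (oc_conj_mem hbC (inv_mem ha))
      obtain ⟨j, hj, e⟩ := hK'.I_moved _ hmem
      exact ⟨j, hj, e⟩
  refine Or.inr ⟨a * z, Subgroup.mem_inf.2 ⟨mul_mem ha M.z_mem, hzn⟩, fun e => ?_, ?_⟩
  · refine M.mul_z_notConj hF hs hr hy hyn g' ?_
    rw [← hy'def, hya, eq_inv_of_mul_eq_one_left e, M.zi]
  · rw [hya, mul_assoc a, M.zz, mul_one]

end Mod

end Cfsg.Agent.U62Rec
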