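import Cfsg.Agent.U62Rec.Group
import Cfsg.Agent.U62Rec.Dihedral
import Cfsg.Agent.U62Rec.PointsInvol

/-!
# Products of two adjacent members

The centraliser of such a product fixes the component: a member outside commuting with the product
would give two lines with the same products, hence a common member.
-/

set_option autoImplicit false

open Cfsg Subgroup

namespace Cfsg.Agent.U62Rec

open Cfsg.Agent.LargeExtra Cfsg.Agent.ThreeTrans Cfsg.Agent.ThreeTrans.SpPSU

variable {G : Type*} [Group G]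

/-- `x` is of the second type with respect to `s`. -/
def TB (D : Set G) (s x : G) : Prop := s ∈ oc x ∧ x * s ∉ D

/-- With the finite facts on involutory maps. -/
structure Full [Finite G] (C : Cfg) (outs : List Out) (c : ℕ) (P : List ℕ) (D : Set G) (z : G)
    (W : Prop) : Prop extends Ctx C outs c P D z where
  shapes : Shapes C.gens C.l P (outs.map fun o => o.1.c) W
  bound : Nat.card ↥(centralizer ({z} : Set G)) ≤ 512 * 51840
  outer : W → Nat.card ↥(centralizer ({z} : Set G)) ≠ 512 * 25920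

theorem cent_conj_card [Finite G] (g x : G) : Nat.card ↥(centralizer ({g * x * g⁻¹} : Set G)) =
    Nat.card ↥(centralizer ({x} : Set G)) :=
  (Mod.card_conj g fun a => Mod.mem_cent_conj g x a).symm

namespace Full

variable [Finite G] {C : Cfg} {outs : List Out} {c : ℕ} {P : List ℕ} {D : Set G} {z : G} {W : Prop}
variable {a b e u v w x y g s : G}
variable (K : Full C outs c P D z W)
include K

theorem comp2_map (ha : u ∈ comp2 D a) (g : G) : g * u * g⁻¹ ∈ comp2 D (g * a * g⁻¹) := by
  refine ⟨K.env.closed g u ha.1, ?_⟩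
  have hcc : ∀ p q : G, Commute p q → Commute (g * p * g⁻¹) (g * q * g⁻¹) := fun p q h => by
    rw [Commute, SemiconjBy, conjm, conjm, h.eq]
  rcases ha.2 with rfl | h | ⟨w, hw, h⟩
  · exact Or.inl rfl
  · exact Or.inr (Or.inl (hcc _ _ h))
  · exact Or.inr (Or.inr ⟨g * w * g⁻¹, ⟨K.env.closed g w hw.1,
      fun e => hw.2.1 (mul_left_cancel (mul_right_cancel e)), hcc _ _ hw.2.2⟩, hcc _ _ h⟩)

theorem base (ha : a ∈ D) : Full C outs c P D a W := by
  obtain ⟨g, rfl⟩ := K.env.cls z K.hz a ha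
  obtain ⟨y, hy⟩ := K.nbr
  refine ⟨⟨K.nat, K.env, ha, ⟨g * y * g⁻¹, K.env.closed g y hy.1,
    fun e => hy.2.1 (mul_left_cancel (mul_right_cancel e)), ?_⟩⟩, K.shapes, ?_, ?_⟩
  · rw [Commute, SemiconjBy, conjm, conjm, hy.2.2.eq]
  · rw [cent_conj_card]; exact K.bound
  · rw [cent_conj_card]; exact K.outer

theorem self_mem : z ∈ comp2 D z := ⟨K.hz, Or.inl rfl⟩

theorem nbr_mem (hy : y ∈ dperp D z) : y ∈ comp2 D z := ⟨hy.1, Or.inr (Or.inl hy.2.2)⟩

/-- A member of the component commuting with `z y` commutes with both. -/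
theorem cent_two (hy : y ∈ dperp D z) (he : e ∈ comp2 D z) (hc : Commute e (z * y)) :
    Commute e z ∧ Commute e y := by
  have hzz := K.toCtx.mul_self K.hz
  have hyy := K.toCtx.mul_self hy.1
  have hee := K.toCtx.mul_self he.1
  have hmain : e * z * e * (e * y * e) = z * y := by
    calc e * z * e * (e * y * e) = e * (z * (e * e) * y) * e := by group
      _ = e * (z * y) * e := by rw [hee, mul_one]
      _ = z * y := by rw [hc.eq, mul_assoc, hee, mul_one]
  have hbr : ∀ d : G, d ∈ comp2 D z → ¬ Commute e d → e * d * e = d * e * d := by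
    intro d hd hnc
    have := K.toCtx.braid he hd hnc
    rw [mul_inv_eq_iff_eq_mul] at this
    rw [this, ← mul_assoc]
  by_cases hz : Commute e z
  · refine ⟨hz, ?_⟩
    rw [hz.eq, mul_assoc z e e, hee, mul_one, mul_right_inj] at hmain
    calc e * y = e * y * e * e := by rw [mul_assoc _ e e, hee, mul_one]
      _ = y * e := by rw [hmain]
  · exfalso
    by_cases hy' : Commute e y
    · rw [hy'.eq, mul_assoc y e e, hee, mul_one, mul_left_inj] at hmain
      exact hz (by
        calc e * z = e * z * e * e := by rw [mul_assoc _ e e, hee, mul_one]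
          _ = z * e := by rw [hmain])
    · rw [hbr z K.self_mem hz, hbr y (K.nbr_mem hy) hy'] at hmain
      have h2 : e * z * y * e = 1 := by
        refine mul_left_cancel (a := z) (mul_right_cancel (b := y) ?_)
        rw [mul_one, ← hmain]; group
      refine hy.2.1 ?_
      calc y = z * (z * y) := by rw [← mul_assoc, hzz, one_mul]
        _ = z * (e * (e * z * y * e) * e) := by
          rw [← mul_assoc e, ← mul_assoc e, ← mul_assoc e, hee, one_mul, mul_assoc _ e e, hee, mul_one]
        _ = z := by rw [h2, mul_one, hee, mul_one]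

/-- A pair is determined by its product. -/
theorem pair_unique (hy : y ∈ dperp D z) (he : e ∈ comp2 D z) (hc : Commute e (z * y))
    (hd : e * (z * y) ∈ D) : e = z ∨ e = y := by
  by_contra hcon
  push Not at hcon
  obtain ⟨hez, hey⟩ := K.cent_two hy he hc
  obtain ⟨M⟩ := K.env.mods z K.hz
  have hed : e ∈ dperp D z := ⟨he.1, hcon.1, hez.symm⟩
  have hdd : e * (z * y) ∈ dperp D z := by
    refine ⟨hd, fun h => hcon.2 ?_, hez.symm.mul_right ((Commute.refl z).mul_right hy.2.2)⟩
    have : e * y = 1 := by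
      rw [← mul_right_inj z, mul_one, ← mul_assoc, ← hez.eq, mul_assoc]
      exact h
    rw [eq_inv_of_mul_eq_one_left this, K.toCtx.inv_eq hy.1]
  obtain ⟨he1, -, -, hpe⟩ := K.nat.nbr K.env M K.hz hed
  obtain ⟨hy1, -, -, hpy⟩ := K.nat.nbr K.env M K.hz hy
  obtain ⟨hd1, hdn, -, hpd⟩ := K.nat.nbr K.env M K.hz hdd
  have hval : M.rho (e * (z * y)) = cmp (M.rho e) (M.rho y) := by
    rw [M.rho_mul _ he1 _ (mul_mem M.hz hy1), M.rho_mul _ M.hz _ hy1, M.rho_of_mem M.z_mem,
      idm_cmp (M.rho_code y)]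
  by_cases hpp : M.rho e = M.rho y
  · rw [hpp, (K.nat.rho_sq K.env M K.hz hy).2, M.rho_ker _ hd1] at hval
    exact hdn hval
  · exact K.shapes.noProd _ hpe _ hpy hpp ((K.nat.commute_iff K.env M K.hz hed hy).1 hey)
      (hval ▸ hpd)

theorem TB_conj (hg : Commute g s) (h : TB D s x) : TB D s (g * x * g⁻¹) := by
  have e : g * s * g⁻¹ = s := by rw [hg.eq, mul_inv_cancel_right]
  refine ⟨?_, fun h' => h.2 ?_⟩
  · have := conj_mem_oc (g := g) h.1
    rwa [e] at this
  · have h2 := K.env.closed g⁻¹ _ h'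
    conv at h2 =>
      rw [show g * x * g⁻¹ * s = g * x * g⁻¹ * (g * s * g⁻¹) by rw [e]]
    rwa [show g⁻¹ * (g * x * g⁻¹ * (g * s * g⁻¹)) * g⁻¹⁻¹ = x * s by group] at h2

theorem not_TB (hy : y ∈ dperp D z) : ¬ TB D (z * y) z := fun h => h.2 <| by
  rw [← mul_assoc, K.toCtx.mul_self K.hz, one_mul]
  exact hy.1

/-- The members of the second type are the other members of the line. -/
theorem TB_line (M : Mod C z) (hy : y ∈ dperp D z) (he : e ∈ comp2 D z) (hc : Commute e (z * y))
    (h : TB D (z * y) e) : e ∈ dperp D z ∧ M.rho e = M.rho y ∧ e ≠ y := by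
  obtain ⟨hez, hey⟩ := K.cent_two hy he hc
  have hne : e ≠ z := fun h' => K.not_TB hy (h' ▸ h)
  have hne' : e ≠ y := fun h' => h.2 <| by
    rw [h', hy.2.2.eq, ← mul_assoc, K.toCtx.mul_self hy.1, one_mul]; exact K.hz
  have hed : e ∈ dperp D z := ⟨he.1, hne, hez.symm⟩
  refine ⟨hed, ?_, hne'⟩
  obtain ⟨Me⟩ := K.env.mods e he.1
  have hz' : z ∈ dperp D e := ⟨K.hz, Ne.symm hne, hez⟩
  have hy' : y ∈ dperp D e := ⟨hy.1, Ne.symm hne', hey⟩
  obtain ⟨h1, -, -, -⟩ := K.nat.nbr K.env Me he.1 hz'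
  obtain ⟨h2, -, -, -⟩ := K.nat.nbr K.env Me he.1 hy'
  have heq : Me.rho z = Me.rho y := by
    rw [Me.rho_inj h1 h2, K.toCtx.inv_eq K.hz]
    exact h.1
  exact (K.nat.mate K.env Me he.1 hy' hz' heq (Ne.symm hy.2.1) M).symm

/-- The other members of the line are of the second type. -/
theorem line_TB (M : Mod C z) (hy : y ∈ dperp D z) (he : e ∈ dperp D z)
    (hr : M.rho e = M.rho y) (hne : e ≠ y) : TB D (z * y) e := by
  have hey : Commute e y := (K.nat.same_commute K.env M K.hz hy he hr).symm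
  refine ⟨?_, fun h => ?_⟩
  · obtain ⟨Me⟩ := K.env.mods e he.1
    have hz' : z ∈ dperp D e := K.nat.dperp_symm K.env K.hz he
    have hy' : y ∈ dperp D e := ⟨hy.1, Ne.symm hne, hey⟩
    obtain ⟨h1, -, -, -⟩ := K.nat.nbr K.env Me he.1 hz'
    obtain ⟨h2, -, -, -⟩ := K.nat.nbr K.env Me he.1 hy'
    have := (Me.rho_inj h1 h2).1 (K.nat.mate K.env M K.hz hy he hr hne Me).symm
    rwa [K.toCtx.inv_eq K.hz] at this
  · rcases K.pair_unique hy (K.nbr_mem he) (he.2.2.symm.mul_right hey) h with e' | e'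
    · exact he.2.1 e'
    · exact hne e'

theorem closure_commute (h1 : Commute a s) (h2 : Commute b s)
    (hg : g ∈ closure ({a, b} : Set G)) : Commute g s := by
  have hle : closure ({a, b} : Set G) ≤ centralizer ({s} : Set G) := by
    refine (closure_le _).2 ?_
    rintro t (rfl | rfl)
    · exact mem_centralizer_singleton_iff.2 h1.eq
    · exact mem_centralizer_singleton_iff.2 h2.eq
  exact mem_centralizer_singleton_iff.1 (hle hg)

/-- An outside member of the second type gives a member of the line and one of the first type. -/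
theorem bpair (M : Mod C z) (hy : y ∈ dperp D z) (hu : u ∈ D) (hout : u ∉ comp2 D z)
    (hc : Commute u (z * y)) (h : TB D (z * y) u) :
    ∃ w ∈ dperp D z, M.rho w = M.rho y ∧ w ≠ y ∧ Commute u (z * w) ∧ u * (z * w) ∈ D ∧
      u * (z * w) * (z * y) ∈ D ∧ Commute (u * (z * w)) (z * y) ∧
      ∃ g ∈ closure ({z, u} : Set G), g * z * g⁻¹ = u * (z * w) := by
  have hzz := K.toCtx.mul_self K.hz
  have hzs : Commute z (z * y) := (Commute.refl z).mul_right hy.2.2
  have hgs : ∀ g ∈ closure ({z, u} : Set G), Commute g (z * y) :=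
    fun g hg => K.closure_commute hzs hc hg
  have hconjz : ∀ g ∈ closure ({z, u} : Set G), g * z * g⁻¹ * (z * y) ∈ D := by
    intro g hg
    have h1 := K.env.closed g _ hy.1
    have e : g * z * g⁻¹ * (z * y) = g * y * g⁻¹ := by
      calc g * z * g⁻¹ * (z * y) = g * z * g⁻¹ * (g * (z * y) * g⁻¹) := by
            rw [(hgs g hg).eq, mul_inv_cancel_right]
        _ = g * (z * z * y) * g⁻¹ := by group
        _ = g * y * g⁻¹ := by rw [hzz, one_mul]
    rw [e]; exact h1
  rcases dihedral (a := z) (b := u) hzz (K.toCtx.mul_self hu) with ⟨g, hg, he⟩ |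
    ⟨j, hj, hj1, hjj, hjz, hju, hcase⟩
  · have := K.TB_conj (hgs g hg) h
    rw [he] at this
    exact absurd this (K.not_TB hy)
  rcases hcase with ⟨⟨g, hg, he⟩, ⟨g', hg', he'⟩⟩ | ⟨⟨g, hg, he⟩, ⟨g', hg', he'⟩⟩
  · exfalso
    have hD : z * j ∈ D := he ▸ K.env.closed g z K.hz
    have hX : z * j ∈ comp2 D z :=
      K.toCtx.near K.self_mem hD ((Commute.refl z).mul_right hjz.symm)
    have hcj : Commute (z * j) (z * y) := hzs.mul_left (hgs j hj)
    rcases K.pair_unique hy hX hcj (he ▸ hconjz g hg) with e | e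
    · exact hj1 (mul_eq_left.1 e)
    · have hjs : j = z * y := by rw [← e, ← mul_assoc, hzz, one_mul]
      refine h.2 ?_
      rw [← hjs, ← he']
      exact K.env.closed g' u hu
  · have hD : z * j ∈ D := he ▸ K.env.closed g u hu
    have hX : z * j ∈ comp2 D z :=
      K.toCtx.near K.self_mem hD ((Commute.refl z).mul_right hjz.symm)
    have hcj : Commute (z * j) (z * y) := hzs.mul_left (hgs j hj)
    obtain ⟨hw, hwr, hwy⟩ := K.TB_line M hy hX hcj (he ▸ K.TB_conj (hgs g hg) h)
    have e : z * (z * j) = j := by rw [← mul_assoc, hzz, one_mul]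
    refine ⟨z * j, hw, hwr, hwy, by rw [e]; exact hju.symm, by
      rw [e, ← he']; exact K.env.closed g' z K.hz, by rw [e, ← he']; exact hconjz g' hg', ?_,
      g', hg', by rw [e, he']⟩
    rw [e]
    exact hc.mul_left (hgs j hj)

/-- The members of a line multiply to one. -/
theorem five (M : Mod C z) (hy : y ∈ dperp D z) {b c d : G}
    (hb : b ∈ dperp D z ∧ M.rho b = M.rho y ∧ b ≠ y)
    (hc : c ∈ dperp D z ∧ M.rho c = M.rho y ∧ c ≠ y)
    (hd : d ∈ dperp D z ∧ M.rho d = M.rho y ∧ d ≠ y) (hbc : b ≠ c) (hbd : b ≠ d) (hcd : c ≠ d) :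
    z * y * b * c = d := by
  classical
  have key : ∀ e, e ∈ dperp D z ∧ M.rho e = M.rho y ∧ e ≠ y →
      ∃ i ∈ oc z ⊓ oc y, i ≠ 1 ∧ e = y * (i * z) := fun e he =>
    (K.nat.fibre_cases K.env M K.hz hy he.1 he.2.1).resolve_left he.2.2
  obtain ⟨i, hi, hi1, rfl⟩ := key b hb
  obtain ⟨j, hj, hj1, rfl⟩ := key c hc
  obtain ⟨k, hk, hk1, rfl⟩ := key d hd
  have hij : i ≠ j := fun e => hbc (by rw [e])
  have hik : i ≠ k := fun e => hbd (by rw [e])
  have hjk : j ≠ k := fun e => hcd (by rw [e])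
  have hsq : ∀ t ∈ oc z ⊓ oc y, t * t = 1 := by
    intro t ht
    rcases M.sq_cases ht.1 with e | e
    · exact e
    · exfalso
      refine K.nat.notMem_oc K.env M K.hz hy ?_
      have := mul_mem (show t ∈ oc y from ht.2) (show t ∈ oc y from ht.2)
      rwa [e] at this
  have hprod : i * j = k := by
    have hij1 : i * j ≠ 1 := fun e => hij (by
      rw [← inv_eq_of_mul_eq_one_right e, inv_eq_of_mul_eq_one_right (hsq i hi)])
    have hij2 : i * j ≠ i := fun e => hj1 (mul_eq_left.1 e)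
    have hij3 : i * j ≠ j := fun e => hi1 (mul_eq_right.1 e)
    have hset : ({1, i, j, i * j} : Finset G) ⊆
        ((oc z ⊓ oc y : Subgroup G) : Set G).toFinite.toFinset := by
      intro t ht
      simp only [Finset.mem_insert, Finset.mem_singleton] at ht
      rw [Set.Finite.mem_toFinset]
      rcases ht with rfl | rfl | rfl | rfl
      exacts [one_mem _, hi, hj, mul_mem hi hj]
    have hcard : ({1, i, j, i * j} : Finset G).card = 4 := by
      rw [Finset.card_insert_of_notMem, Finset.card_insert_of_notMem, Finset.card_pair hij3.symm]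
      · simp [hij, hij2.symm]
      · simp [hi1.symm, hj1.symm, hij1.symm]
    have heq := Finset.eq_of_subset_of_card_le hset (by
      rw [hcard, ← Set.ncard_eq_toFinset_card, ← Nat.card_coe_set_eq]
      exact ((K.nat.nbr K.env M K.hz hy).2.2.1.card).le)
    have : k ∈ ({1, i, j, i * j} : Finset G) := by
      rw [heq, Set.Finite.mem_toFinset]; exact hk
    simp only [Finset.mem_insert, Finset.mem_singleton] at this
    rcases this with e | e | e | e
    · exact absurd e hk1
    · exact absurd e.symm hik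
    · exact absurd e.symm hjk
    · exact e.symm
  have hyy := K.toCtx.mul_self hy.1
  have hyc : Commute y (j * z) :=
    (K.nat.I_commute K.env M hj).2.symm.mul_right hy.2.2.symm
  calc z * y * (y * (i * z)) * (y * (j * z))
      = z * (y * y) * (i * z) * ((y * (j * z))) := by group
    _ = z * (i * z) * (y * (j * z)) := by rw [hyy, mul_one]
    _ = z * (z * i) * (y * (j * z)) := by rw [(M.set.comm_z hi.1).eq]
    _ = i * y * (j * z) := by rw [← mul_assoc z z, M.zz, one_mul, ← mul_assoc]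
    _ = y * (i * j * z) := by rw [(K.nat.I_commute K.env M hi).2.eq]; group
    _ = y * (k * z) := by rw [hprod]

/-- A further member of a fibre. -/
theorem exists_other (M : Mod C z) (hy : y ∈ dperp D z) (S : Finset G) (hS : S.card ≤ 3) :
    ∃ e, e ∈ dperp D z ∧ M.rho e = M.rho y ∧ e ∉ S := by
  by_contra hcon
  push Not at hcon
  have h := Set.ncard_le_ncard (s := {w | w ∈ dperp D z ∧ M.rho w = M.rho y}) (t := (S : Set G))
    (fun e he => hcon e he.1 he.2) (Finset.finite_toSet _)
  rw [K.nat.fibre_card K.env M K.hz hy, Set.ncard_coe_finset] at h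
  omega

/-- No outside member of the second type. -/
theorem no_out_TB (hy : y ∈ dperp D z) (hu : u ∈ D) (hout : u ∉ comp2 D z)
    (hc : Commute u (z * y)) (h : TB D (z * y) u) : False := by
  classical
  obtain ⟨M⟩ := K.env.mods z K.hz
  have hzz := K.toCtx.mul_self K.hz
  obtain ⟨w, hw, hwr, hwy, huj, hvD, hvs, hvc, g, hg, hge⟩ := K.bpair M hy hu hout hc h
  obtain ⟨v, hv⟩ : ∃ v, v = u * (z * w) := ⟨_, rfl⟩
  rw [← hv] at hvD hvs hvc hge
  set s := z * y with hs
  set j := z * w with hj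
  have hjj : j * j = 1 := by
    rw [hj, mul_assoc, ← mul_assoc w, ← hw.2.2.eq, mul_assoc, K.toCtx.mul_self hw.1, mul_one, hzz]
  have hss : s * s = 1 := by
    rw [hs, mul_assoc, ← mul_assoc y, ← hy.2.2.eq, mul_assoc, K.toCtx.mul_self hy.1, mul_one, hzz]
  have huu := K.toCtx.mul_self hu
  have huv : Commute u v := hv ▸ (Commute.refl u).mul_right huj
  have hvne : v ≠ u := fun e => hw.2.1 <| by
    have h1 : j = 1 := mul_eq_left.1 (hv.symm.trans e)
    rw [hj, mul_eq_one_iff_eq_inv, K.toCtx.inv_eq hw.1] at h1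
    exact h1.symm
  have Kv := K.base hvD
  obtain ⟨Mv⟩ := K.env.mods v hvD
  have huX : u ∈ comp2 D v := ⟨hu, Or.inr (Or.inl huv.symm)⟩
  have hvout : v ∉ comp2 D z := fun e => hout (K.toCtx.near e hu huv.symm)
  have hvv := K.toCtx.mul_self hvD
  set v' := v * s with hv'
  have hv'd : v' ∈ dperp D v := by
    refine ⟨hvs, fun e => hy.2.1 ?_, (Commute.refl v).mul_right hvc⟩
    have h1 : s = 1 := mul_eq_left.1 e
    rw [hs, mul_eq_one_iff_eq_inv, K.toCtx.inv_eq hy.1] at h1
    exact h1.symm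
  have hsv : v * v' = s := by rw [hv', ← mul_assoc, hvv, one_mul]
  obtain ⟨hud, hur, huv'⟩ := Kv.TB_line Mv hv'd huX (by rw [hsv]; exact hc) (by rw [hsv]; exact h)
  obtain ⟨u1, hu1, hu1r, hu1n⟩ := Kv.exists_other Mv hv'd {v', u} (Finset.card_le_two.trans (by norm_num))
  simp only [Finset.mem_insert, Finset.mem_singleton, not_or] at hu1n
  obtain ⟨u2, hu2, hu2r, hu2n⟩ := Kv.exists_other Mv hv'd {v', u, u1} Finset.card_le_three
  simp only [Finset.mem_insert, Finset.mem_singleton, not_or] at hu2n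
  have hu1v' : Commute u1 v' := (K.nat.same_commute K.env Mv hvD hv'd hu1 hu1r).symm
  have hu1u : Commute u1 u := K.nat.same_commute K.env Mv hvD hu1 hud (hur.trans hu1r.symm)
  have hnotX : ∀ t, t ∈ dperp D v → t ∉ comp2 D z :=
    fun t ht e => hvout (K.toCtx.near e hvD ht.2.2.symm)
  have huj' : j = u * v := by rw [hv, ← mul_assoc, huu, one_mul]
  have hu1s : Commute u1 s := hsv ▸ hu1.2.2.symm.mul_right hu1v'
  have hu1j : Commute u1 j := huj' ▸ hu1u.mul_right hu1.2.2.symm
  have hTB1 : TB D s u1 := hsv ▸ Kv.line_TB Mv hv'd hu1 hu1r hu1n.1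
  obtain ⟨w1, hw1, hw1r, hw1y, hu1w, hv1D, hv1s, hv1c, g1, hg1, hge1⟩ :=
    K.bpair M hy hu1.1 (hnotX u1 hu1) hu1s hTB1
  obtain ⟨v1, hv1⟩ : ∃ v1, v1 = u1 * (z * w1) := ⟨_, rfl⟩
  rw [← hv1] at hv1D hv1s hv1c hge1
  have hv1X : v1 ∈ comp2 D v := by
    refine K.nat.comp2_closed K.env hvD (Kv.nbr_mem hu1) hv1D ?_
    rw [hv1]; exact (Commute.refl u1).mul_right hu1w
  -- the partner of `u1` is `v`
  have hv1v : v1 = v := by
    rcases Kv.pair_unique hv'd hv1X (by rw [hsv]; exact hv1c) (by rw [hsv]; exact hv1s) with e | e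
    · exact e
    exfalso
    have hzj : Commute z j := (Commute.refl z).mul_right hw.2.2
    have hgj : Commute g1 j := K.closure_commute hzj hu1j hg1
    have hvuj : v * u = j := by rw [huj', huv.eq]
    have hcj : Commute v1 (v * u) := by
      rw [hvuj, ← hge1]
      exact (hgj.mul_left hzj).mul_left hgj.inv_left
    have hDj : v1 * (v * u) ∈ D := by
      rw [hvuj, ← hge1]
      have := K.env.closed g1 w hw.1
      have e : g1 * z * g1⁻¹ * j = g1 * w * g1⁻¹ := by
        calc g1 * z * g1⁻¹ * j = g1 * z * g1⁻¹ * (g1 * j * g1⁻¹) := by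
              rw [hgj.eq, mul_inv_cancel_right]
          _ = g1 * (z * z * w) * g1⁻¹ := by rw [hj]; group
          _ = g1 * w * g1⁻¹ := by rw [hzz, one_mul]
      rw [e]; exact this
    rcases Kv.pair_unique hud hv1X hcj hDj with e' | e'
    · exact hv'd.2.1 (e.symm.trans e')
    · exact huv' (e'.symm.trans e)
  have hww : w ≠ w1 := by
    intro e
    refine hu1n.2 (mul_right_cancel (b := z * w) ?_)
    rw [← hj]
    exact (show u1 * j = v by rw [hj, e, ← hv1, hv1v]).trans hv
  obtain ⟨w2, hw2, hw2r, hw2n⟩ := K.exists_other M hy {y, w, w1} Finset.card_le_three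
  simp only [Finset.mem_insert, Finset.mem_singleton, not_or] at hw2n
  have e1 := K.five M hy ⟨hw, hwr, hwy⟩ ⟨hw1, hw1r, hw1y⟩ ⟨hw2, hw2r, hw2n.1⟩ hww
    (Ne.symm hw2n.2.1) (Ne.symm hw2n.2.2)
  have e2 := Kv.five Mv hv'd ⟨hud, hur, huv'⟩ ⟨hu1, hu1r, hu1n.1⟩ ⟨hu2, hu2r, hu2n.1⟩
    (Ne.symm hu1n.2) (Ne.symm hu2n.2.1) (Ne.symm hu2n.2.2)
  refine hnotX u2 hu2 ?_
  have hu' : u = v * j := by rw [hv, mul_assoc, hjj, mul_one]
  have hj1 : (z * w1) * (z * w1) = 1 := by
    rw [mul_assoc, ← mul_assoc w1, ← hw1.2.2.eq, mul_assoc, K.toCtx.mul_self hw1.1, mul_one, hzz]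
  have hu1' : u1 = v * (z * w1) := by rw [← hv1v, hv1, mul_assoc, hj1, mul_one]
  have hvj : Commute v j := by rw [huj']; exact (huv.symm.mul_right (Commute.refl v))
  have hmul : u * u1 = w * w1 := by
    rw [hu', hu1', hvj.eq, mul_assoc, ← mul_assoc v v, hvv, one_mul, hj, hw.2.2.eq, mul_assoc,
      ← mul_assoc z z, hzz, one_mul]
  have : u2 = w2 := by
    rw [← e1, ← e2, hsv, hs, mul_assoc _ u, hmul, ← mul_assoc]
  rw [this]
  exact K.nbr_mem hw2

/-- No outside member of the first type. -/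
theorem no_out_TA (hy : y ∈ dperp D z) (hu : u ∈ D) (hout : u ∉ comp2 D z)
    (hc : Commute u (z * y)) (h : u * (z * y) ∈ D) : False := by
  classical
  have Ku := K.base hu
  obtain ⟨Mu⟩ := K.env.mods u hu
  have huu := K.toCtx.mul_self hu
  have hvd : u * (z * y) ∈ dperp D u := by
    refine ⟨h, fun e => hy.2.1 ?_, (Commute.refl u).mul_right hc⟩
    have h1 := mul_eq_left.1 e
    rw [mul_eq_one_iff_eq_inv, K.toCtx.inv_eq hy.1] at h1
    exact h1.symm
  obtain ⟨w, hw, hwr, hwn⟩ := Ku.exists_other Mu hvd {u * (z * y)} (by simp)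
  simp only [Finset.mem_singleton] at hwn
  have hTB := Ku.line_TB Mu hvd hw hwr hwn
  have hwv : Commute w (u * (z * y)) := (K.nat.same_commute K.env Mu hu hvd hw hwr).symm
  have hws : Commute w (u * (u * (z * y))) := hw.2.2.symm.mul_right hwv
  rw [← mul_assoc u u, huu, one_mul] at hTB hws
  exact K.no_out_TB hy hw.1 (fun e => hout (K.toCtx.near e hu hw.2.2.symm)) hws hTB

/-- What centralises a pair product fixes the component. -/
theorem cent_pair (ha : a ∈ comp2 D z) (hb : b ∈ dperp D a) (hg : Commute g (a * b))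
    (hx : x ∈ comp2 D z) : g * x * g⁻¹ ∈ comp2 D z := by
  have Ka := K.base ha.1
  have hX := K.toCtx.comp2_eq ha
  have hzz := K.toCtx.mul_self ha.1
  have hs : Commute a (a * b) := (Commute.refl a).mul_right hb.2.2
  have hin : g * a * g⁻¹ ∈ comp2 D a := by
    by_contra hout
    refine Ka.no_out_TA hb (K.env.closed g a ha.1) hout ((hg.mul_left hs).mul_left hg.inv_left) ?_
    have := K.env.closed g b hb.1
    have e : g * a * g⁻¹ * (a * b) = g * b * g⁻¹ := by
      calc g * a * g⁻¹ * (a * b) = g * a * g⁻¹ * (g * (a * b) * g⁻¹) := by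
            rw [hg.eq, mul_inv_cancel_right]
        _ = g * (a * a * b) * g⁻¹ := by group
        _ = g * b * g⁻¹ := by rw [hzz, one_mul]
    rw [e]; exact this
  have h := K.comp2_map (show x ∈ comp2 D a by rw [hX]; exact hx) g
  rwa [K.toCtx.comp2_eq (show g * a * g⁻¹ ∈ comp2 D z by rw [← hX]; exact hin)] at h

end Full

end Cfsg.Agent.U62Rec
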