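import Cfsg.Agent.U62Rec.Planes

/-!
# Facts about one eigenspace

Distinct eigenspaces are orthogonal, a plane carries the anisotropic form, and involutions normalising
it are determined by one fixed vector.
-/

set_option autoImplicit false
set_option maxRecDepth 100000

namespace Cfsg.Agent.U62Rec

namespace Act3

variable {Q : Type*} [Group Q] {V : Type*} [AddCommGroup V] {R : Rep Q V} {d : Fin 4 → Q}
  {s : Fin 3 → Q} {u : Q} (A : Act3 R d s u)

/-- The exponents of the four elements. -/
def ev : Fin 4 → Ex := ![eu 0, eu 1, eu 2, fun _ => -1]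

include A

theorem el_ev (i : Fin 4) : el d (ev i) = d i := by
  fin_cases i
  · exact el_eu 0
  · exact el_eu 1
  · exact el_eu 2
  · exact A.el_d3

theorem act_eq {a x y : Ex} {v : V} (hv : v ∈ piece R d a) (h : dot a x = dot a y) :
    R.act (el d x) v = R.act (el d y) v := by
  have e : dot a (x - y) = 0 := by
    have e' : dot a (x - y) = dot a x - dot a y := by simp [dot]; ring
    rw [e', h, sub_self]
  rw [show x = y + (x - y) by abel, A.act_el_add, (hv _).1 e]

theorem d_eq {a : Ex} {v : V} (hv : v ∈ piece R d a) {i j : Fin 4} (h : dot a (ev i) = dot a (ev j)) :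
    R.act (d i) v = R.act (d j) v := by
  rw [← A.el_ev i, ← A.el_ev j]; exact A.act_eq hv h

theorem d_fix {a : Ex} {v : V} (hv : v ∈ piece R d a) {i : Fin 4} (h : dot a (ev i) = 0) :
    R.act (d i) v = v := by
  rw [← A.el_ev i]; exact (hv _).1 h

theorem d_moved {a : Ex} {v : V} (hv : v ∈ piece R d a) {i : Fin 4} (h : dot a (ev i) ≠ 0) :
    R.F (d i) v = 0 := by
  rw [← A.el_ev i]; exact (hv _).2 h

theorem d_inv {a : Ex} {v : V} (hv : v ∈ piece R d a) {i j : Fin 4}
    (h : dot a (ev i) + dot a (ev i) = dot a (ev j)) :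
    R.act (d j) v = R.act (d i) (R.act (d i) v) := by
  rw [← A.el_ev i, ← A.el_ev j, ← A.act_el_add]
  refine A.act_eq hv ?_
  rw [← h]; simp [dot]; ring

theorem act_el_mem {a : Ex} {v : V} (hv : v ∈ piece R d a) (t : Ex) :
    R.act (el d t) v ∈ piece R d a := fun x =>
  ⟨fun hx => by rw [R.act_comm (A.el_comm _ _), (hv x).1 hx],
    fun hx => by rw [R.F_act (A.el_comm _ _), (hv x).2 hx, R.act_zero]⟩

theorem act_d_mem {a : Ex} {v : V} (hv : v ∈ piece R d a) (i : Fin 4) :
    R.act (d i) v ∈ piece R d a := by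
  rw [← A.el_ev i]; exact A.act_el_mem hv _

/-- Different eigenspaces are orthogonal. -/
theorem sep {i j : Fin 14} (hij : i ≠ j) {v x : V} (hv : v ∈ piece R d (chr i))
    (hx : x ∈ piece R d (chr j)) : R.B v x = false := by
  have key : ∀ i j : Fin 14, i ≠ j →
      (∃ t, dot (chr i) t = 0 ∧ dot (chr j) t ≠ 0) ∨ ∃ t, dot (chr j) t = 0 ∧ dot (chr i) t ≠ 0 := by
    decide +kernel
  rcases key i j hij with ⟨t, h1, h2⟩ | ⟨t, h1, h2⟩
  · exact R.orth ((hv t).1 h1) ((hx t).2 h2)
  · rw [R.B_comm]; exact R.orth ((hx t).1 h1) ((hv t).2 h2)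

/-- Each nonzero vector of an eigenspace has a partner there. -/
theorem exists_partner {i : Fin 14} {v : V} (hv : v ∈ piece R d (chr i)) (hv0 : v ≠ 0) :
    ∃ w ∈ piece R d (chr i), R.B v w = true := by
  obtain ⟨x, hx⟩ := R.B_nondeg v hv0
  obtain ⟨g, rfl⟩ := A.sumMap_bijective.2 x
  refine ⟨g i, (g i).2, ?_⟩
  have hsum : ∀ S : Finset (Fin 14), i ∉ S → R.B v (∑ j ∈ S, (g j : V)) = false := by
    intro S
    induction S using Finset.induction_on with
    | empty => intro _; rw [Finset.sum_empty, R.B_comm, R.B_zero]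
    | @insert a S ha ih =>
      intro hS
      rw [Finset.mem_insert, not_or] at hS
      rw [Finset.sum_insert ha, R.B_add', A.sep hS.1 hv (g a).2, ih hS.2]
      rfl
  rw [sumMap, ← Finset.add_sum_erase _ _ (Finset.mem_univ i), R.B_add',
    hsum _ (Finset.notMem_erase _ _), Bool.xor_false] at hx
  exact hx

/-- A plane with an element moving it. -/
structure Plane (R : Rep Q V) (d : Fin 4 → Q) (i : Fin 14) (o : Fin 4) : Prop where
  ne : i ≠ 0
  card : Nat.card ↥(piece R d (chr i)) = 4
  moved : dot (chr i) (ev o) ≠ 0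

variable {i : Fin 14} {o : Fin 4} (P : Plane R d i o) {v : V} (hv : v ∈ piece R d (chr i))
  (hv0 : v ≠ 0)
include P

omit hv hv0 in
theorem exists_ne_zero : ∃ w ∈ piece R d (chr i), w ≠ 0 := by
  by_contra h
  push Not at h
  have hc := P.card
  rw [(AddSubgroup.eq_bot_iff_forall _).2 h, AddSubgroup.card_bot] at hc
  omega

include hv hv0

theorem twice : R.act (d o) (R.act (d o) v) = v + R.act (d o) v := by
  have hF := A.d_moved hv P.moved
  rw [Rep.F, add_eq_zero_iff_eq_neg, R.neg_eq] at hF
  exact hF.symm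

theorem moved_ne : R.act (d o) v ≠ v := fun e => hv0 (by
  rw [← R.F_of_fix e, A.d_moved hv P.moved])

theorem act_ne_zero : R.act (d o) v ≠ 0 := fun e =>
  hv0 (R.act_inj _ (e.trans (R.act_zero _).symm))

theorem cases4 {w : V} (hw : w ∈ piece R d (chr i)) :
    w = 0 ∨ w = v ∨ w = R.act (d o) v ∨ w = v + R.act (d o) v := by
  classical
  have hVf : Finite V := Nat.finite_of_card_ne_zero (by rw [R.card]; norm_num)
  set y := R.act (d o) v
  have hy := A.act_d_mem hv o
  have hyv : y ≠ v := A.moved_ne P hv hv0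
  have hy0 : y ≠ 0 := A.act_ne_zero P hv hv0
  have hs : v + y ≠ 0 := fun e => hyv (by
    rw [add_eq_zero_iff_eq_neg, R.neg_eq] at e; exact e.symm)
  have h1 : v + y ≠ v := fun e => hy0 (by simpa using e)
  have h2 : v + y ≠ y := fun e => hv0 (by simpa using e)
  have hsub : ({0, v, y, v + y} : Set V) ⊆ piece R d (chr i) := by
    rintro x (rfl | rfl | rfl | rfl)
    exacts [AddSubgroup.zero_mem _, hv, hy, AddSubgroup.add_mem _ hv hy]
  have hcard : ({0, v, y, v + y} : Set V).ncard = 4 := by
    rw [Set.ncard_insert_of_notMem (by simp [hv0.symm, hy0.symm, hs.symm]),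
      Set.ncard_insert_of_notMem (by simp [hyv.symm, h1.symm]), Set.ncard_pair h2.symm]
  have heq := Set.eq_of_subset_of_ncard_le hsub (by
    rw [hcard, ← Nat.card_coe_set_eq]; exact P.card.le) (Set.toFinite _)
  have : w ∈ ({0, v, y, v + y} : Set V) := heq ▸ hw
  simpa using this

theorem B_self_act : R.B v (R.act (d o) v) = true := by
  obtain ⟨w, hw, h⟩ := A.exists_partner hv hv0
  rcases A.cases4 P hv hv0 hw with rfl | rfl | rfl | rfl
  · rw [R.B_comm, R.B_zero] at h; cases h
  · rw [R.B_self] at h; cases h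
  · exact h
  · rwa [R.B_add', R.B_self, Bool.false_xor] at h

theorem q_true : R.q v = true := by
  have h := R.q_act (d o) (R.act (d o) v)
  rw [A.twice P hv hv0, R.q_add, R.q_act, A.B_self_act P hv hv0] at h
  simpa using h

omit v hv hv0 in
/-- An involution commuting with the mover on the plane is the identity there. -/
theorem invol_id {x : Q} {v : V} (hv : v ∈ piece R d (chr i))
    (hm : ∀ w ∈ piece R d (chr i), R.act x w ∈ piece R d (chr i))
    (hsq : ∀ w ∈ piece R d (chr i), R.act x (R.act x w) = w)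
    (hc : ∀ w ∈ piece R d (chr i), R.act x (R.act (d o) w) = R.act (d o) (R.act x w)) :
    R.act x v = v := by
  by_cases hv0 : v = 0
  · rw [hv0, R.act_zero]
  have h2 := A.twice P hv hv0
  rcases A.cases4 P hv hv0 (hm v hv) with h | h | h | h
  · exact absurd (R.act_inj x (h.trans (R.act_zero x).symm)) hv0
  · exact h
  · exfalso
    have := hsq v hv
    rw [h, hc v hv, h, h2] at this
    exact A.act_ne_zero P hv hv0 (by simpa using this)
  · exfalso
    have := hsq v hv
    rw [h, R.act_add, h, hc v hv, h, R.act_add, h2] at this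
    have e : v + R.act (d o) v + (R.act (d o) v + (v + R.act (d o) v)) =
        R.act (d o) v + (v + v) + (R.act (d o) v + R.act (d o) v) := by abel
    rw [e, R.two, R.two, add_zero, add_zero] at this
    exact A.moved_ne P hv hv0 this

omit v hv hv0 in
/-- An involution normalising the plane fixes a nonzero vector. -/
theorem exists_fixed {x : Q}
    (hm : ∀ w ∈ piece R d (chr i), R.act x w ∈ piece R d (chr i))
    (hsq : ∀ w ∈ piece R d (chr i), R.act x (R.act x w) = w) :
    ∃ w ∈ piece R d (chr i), w ≠ 0 ∧ R.act x w = w := by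
  obtain ⟨v, hv, hv0⟩ := A.exists_ne_zero P
  by_cases h : v + R.act x v = 0
  · rw [add_eq_zero_iff_eq_neg, R.neg_eq] at h
    exact ⟨v, hv, hv0, h.symm⟩
  · exact ⟨_, AddSubgroup.add_mem _ hv (hm v hv), h, by
      rw [R.act_add, hsq v hv, add_comm]⟩

end Act3

end Cfsg.Agent.U62Rec
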