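import Cfsg.Agent.U62Rec.Sp43

/-!
# The eigenspaces of an elementary abelian group of order 27

A space of 256 vectors over the field of two elements with a quadratic form and an action in which
three commuting elements of order 3, their product's inverse and three involutions permuting them
occur: either four planes fill the space or three planes and a fixed plane do.
-/

set_option autoImplicit false
set_option maxRecDepth 100000
set_option maxHeartbeats 1000000

namespace Cfsg.Agent.U62Rec

/-- A space with a quadratic form and an action. -/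
structure Rep (Q : Type*) [Group Q] (V : Type*) [AddCommGroup V] where
  act : Q → V → V
  act_one : ∀ v, act 1 v = v
  act_mul : ∀ x y v, act (x * y) v = act x (act y v)
  act_add : ∀ x v w, act x (v + w) = act x v + act x w
  B : V → V → Bool
  q : V → Bool
  B_act : ∀ x v w, B (act x v) (act x w) = B v w
  q_act : ∀ x v, q (act x v) = q v
  B_add : ∀ a b c, B (a + b) c = (B a c ^^ B b c)
  B_comm : ∀ a b, B a b = B b a
  B_self : ∀ a, B a a = false
  B_nondeg : ∀ v, v ≠ 0 → ∃ w, B v w = true
  q_add : ∀ a b, q (a + b) = (q a ^^ q b ^^ B a b)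
  two : ∀ v : V, v + v = 0
  faith : ∀ x, (∀ v, act x v = v) → x = 1
  card : Nat.card V = 256

namespace Rep

variable {Q : Type*} [Group Q] {V : Type*} [AddCommGroup V] (R : Rep Q V)

/-- The sum over the powers of an element of order 3. -/
def F (x : Q) (v : V) : V := v + R.act x v + R.act x (R.act x v)

theorem act_zero (x : Q) : R.act x 0 = 0 := by
  have h := R.act_add x 0 0
  rw [add_zero] at h
  simpa using h

include R in
theorem neg_eq (v : V) : -v = v := neg_eq_of_add_eq_zero_left (R.two v)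

theorem act_inv_act (x : Q) (v : V) : R.act x⁻¹ (R.act x v) = v := by
  rw [← R.act_mul, inv_mul_cancel, R.act_one]

theorem act_inj (x : Q) : Function.Injective (R.act x) :=
  Function.LeftInverse.injective (R.act_inv_act x)

theorem act_comm {x y : Q} (h : Commute x y) (v : V) : R.act x (R.act y v) = R.act y (R.act x v) := by
  rw [← R.act_mul, h.eq, R.act_mul]

theorem B_zero (w : V) : R.B 0 w = false := by
  have h := R.B_add 0 0 w
  rw [add_zero, Bool.xor_self] at h
  exact h

theorem B_add' (a b c : V) : R.B a (b + c) = (R.B a b ^^ R.B a c) := by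
  rw [R.B_comm, R.B_add, R.B_comm b, R.B_comm c]

theorem F_add (x : Q) (v w : V) : R.F x (v + w) = R.F x v + R.F x w := by
  simp only [F, R.act_add]; abel

theorem F_zero (x : Q) : R.F x 0 = 0 := by simp [F, R.act_zero]

theorem F_of_fix {x : Q} {v : V} (h : R.act x v = v) : R.F x v = v := by
  rw [F, h, h, R.two, zero_add]

theorem act_F {x : Q} (h3 : x * x * x = 1) (v : V) : R.act x (R.F x v) = R.F x v := by
  have e : R.act x (R.act x (R.act x v)) = v := by rw [← R.act_mul, ← R.act_mul, h3, R.act_one]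
  rw [F, R.act_add, R.act_add, e]
  abel

theorem F_act {x y : Q} (h : Commute x y) (v : V) : R.F x (R.act y v) = R.act y (R.F x v) := by
  simp only [F, R.act_add, R.act_comm h]

theorem F_F {x y : Q} (h : Commute x y) (v : V) : R.F x (R.F y v) = R.F y (R.F x v) := by
  conv_lhs => rw [show R.F y v = v + R.act y v + R.act y (R.act y v) from rfl]
  rw [R.F_add, R.F_add, R.F_act h, R.F_act h, R.F_act h]
  rfl

/-- If two commuting elements move a pure vector, then a product fixes it. -/
theorem fix_or {d e : Q} (hc : Commute d e) (he : e * e * e = 1) {v : V} (hv : v ≠ 0)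
    (he0 : R.F e v = 0) (hd0 : R.F d v = 0)
    (h1 : R.act (d * e) v = v ∨ R.F (d * e) v = 0)
    (h2 : R.act (d * e * e) v = v ∨ R.F (d * e * e) v = 0) :
    R.act (d * e) v = v ∨ R.act (d * e * e) v = v := by
  by_contra hcon
  rw [not_or] at hcon
  have key : R.F d v + R.F e v + R.F (d * e) v + R.F (d * e * e) v =
      R.F d (R.F e v) + v + (v + v) := by
    have e4 : ∀ w, R.act e (R.act e (R.act e w)) = w := fun w => by
      rw [← R.act_mul, ← R.act_mul, he, R.act_one]
    have cm : ∀ w, R.act e (R.act d w) = R.act d (R.act e w) := fun w => (R.act_comm hc w).symm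
    simp only [F, R.act_mul, R.act_add, cm, e4]
    abel
  rw [hd0, he0, h1.resolve_left hcon.1, h2.resolve_left hcon.2, R.F_zero, zero_add, R.two,
    add_zero] at key
  exact hv (by simpa [R.two] using key.symm)

/-- Fixed and moved vectors are orthogonal. -/
theorem orth {x : Q} {v w : V} (hv : R.act x v = v) (hw : R.F x w = 0) : R.B v w = false := by
  have e1 : R.B v (R.act x w) = R.B v w := by
    conv_lhs => rw [← hv]
    exact R.B_act x v w
  have e2 : R.B v (R.act x (R.act x w)) = R.B v w := by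
    conv_lhs => rw [← hv]
    rw [R.B_act, e1]
  have h := congrArg (R.B v) hw
  rw [F, R.B_add', R.B_add', e1, e2, R.B_comm v 0, R.B_zero] at h
  simpa using h

theorem pure_induct (L : List Q) (hcube : ∀ g ∈ L, g * g * g = 1)
    (hcomm : ∀ g ∈ L, ∀ h ∈ L, Commute g h) (S : AddSubgroup V)
    (h : ∀ v, (∀ g ∈ L, R.act g v = v ∨ R.F g v = 0) → v ∈ S) : ∀ v, v ∈ S := by
  induction L with
  | nil => exact fun v => h v (by simp)
  | cons g L ih =>
    refine ih (fun a ha => hcube a (by simp [ha]))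
      (fun a ha b hb => hcomm a (by simp [ha]) b (by simp [hb])) fun v hv => ?_
    have hg3 := hcube g (by simp)
    have hfix : R.act g (R.F g v) = R.F g v := R.act_F hg3 v
    have hsplit : v = R.F g v + (v + R.F g v) := by
      rw [add_left_comm, R.two, add_zero]
    rw [hsplit]
    refine S.add_mem (h _ fun a ha => ?_) (h _ fun a ha => ?_)
    · rcases List.mem_cons.1 ha with rfl | haL
      · exact Or.inl hfix
      · have hc : Commute a g := hcomm a (by simp [haL]) g (by simp)
        rcases hv a haL with e | e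
        · exact Or.inl (by rw [← R.F_act hc.symm, e])
        · exact Or.inr (by rw [R.F_F hc, e, R.F_zero])
    · rcases List.mem_cons.1 ha with rfl | haL
      · exact Or.inr (by rw [R.F_add, R.F_of_fix hfix, R.two])
      · have hc : Commute a g := hcomm a (by simp [haL]) g (by simp)
        rcases hv a haL with e | e
        · exact Or.inl (by rw [R.act_add, ← R.F_act hc.symm, e])
        · exact Or.inr (by rw [R.F_add, R.F_F hc, e, R.F_zero, add_zero])

end Rep

open Sp43

/-- Exponents. -/
abbrev Ex := Fin 3 → ZMod 3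

/-- The pairing of exponents. -/
def dot (a t : Ex) : ZMod 3 := a 0 * t 0 + a 1 * t 1 + a 2 * t 2

/-- A unit exponent. -/
def eu (i : Fin 3) : Ex := fun j => if j = i then 1 else 0

/-- The permutations of exponents induced by the three involutions. -/
def sig (k : Fin 3) (t : Ex) : Ex :=
  ![![t 1, t 0, t 2], ![t 0, t 2, t 1], ![t 0 - t 2, t 1 - t 2, -t 2]] k

/-- The characters up to sign: trivial, fixing one, fixing none, fixing two. -/
def chr : Fin 14 → Ex :=
  ![![0, 0, 0], ![0, 1, 1], ![1, 0, 1], ![1, 1, 0], ![1, 1, 1],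
    ![1, 1, -1], ![1, -1, 1], ![1, -1, -1],
    ![1, -1, 0], ![1, 0, -1], ![0, 1, -1], ![1, 0, 0], ![0, 1, 0], ![0, 0, 1]]

theorem chr_all : ∀ a : Ex, ∃ i, ∀ t, dot a t = 0 ↔ dot (chr i) t = 0 := by decide +kernel

/-- Kernel bases and an outside exponent. -/
def kb : Fin 14 → Ex × Ex × Ex :=
  ![(eu 0, eu 1, eu 2), (eu 0, ![0, 1, -1], eu 1), (eu 1, ![1, 0, -1], eu 0),
    (eu 2, ![1, -1, 0], eu 0), (![1, -1, 0], ![0, 1, -1], eu 0),
    (![1, -1, 0], ![0, 1, 1], eu 0), (![1, 1, 0], ![1, 0, -1], eu 0), (![1, 1, 0], ![1, 0, 1], eu 0),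
    (eu 2, ![1, 1, 0], eu 0), (eu 1, ![1, 0, 1], eu 0), (eu 0, ![0, 1, 1], eu 1),
    (eu 1, eu 2, eu 0), (eu 0, eu 2, eu 1), (eu 0, eu 1, eu 2)]

theorem sig_sig : ∀ k t, sig k (sig k t) = t := by decide +kernel

theorem sig_zero : ∀ k, sig k 0 = 0 := by decide +kernel

theorem kb_ok : ∀ i : Fin 14, i ≠ 0 → dot (chr i) (kb i).1 = 0 ∧ dot (chr i) (kb i).2.1 = 0 ∧
    dot (chr i) (kb i).2.2 ≠ 0 ∧ ∀ j : Fin 14, j ≠ i →
      dot (chr j) (kb i).1 ≠ 0 ∨ dot (chr j) (kb i).2.1 ≠ 0 ∨ j = 0 := by decide +kernel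

theorem cards_of (c : Fin 14 → ℕ) (L L' : List (Fin 14)) (hL : ∀ i, i ∈ L ∨ i ∈ L')
    (h1 : ∀ i ∈ L, c i = 4) (h2 : ∀ i ∈ L', c i = 1) :
    (∀ i : Fin 14, i ∈ L → c i = 4) ∧ ∀ i : Fin 14, i ∉ L → c i = 1 :=
  ⟨h1, fun i hi => h2 i ((hL i).resolve_left hi)⟩

/-- The relations in a group acting on a space. -/
structure Act3 {Q : Type*} [Group Q] {V : Type*} [AddCommGroup V] (R : Rep Q V)
    (d : Fin 4 → Q) (s : Fin 3 → Q) (u : Q) : Prop where
  rels : Rels d s u

namespace Act3

variable {Q : Type*} [Group Q] {V : Type*} [AddCommGroup V] {R : Rep Q V} {d : Fin 4 → Q}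
  {s : Fin 3 → Q} {u : Q} (A : Act3 R d s u)
include A

omit A in
/-- The element with given exponents. -/
def el (d : Fin 4 → Q) (t : Ex) : Q := d 0 ^ (t 0).val * d 1 ^ (t 1).val * d 2 ^ (t 2).val

theorem el_add (x y : Ex) : el d (x + y) = el d x * el d y := by
  have hp : ∀ i (a b : ZMod 3), d i ^ (a + b).val = d i ^ a.val * d i ^ b.val := by
    intro i a b
    rw [← pow_add, ZMod.val_add, ← pow_eq_pow_mod]
    rw [pow_succ, pow_two]; exact A.rels.d_cube i
  have c : ∀ i j (m n : ℕ), Commute (d i ^ m) (d j ^ n) := fun i j m n =>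
    (show Commute (d i) (d j) from A.rels.d_comm i j).pow_pow m n
  simp only [el, Pi.add_apply, hp]
  set a0 := d 0 ^ (x 0).val
  set b0 := d 0 ^ (y 0).val
  set a1 := d 1 ^ (x 1).val
  set b1 := d 1 ^ (y 1).val
  set a2 := d 2 ^ (x 2).val
  set b2 := d 2 ^ (y 2).val
  have h1 : Commute b0 a1 := c _ _ _ _
  have h2 : Commute b0 a2 := c _ _ _ _
  have h3 : Commute b1 a2 := c _ _ _ _
  calc a0 * b0 * (a1 * b1) * (a2 * b2) = a0 * (b0 * a1) * (b1 * a2) * b2 := by group
    _ = a0 * a1 * (b0 * a2) * b1 * b2 := by rw [h1.eq, h3.eq]; group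
    _ = a0 * a1 * a2 * (b0 * b1 * b2) := by rw [h2.eq]; group

omit A in
theorem el_zero : el d 0 = 1 := by simp [el]

omit A in
theorem el_eu : ∀ i : Fin 3, el d (eu i) = d i.castSucc := by
  intro i
  fin_cases i <;> simp [el, eu, ZMod.val_one]

theorem el_comm (x y : Ex) : Commute (el d x) (el d y) := by
  show _ = _
  rw [← A.el_add, ← A.el_add, add_comm]

theorem el_cube (x : Ex) : el d x * el d x * el d x = 1 := by
  have e : x + x + x = 0 := by
    revert x; decide
  rw [← A.el_add, ← A.el_add, e, el_zero]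

theorem el_d3 : el d (fun _ => -1) = d 3 := by
  have e : el d (fun _ => (1 : ZMod 3)) = d 0 * d 1 * d 2 := by simp [el, ZMod.val_one]
  have h1 : el d (fun _ => -1) * el d (fun _ => (1 : ZMod 3)) = 1 := by
    rw [← A.el_add, ← el_zero (d := d)]; congr 1
  rw [eq_inv_of_mul_eq_one_left h1, e]
  exact inv_eq_of_mul_eq_one_right A.rels.d_prod

theorem act_el_add (x y : Ex) (v : V) :
    R.act (el d (x + y)) v = R.act (el d x) (R.act (el d y) v) := by
  rw [A.el_add, R.act_mul]

/-- The eigenspace of a character. -/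
def Inp (R : Rep Q V) (d : Fin 4 → Q) (a : Ex) (v : V) : Prop :=
  ∀ t, (dot a t = 0 → R.act (el d t) v = v) ∧ (dot a t ≠ 0 → R.F (el d t) v = 0)

omit A in
/-- The eigenspace as a subgroup. -/
def piece (R : Rep Q V) (d : Fin 4 → Q) (a : Ex) : AddSubgroup V where
  carrier := {v | Inp R d a v}
  zero_mem' t := ⟨fun _ => R.act_zero _, fun _ => R.F_zero _⟩
  add_mem' hv hw t := ⟨fun h => by rw [R.act_add, (hv t).1 h, (hw t).1 h],
    fun h => by rw [R.F_add, (hv t).2 h, (hw t).2 h, add_zero]⟩
  neg_mem' hv := by rw [R.neg_eq]; exact hv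

omit A in
theorem mem_piece {a : Ex} {v : V} : v ∈ piece R d a ↔ Inp R d a v := Iff.rfl

/-- A pure vector lies in an eigenspace. -/
theorem pure_mem {v : V} (hp : ∀ t, R.act (el d t) v = v ∨ R.F (el d t) v = 0) :
    ∃ i, v ∈ piece R d (chr i) := by
  by_cases hv : v = 0
  · exact ⟨0, hv ▸ AddSubgroup.zero_mem _⟩
  by_cases hall : ∀ t, R.act (el d t) v = v
  · exact ⟨0, fun t => ⟨fun _ => hall t, fun h => absurd (by revert t; decide) h⟩⟩
  push Not at hall
  obtain ⟨t0, ht0⟩ := hall
  have hF0 := (hp t0).resolve_left ht0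
  have hex : ∀ i, ∃ c : ZMod 3, R.act (el d (eu i)) v = R.act (el d (c • t0)) v := by
    intro i
    rcases hp (eu i) with e | e
    · exact ⟨0, by rw [zero_smul, el_zero, R.act_one, e]⟩
    have hor := R.fix_or (A.el_comm (eu i) t0) (A.el_cube t0) hv hF0 e
      (by rw [← A.el_add]; exact hp _) (by rw [← A.el_add, ← A.el_add]; exact hp _)
    rw [← A.el_add, ← A.el_add] at hor
    rcases hor with h | h
    · refine ⟨2, ?_⟩
      have e2 : eu i = (2 : ZMod 3) • t0 + (eu i + t0) :=
        (by decide : ∀ x y : Ex, x = (2 : ZMod 3) • y + (x + y)) _ _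
      conv_lhs => rw [e2, A.act_el_add, h]
    · refine ⟨1, ?_⟩
      have e2 : eu i = (1 : ZMod 3) • t0 + (eu i + t0 + t0) :=
        (by decide : ∀ x y : Ex, x = (1 : ZMod 3) • y + (x + y + y)) _ _
      conv_lhs => rw [e2, A.act_el_add, h]
  choose c hc using hex
  set a : Ex := c with ha
  have key : ∀ t, R.act (el d t) v = R.act (el d (dot a t • t0)) v := by
    let T : AddSubmonoid Ex :=
      { carrier := {t | R.act (el d t) v = R.act (el d (dot a t • t0)) v}
        zero_mem' := by simp [dot]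
        add_mem' := fun {x y} hx hy => by
          show R.act (el d (x + y)) v = _
          rw [A.act_el_add, hy, R.act_comm (A.el_comm _ _), hx, ← A.act_el_add, ← add_smul,
            show dot a y + dot a x = dot a (x + y) by simp [dot]; ring] }
    have hu : ∀ i, eu i ∈ T := fun i => by
      show _ = _
      rw [hc i, show dot a (eu i) = c i by fin_cases i <;> simp [dot, eu, ha]]
    intro t
    have hn : ∀ (n : ℕ) i, n • eu i ∈ T := fun n i => T.nsmul_mem (hu i) n
    have et : t = (t 0).val • eu 0 + (t 1).val • eu 1 + (t 2).val • eu 2 := by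
      revert t; decide
    have := T.add_mem (T.add_mem (hn (t 0).val 0) (hn (t 1).val 1)) (hn (t 2).val 2)
    rw [← et] at this
    exact this
  obtain ⟨i, hi⟩ := chr_all a
  refine ⟨i, fun t => ?_⟩
  rw [← hi t]
  constructor
  · intro h; rw [key, h, zero_smul, el_zero, R.act_one]
  · intro h
    replace h : dot a t ≠ 0 := fun e => h ((hi t).1 e)
    refine (hp t).resolve_left fun e => ?_
    rw [key] at e
    have hc' : ∀ (y : Ex) (x : ZMod 3), x ≠ 0 → x • y = y ∨ x • y + x • y = y := by decide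
    rcases hc' t0 _ h with h' | h'
    · rw [h'] at e; exact ht0 e
    · rw [← h', A.act_el_add, e, e] at ht0; exact ht0 rfl

theorem span : ∀ v, v ∈ ⨆ i, piece R d (chr i) := by
  classical
  refine R.pure_induct ((Finset.univ : Finset Ex).toList.map (el d)) ?_ ?_ _ fun v hv => ?_
  · simp only [List.mem_map]
    rintro g ⟨t, -, rfl⟩
    exact A.el_cube t
  · simp only [List.mem_map]
    rintro g ⟨t, -, rfl⟩ h ⟨t', -, rfl⟩
    exact A.el_comm t t'
  · obtain ⟨i, hi⟩ := A.pure_mem (v := v) fun t => hv _ (List.mem_map.2 ⟨t, by simp, rfl⟩)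
    exact AddSubgroup.mem_iSup_of_mem i hi

theorem proj (i : Fin 14) : ∃ f : V → V, (∀ v w, f (v + w) = f v + f w) ∧
    (∀ v ∈ piece R d (chr i), f v = v) ∧ ∀ j ≠ i, ∀ v ∈ piece R d (chr j), f v = 0 := by
  by_cases hi : i = 0
  · subst hi
    refine ⟨fun v => R.F (el d (eu 0)) (R.F (el d (eu 1)) (R.F (el d (eu 2)) v)), fun v w => by
      simp only [R.F_add], fun v hv => ?_, fun j hj v hv => ?_⟩
    · have h := fun k => (hv (eu k)).1 (by revert k; decide)
      simp only [R.F_of_fix (h _)]
    · have hk : ∀ j : Fin 14, j ≠ 0 →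
          dot (chr j) (eu 2) ≠ 0 ∨ dot (chr j) (eu 1) ≠ 0 ∨ dot (chr j) (eu 0) ≠ 0 := by
        decide +kernel
      show R.F (el d (eu 0)) (R.F (el d (eu 1)) (R.F (el d (eu 2)) v)) = 0
      rcases hk j hj with h | h | h
      · simp only [(hv _).2 h, R.F_zero]
      · rw [R.F_F (A.el_comm (eu 1) (eu 2)), (hv _).2 h, R.F_zero, R.F_zero]
      · rw [R.F_F (A.el_comm (eu 1) (eu 2)), R.F_F (A.el_comm (eu 0) (eu 2)),
          R.F_F (A.el_comm (eu 0) (eu 1)), (hv _).2 h, R.F_zero, R.F_zero]
  obtain ⟨h1, h2, h3, hsep⟩ := kb_ok i hi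
  set k1 := el d (kb i).1
  set k2 := el d (kb i).2.1
  set o := el d (kb i).2.2
  refine ⟨fun v => R.F k1 (R.F k2 (v + R.F o v)), fun v w => ?_, fun v hv => ?_, fun j hj v hv => ?_⟩
  · simp only [R.F_add]; abel
  · show R.F k1 (R.F k2 (v + R.F o v)) = v
    rw [(hv _).2 h3, add_zero, R.F_of_fix ((hv _).1 h2), R.F_of_fix ((hv _).1 h1)]
  · show R.F k1 (R.F k2 (v + R.F o v)) = 0
    rcases hsep j hj with h | h | h
    · rw [R.F_F (A.el_comm (kb i).1 (kb i).2.1), R.F_add, R.F_F (A.el_comm (kb i).1 (kb i).2.2),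
        (hv _).2 h, R.F_zero, add_zero, R.F_zero]
    · rw [R.F_add, R.F_F (A.el_comm (kb i).2.1 (kb i).2.2), (hv _).2 h, R.F_zero, add_zero,
        R.F_zero]
    · subst h
      rw [R.F_of_fix ((hv _).1 (by simp [dot, chr])), R.two, R.F_zero, R.F_zero]

omit A in
/-- The sum of a family in the eigenspaces. -/
def sumMap (R : Rep Q V) (d : Fin 4 → Q) (g : (i : Fin 14) → ↥(piece R d (chr i))) : V :=
  ∑ i, (g i : V)

theorem sumMap_bijective : Function.Bijective (sumMap R d) := by
  classical
  constructor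
  · intro g g' hg
    funext i
    obtain ⟨f, hadd, hid, hz⟩ := A.proj i
    have key : ∀ g : (i : Fin 14) → ↥(piece R d (chr i)), f (sumMap R d g) = g i := by
      intro g
      have f0 : f 0 = 0 := by simpa using hadd 0 0
      let F' : V →+ V := { toFun := f, map_zero' := f0, map_add' := hadd }
      show F' (∑ j, (g j : V)) = _
      rw [map_sum, Finset.sum_eq_single i]
      · exact hid _ (g i).2
      · exact fun j _ hj => hz j hj _ (g j).2
      · simp
    exact Subtype.ext (by rw [← key g, ← key g', hg])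
  · intro v
    let S : AddSubgroup V :=
      { carrier := Set.range (sumMap R d)
        zero_mem' := ⟨0, by simp [sumMap]⟩
        add_mem' := by
          rintro _ _ ⟨g, rfl⟩ ⟨g', rfl⟩
          exact ⟨g + g', by simp [sumMap, Finset.sum_add_distrib]⟩
        neg_mem' := fun {x} hx => by rw [R.neg_eq]; exact hx }
    refine (iSup_le (a := S) fun i x hx => ?_) (A.span v)
    exact ⟨Pi.single i ⟨x, hx⟩, by
      show ∑ j, ((Pi.single i ⟨x, hx⟩ : (j : Fin 14) → ↥(piece R d (chr j))) j : V) = x
      rw [Finset.sum_eq_single i]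
      · simp
      · intro j _ hj; simp [Pi.single_eq_of_ne hj]
      · simp⟩

theorem card_eq : ∏ i, Nat.card ↥(piece R d (chr i)) = 256 := by
  classical
  rw [← R.card, ← Nat.card_congr (Equiv.ofBijective _ A.sumMap_bijective), Nat.card_pi]

/-- The involutions permute the eigenspaces. -/
theorem s_el (k : Fin 3) (t : Ex) : s k * el d t = el d (sig k t) * s k := by
  let conj : Ex → Q := fun t => s k * el d t * (s k)⁻¹
  suffices h : conj t = el d (sig k t) by rw [← h]; simp [conj]
  have hadd : ∀ x y, conj (x + y) = conj x * conj y := fun x y => by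
    simp only [conj, A.el_add]; group
  have hsig : ∀ x y, sig k (x + y) = sig k x + sig k y := by
    intro x y; funext j
    fin_cases k <;> fin_cases j <;> simp [sig] <;> abel
  have hu : ∀ i, conj (eu i) = el d (sig k (eu i)) := by
    intro i
    have e : s k * d i.castSucc * (s k)⁻¹ = d (swp k i.castSucc) := by
      rw [A.rels.s_d, mul_inv_cancel_right]
    show s k * el d (eu i) * (s k)⁻¹ = _
    rw [el_eu, e]
    have hsw : ∀ k i : Fin 3, (∃ j : Fin 3, swp k i.castSucc = j.castSucc ∧ sig k (eu i) = eu j) ∨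
        (swp k i.castSucc = 3 ∧ sig k (eu i) = fun _ => -1) := by decide +kernel
    rcases hsw k i with ⟨j, e1, e2⟩ | ⟨e1, e2⟩
    · rw [e1, e2, el_eu]
    · rw [e1, e2, A.el_d3]
  let T : AddSubmonoid Ex :=
    { carrier := {t | conj t = el d (sig k t)}
      zero_mem' := by
        show conj 0 = _
        have e : sig k 0 = 0 := sig_zero k
        simp [conj, e, el_zero]
      add_mem' := fun {x y} hx hy => by
        show conj (x + y) = _
        rw [hadd, hsig, A.el_add, hx, hy] }
  have et : t = (t 0).val • eu 0 + (t 1).val • eu 1 + (t 2).val • eu 2 := by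
    revert t; decide
  have := T.add_mem (T.add_mem (T.nsmul_mem (show eu 0 ∈ T from hu 0) (t 0).val)
    (T.nsmul_mem (show eu 1 ∈ T from hu 1) (t 1).val)) (T.nsmul_mem (show eu 2 ∈ T from hu 2) (t 2).val)
  rw [← et] at this
  exact this

theorem act_s_mem {a b : Ex} {k : Fin 3} (h : ∀ t, dot a (sig k t) = 0 ↔ dot b t = 0) {v : V}
    (hv : v ∈ piece R d a) : R.act (s k) v ∈ piece R d b := by
  intro t
  have hinv : sig k (sig k t) = t := sig_sig k t
  have e : ∀ w, R.act (el d t) (R.act (s k) w) = R.act (s k) (R.act (el d (sig k t)) w) := fun w => by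
    rw [← R.act_mul, ← R.act_mul, A.s_el, hinv]
  constructor
  · intro ht
    rw [e, (hv _).1 ((h t).2 ht)]
  · intro ht
    rw [Rep.F, e, e, ← R.act_add, ← R.act_add]
    have := (hv (sig k t)).2 fun h' => ht ((h t).1 h')
    rw [Rep.F] at this
    rw [this, R.act_zero]

theorem card_swap {a b : Ex} {k : Fin 3} (h : ∀ t, dot a (sig k t) = 0 ↔ dot b t = 0) :
    Nat.card ↥(piece R d a) = Nat.card ↥(piece R d b) := by
  have h' : ∀ t, dot b (sig k t) = 0 ↔ dot a t = 0 := fun t => by
    have hinv : sig k (sig k t) = t := sig_sig k t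
    rw [← h, hinv]
  have hss : ∀ v, R.act (s k) (R.act (s k) v) = v := fun v => by
    rw [← R.act_mul, A.rels.s_sq, R.act_one]
  exact Nat.card_congr
    { toFun := fun v => ⟨R.act (s k) v, A.act_s_mem h v.2⟩
      invFun := fun v => ⟨R.act (s k) v, A.act_s_mem h' v.2⟩
      left_inv := fun v => Subtype.ext (hss v)
      right_inv := fun v => Subtype.ext (hss v) }

theorem four_le {i : Fin 14} (hi : i ≠ 0) {v : V} (hv : v ∈ piece R d (chr i)) (hv0 : v ≠ 0) :
    4 ≤ Nat.card ↥(piece R d (chr i)) := by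
  classical
  have hVf : Finite V := Nat.finite_of_card_ne_zero (by rw [R.card]; norm_num)
  obtain ⟨-, -, h3, -⟩ := kb_ok i hi
  set o := el d (kb i).2.2
  have hF := (hv _).2 h3
  have hne1 : R.act o v ≠ v := fun e => hv0 (by rw [← R.F_of_fix e, hF])
  have hne2 : R.act o (R.act o v) ≠ v := fun e => hne1 (by
    have := congrArg (R.act o) e
    rw [← R.act_mul, ← R.act_mul, A.el_cube, R.act_one] at this
    exact this.symm)
  have hne3 : R.act o (R.act o v) ≠ R.act o v := fun e => hne1 (R.act_inj o e)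
  have hmem : ∀ w ∈ piece R d (chr i), R.act o w ∈ piece R d (chr i) := fun w hw t =>
    ⟨fun ht => by rw [R.act_comm (A.el_comm _ _), (hw t).1 ht],
      fun ht => by rw [R.F_act (A.el_comm _ _), (hw t).2 ht, R.act_zero]⟩
  have hsub : ({0, v, R.act o v, R.act o (R.act o v)} : Set V) ⊆ piece R d (chr i) := by
    rintro x (rfl | rfl | rfl | rfl)
    exacts [AddSubgroup.zero_mem _, hv, hmem _ hv, hmem _ (hmem _ hv)]
  have hn := Set.ncard_le_ncard hsub (Set.toFinite _)
  have z1 : R.act o v ≠ 0 := fun e => hv0 (R.act_inj o (e.trans (R.act_zero o).symm))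
  have z2 : R.act o (R.act o v) ≠ 0 := fun e => z1 (R.act_inj o (e.trans (R.act_zero o).symm))
  rw [Set.ncard_insert_of_notMem (by simp [hv0.symm, z1.symm, z2.symm]),
    Set.ncard_insert_of_notMem (by simp [hne1.symm, hne2.symm]),
    Set.ncard_pair hne3.symm] at hn
  exact hn

/-- Either four planes or three planes and a fixed plane. -/
theorem cards :
    ((∀ i : Fin 14, i ∈ [1, 2, 3, 4] → Nat.card ↥(piece R d (chr i)) = 4) ∧
      ∀ i : Fin 14, i ∉ [1, 2, 3, 4] → Nat.card ↥(piece R d (chr i)) = 1) ∨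
    ((∀ i : Fin 14, i ∈ [0, 5, 6, 7] → Nat.card ↥(piece R d (chr i)) = 4) ∧
      ∀ i : Fin 14, i ∉ [0, 5, 6, 7] → Nat.card ↥(piece R d (chr i)) = 1) := by
  have hVf : Finite V := Nat.finite_of_card_ne_zero (by rw [R.card]; norm_num)
  set c : Fin 14 → ℕ := fun i => Nat.card ↥(piece R d (chr i)) with hcdef
  have ok : ∀ i, i ≠ 0 → c i = 1 ∨ 4 ≤ c i := by
    intro i hi
    by_cases h : ∀ v ∈ piece R d (chr i), v = 0
    · left
      show Nat.card ↥(piece R d (chr i)) = 1
      rw [(AddSubgroup.eq_bot_iff_forall _).2 h, AddSubgroup.card_bot]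
    · right
      push Not at h
      obtain ⟨v, hv, hv0⟩ := h
      exact A.four_le hi hv hv0
  have sw : ∀ i j : Fin 14, ∀ k : Fin 3,
      (∀ t, dot (chr i) (sig k t) = 0 ↔ dot (chr j) t = 0) → c i = c j :=
    fun i j k h => A.card_swap h
  have e12 : c 1 = c 2 := sw 1 2 0 (by decide +kernel)
  have e23 : c 2 = c 3 := sw 2 3 1 (by decide +kernel)
  have e34 : c 3 = c 4 := sw 3 4 2 (by decide +kernel)
  have e56 : c 5 = c 6 := sw 5 6 1 (by decide +kernel)
  have e67 : c 6 = c 7 := sw 6 7 2 (by decide +kernel)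
  have e89 : c 8 = c 9 := sw 8 9 1 (by decide +kernel)
  have e9a : c 9 = c 10 := sw 9 10 0 (by decide +kernel)
  have e9b : c 9 = c 11 := sw 9 11 2 (by decide +kernel)
  have ebc : c 11 = c 12 := sw 11 12 0 (by decide +kernel)
  have ecd : c 12 = c 13 := sw 12 13 1 (by decide +kernel)
  have hp := A.card_eq
  change ∏ i, c i = 256 at hp
  simp only [Fin.prod_univ_succ, Fin.prod_univ_zero, mul_one] at hp
  change c 0 * (c 1 * (c 2 * (c 3 * (c 4 * (c 5 * (c 6 * (c 7 * (c 8 * (c 9 * (c 10 * (c 11 *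
    (c 12 * c 13)))))))))))) = 256 at hp
  rw [← ecd, ← ebc, ← e9b, ← e9a, ← e89, ← e67, ← e56, ← e34, ← e23, ← e12] at hp
  have hpos : ∀ i, 0 < c i := fun i => Nat.card_pos
  have hp' : c 0 * c 1 ^ 4 * c 5 ^ 3 * c 8 ^ 6 = 256 := by rw [← hp]; ring
  have h8 : c 8 = 1 := by
    rcases ok 8 (by decide) with h | h
    · exact h
    · have : 4 ^ 6 ≤ c 0 * c 1 ^ 4 * c 5 ^ 3 * c 8 ^ 6 :=
        le_trans (Nat.pow_le_pow_left h 6) (Nat.le_mul_of_pos_left _ (by
          have := hpos 0; have := hpos 1; have := hpos 5; positivity))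
      omega
  rw [h8, one_pow, mul_one] at hp'
  rcases ok 1 (by decide) with h1 | h1
  · rw [h1, one_pow, mul_one] at hp'
    rcases ok 5 (by decide) with h5 | h5
    · exfalso
      have htriv : ∀ v, R.act (d 0) v = v := by
        intro v
        obtain ⟨g, rfl⟩ := A.sumMap_bijective.2 v
        have hz : ∀ i, i ≠ 0 → (g i : V) = 0 := by
          intro i hi
          have hci : c i = 1 := by
            fin_cases i
            · exact absurd rfl hi
            all_goals simp only [Fin.reduceFinMk] <;> omega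
          have := (Nat.card_eq_one_iff_unique.1 hci).1
          exact congrArg Subtype.val (Subsingleton.elim (g i) 0)
        rw [sumMap, Finset.sum_eq_single (0 : Fin 14) (fun i _ hi => hz i hi) (by simp)]
        show R.act (d (Fin.castSucc 0)) _ = _
        rw [← el_eu (d := d) 0]
        exact ((g 0).2 (eu 0)).1 (by decide)
      have h1 := R.faith _ htriv
      exact A.rels.ne (by rw [h1, mul_one, one_mul])
    · right
      have hle : c 5 ≤ 6 := by
        by_contra h
        have : 7 ^ 3 ≤ c 0 * c 5 ^ 3 :=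
          le_trans (Nat.pow_le_pow_left (by omega) 3) (Nat.le_mul_of_pos_left _ (hpos 0))
        omega
      have h54 : c 5 = 4 := by
        interval_cases h : c 5 <;> omega
      rw [h54] at hp'
      exact cards_of c [0, 5, 6, 7] [1, 2, 3, 4, 8, 9, 10, 11, 12, 13] (by decide) (fun i hi => by
          show c i = 4
          fin_cases hi <;> omega) fun i hi => by
          show c i = 1
          fin_cases hi <;> omega
  · left
    have hle : c 1 ≤ 4 := by
      by_contra h
      have : 5 ^ 4 ≤ c 0 * c 1 ^ 4 * c 5 ^ 3 := by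
        calc 5 ^ 4 ≤ c 1 ^ 4 := Nat.pow_le_pow_left (by omega) 4
          _ ≤ c 0 * c 1 ^ 4 := Nat.le_mul_of_pos_left _ (hpos 0)
          _ ≤ _ := Nat.le_mul_of_pos_right _ (pow_pos (hpos 5) 3)
      omega
    have h14 : c 1 = 4 := by omega
    rw [h14] at hp'
    have hm : c 0 * c 5 ^ 3 = 1 := by
      have : 256 * (c 0 * c 5 ^ 3) = 256 * 1 := by
        calc 256 * (c 0 * c 5 ^ 3) = c 0 * 4 ^ 4 * c 5 ^ 3 := by ring
          _ = 256 * 1 := by rw [hp']
      exact Nat.eq_of_mul_eq_mul_left (by norm_num) this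
    have h0 : c 0 = 1 := Nat.eq_one_of_mul_eq_one_right hm
    have h5 : c 5 = 1 := by
      have := Nat.eq_one_of_mul_eq_one_left hm
      rwa [Nat.pow_eq_one, or_iff_left (by norm_num)] at this
    exact cards_of c [1, 2, 3, 4] [0, 5, 6, 7, 8, 9, 10, 11, 12, 13] (by decide) (fun i hi => by
        show c i = 4
        fin_cases hi <;> omega) fun i hi => by
        show c i = 1
        fin_cases hi <;> omega

end Act3

end Cfsg.Agent.U62Rec
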