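import Cfsg.Agent.U62Rec.Outer

/-!
# The transvections of a natural configuration

Finite facts on the 45 maps: they form the points of a unitary quadrangle, two of them commuting
exactly if collinear.
-/

set_option autoImplicit false

namespace Cfsg.Agent.U62Rec

/-- The maps commute. -/
def com (a b : ℕ) : Bool := Nat.beq (cmp a b) (cmp b a)

/-- The conditions on the graph. -/
def graphOK (Q : List ℕ) : Bool :=
  Q.all (fun a => Nat.beq (Q.countP (com a)) 13) &&
    Q.all (fun a => Q.all fun b => com a b ||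
      (Nat.beq (cmp (cmp a b) (cmp (cmp a b) (cmp a b))) idm &&
        Nat.beq (Q.countP fun s => com a s && com b s) 3)) &&
    Q.all (fun a => Q.all fun b => Nat.beq a b || Q.any fun s => com a s && !com b s)

/-- All vectors are listed. -/
def spanOK (L : List ℕ) : Bool := (List.range 256).all fun v => mem v L

/-- The finite conditions on the list `P` of maps with their moved spaces. -/
def pointsOK (gens ginv : List ℕ) (T : Tab) (c : ℕ) (P : List (ℕ × List ℕ)) : Bool :=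
  T.ok gens ginv && T.centOK c &&
  T.ts.all (fun t => P.any fun p => Nat.beq p.1 (cmp t.1 (cmp c t.2))) &&
  P.all (fun p => decide (p.1 < 2 ^ 64) &&
    T.ts.any (fun t => Nat.beq p.1 (cmp t.1 (cmp c t.2)) && Nat.beq (cmp t.2 t.1) idm)) &&
  decide ((P.map (·.1)).Nodup) && Nat.beq P.length 45 &&
  P.all (fun p => (List.range 256).all fun v => mem (app p.1 v ^^^ v) p.2) &&
  P.all (fun a => P.all fun b => Nat.beq a.1 b.1 || a.2.all fun v => Nat.beq v 0 || !mem v b.2) &&
  graphOK (P.map (·.1)) && spanOK ((P.flatMap (·.2)).foldl adj [0]) &&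
  P.all (fun p => p.2.all fun v => (List.range 256).any fun w => Nat.beq (app p.1 w ^^^ w) v)

/-- What the finite conditions say. -/
structure Points (gens : List ℕ) (c : ℕ) (P : List ℕ) : Prop where
  code : ∀ p ∈ P, IsCode p
  mem_of_conj : ∀ m, IsCode m → ∀ h, Gen gens h → cmp m h = cmp h c → m ∈ P
  trans : ∀ p ∈ P, ∀ q ∈ P, ∃ h, Gen gens h ∧ cmp q h = cmp h p
  nodup : P.Nodup
  card : P.length = 45
  disjoint : ∀ a ∈ P, ∀ b ∈ P, a ≠ b → ∀ v ∈ moved a, v ∈ moved b → v = 0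
  degree : ∀ a ∈ P, P.countP (com a) = 13
  cube : ∀ a ∈ P, ∀ b ∈ P, com a b = false → cmp (cmp a b) (cmp (cmp a b) (cmp a b)) = idm
  common : ∀ a ∈ P, ∀ b ∈ P, com a b = false → P.countP (fun s => com a s && com b s) = 3
  sep : ∀ a ∈ P, ∀ b ∈ P, a ≠ b → ∃ s ∈ P, com a s = true ∧ com b s = false
  span : ∀ S : Set ℕ, 0 ∈ S → (∀ a ∈ S, ∀ b ∈ S, a ^^^ b ∈ S) →
    (∀ p ∈ P, ∀ v ∈ moved p, v ∈ S) → ∀ v < 256, v ∈ S

theorem adj_subset {S : Set ℕ} (hx : ∀ a ∈ S, ∀ b ∈ S, a ^^^ b ∈ S) :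
    ∀ (N L : List ℕ), (∀ a ∈ N, a ∈ S) → (∀ a ∈ L, a ∈ S) → ∀ a ∈ N.foldl adj L, a ∈ S
  | [], L, _, hL => by simpa using hL
  | i :: N, L, hN, hL => by
    rw [List.foldl_cons]
    refine adj_subset hx N _ (fun a ha => hN a (List.mem_cons_of_mem _ ha)) ?_
    unfold adj
    cases mem i L with
    | true => simpa using hL
    | false =>
      intro a ha
      simp only [cond_false, List.mem_append, List.mem_map] at ha
      rcases ha with ha | ⟨b, hb, rfl⟩
      · exact hL a ha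
      · exact hx b (hL b hb) i (hN i List.mem_cons_self)

theorem points_of_ok {gens ginv : List ℕ} {T : Tab} {c : ℕ} {P : List (ℕ × List ℕ)}
    (h : pointsOK gens ginv T c P = true) : Points gens c (P.map (·.1)) := by
  simp only [pointsOK, graphOK, spanOK, Bool.and_eq_true, List.all_eq_true, List.any_eq_true, Nat.beq_eq,
    decide_eq_true_eq, mem_iff, Bool.or_eq_true, Bool.not_eq_true', List.mem_range] at h
  obtain ⟨⟨⟨⟨⟨⟨⟨⟨⟨⟨hT, hc⟩, hts⟩, hP⟩, hnd⟩, hlen⟩, hmv⟩, hdis⟩, hgraph⟩, hspan⟩, hsub⟩ := h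
  obtain ⟨⟨hdeg, hpair⟩, hsep⟩ := hgraph
  have hspec := Tab.spec_of_ok hT
  refine
    { code := fun p hp => ?_
      mem_of_conj := fun m hm h hh e => ?_
      trans := fun p hp q hq => ?_
      nodup := hnd
      card := by rw [List.length_map]; exact hlen
      disjoint := fun a ha b hb hne v hva hvb => ?_
      degree := hdeg
      cube := fun a ha b hb hab => ?_
      common := fun a ha b hb hab => ?_
      sep := fun a ha b hb hne => ?_
      span := fun S h0 hx hS v hv => ?_ }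
  · obtain ⟨p, hp', rfl⟩ := List.mem_map.1 hp
    exact (hP p hp').1
  · obtain ⟨t, ht, s, hs, eh⟩ := hspec.factor h hh
    subst eh
    obtain ⟨htg, htg', hti⟩ := hspec.ts_gen t ht
    have hsg := hspec.S_gen s hs
    have hcc : IsCode c := by
      simp only [Tab.centOK, Bool.and_eq_true, decide_eq_true_eq] at hc
      exact hc.1.2
    have hh' := hT
    simp only [Tab.ok, Bool.and_eq_true] at hh'
    obtain ⟨⟨⟨⟨⟨⟨⟨_, hinv⟩, -⟩, -⟩, -⟩, -⟩, -⟩, -⟩ := hh'
    obtain ⟨u, -, hsu⟩ := hsg.exists_inv hspec.code hinv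
    have e1 : cmp m t.1 = cmp t.1 c := by
      refine cancel_right hsu (isCode_cmp _ _) (isCode_cmp _ _) ?_
      rw [cmp_assoc, e, cmp_assoc, Tab.S_comm hT hc s hs, ← cmp_assoc]
    obtain ⟨p, hp, e2⟩ := hts t ht
    refine List.mem_map.2 ⟨p, hp, ?_⟩
    rw [e2, ← cmp_assoc, ← e1, cmp_assoc, hti, cmp_idm hm]
  · obtain ⟨p, hp', rfl⟩ := List.mem_map.1 hp
    obtain ⟨q, hq', rfl⟩ := List.mem_map.1 hq
    obtain ⟨t, ht, ep, -⟩ := (hP p hp').2
    obtain ⟨u, hu, eq, hu'⟩ := (hP q hq').2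
    obtain ⟨htg, htg', hti⟩ := hspec.ts_gen t ht
    obtain ⟨hug, hug', hui⟩ := hspec.ts_gen u hu
    refine ⟨cmp u.1 t.2, hug.mul htg', ?_⟩
    have ht' := left_inv_of_right htg'.isCode htg.isCode hti
    rw [ep, eq]
    simp only [cmp_assoc]
    rw [← cmp_assoc u.2 u.1, hu', idm_cmp htg'.isCode, ← cmp_assoc t.2 t.1, ht',
      idm_cmp (isCode_cmp _ _)]
  · obtain ⟨a, ha', rfl⟩ := List.mem_map.1 ha
    obtain ⟨b, hb', rfl⟩ := List.mem_map.1 hb
    obtain ⟨w, hw, rfl⟩ := List.mem_map.1 hva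
    obtain ⟨w', hw', e⟩ := List.mem_map.1 hvb
    rcases hdis a ha' b hb' with h1 | h1
    · exact absurd h1 hne
    rcases h1 _ (hmv a ha' w (List.mem_range.1 hw)) with h2 | h2
    · exact h2
    · have := mem_iff.2 (hmv b hb' w' (List.mem_range.1 hw'))
      rw [e, h2] at this
      simp at this
  · rcases hpair a ha b hb with e | ⟨e, -⟩
    · rw [hab] at e; simp at e
    · exact e
  · rcases hpair a ha b hb with e | ⟨-, e⟩
    · rw [hab] at e; simp at e
    · exact e
  · rcases hsep a ha b hb with e | ⟨s, hs, e1, e2⟩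
    · exact absurd e hne
    · exact ⟨s, hs, e1, e2⟩
  · refine adj_subset hx _ _ ?_ (fun a ha => by rw [List.mem_singleton.1 ha]; exact h0) v (hspan v hv)
    intro a ha
    obtain ⟨p, hp, hap⟩ := List.mem_flatMap.1 ha
    obtain ⟨w, hw, rfl⟩ := hsub p hp a hap
    exact hS p.1 (List.mem_map.2 ⟨p, hp, rfl⟩) _
      (List.mem_map.2 ⟨w, List.mem_range.2 hw, rfl⟩)

end Cfsg.Agent.U62Rec
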