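import Cfsg.Agent.U62Rec.BasisOf

/-!
# The frame in the case of three planes and a fixed plane
-/

set_option autoImplicit false
set_option maxRecDepth 100000

namespace Cfsg.Agent.U62Rec

/-- The codes of the four elements. -/
def gRD : Fin 4 → ℕ := ![9241439349563196162, 9241404233776628482, 9241404233910583555,
  9241439349429240067]

/-- The codes of the three involutions. -/
def gRS : Fin 3 → ℕ := ![9241399647490015745, 9241421688489445380, 9241395249175069185]

/-- The code of the further element. -/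
def gRU : ℕ := 9241455864418482455

/-- The code of the outer element trivial on the fixed plane. -/
def gRX0 : ℕ := 9241439280843457281

/-- The code of the outer element nontrivial on the fixed plane. -/
def gRX2 : ℕ := 4647767660925551361

/-- The eigenspace of a coordinate. -/
def idR (k : Fin 4) : Fin 14 := ![5, 6, 7, 0] k

/-- The permutations of the planes. -/
def sgP (j : Fin 3) (k : Fin 4) : Fin 4 :=
  ![![0, 2, 1, 3], ![1, 0, 2, 3], ![0, 2, 1, 3]] j k

theorem gR_facts :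
    (∀ i k, app (gRD i) (u0 k) = (if k = 3 then u0 k else
        if dot (chr (idR k)) (Act3.ev i) = 1 then u1 k else u0 k ^^^ u1 k) ∧
      app (gRD i) (u1 k) = (if k = 3 then u1 k else
        if dot (chr (idR k)) (Act3.ev i) = 1 then u0 k ^^^ u1 k else u0 k)) ∧
    (∀ j k, app (gRS j) (u0 k) = u0 (sgP j k) ∧
      app (gRS j) (u1 k) = (if k = 3 then u1 k else
        if dot (chr (idR (sgP j k))) (Act3.ev (Sp43.swp j 0)) = 1 then u1 (sgP j k)
          else u0 (sgP j k) ^^^ u1 (sgP j k))) ∧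
    (∀ k, k ≠ 3 → app gRX0 (u0 k) = u0 k ∧ app gRX0 (u1 k) = u0 k ^^^ u1 k ∧
      app gRX2 (u0 k) = u0 k ∧ app gRX2 (u1 k) = u0 k ^^^ u1 k) ∧
    app gRX0 (u0 3) = u0 3 ∧ app gRX0 (u1 3) = u1 3 ∧ app gRX2 (u0 3) = u1 3 ∧
      app gRX2 (u1 3) = u0 3 := by decide +kernel

theorem idR_facts : ∀ k : Fin 4, k ≠ 3 → ∀ i : Fin 4,
    dot (chr (idR k)) (Act3.ev 0) = 1 ∧
    (dot (chr (idR k)) (Act3.ev i) ≠ 1 →
      dot (chr (idR k)) (Act3.ev 0) + dot (chr (idR k)) (Act3.ev 0) =
        dot (chr (idR k)) (Act3.ev i)) := by decide +kernel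

theorem idR_sig : ∀ (j : Fin 3) (k : Fin 4) (t : Ex),
    dot (chr (idR k)) (sig j t) = 0 ↔ dot (chr (idR (sgP j k))) t = 0 := by decide +kernel

namespace Act3

variable {Q : Type*} [Group Q] {V : Type*} [AddCommGroup V] {R : Rep Q V} {d : Fin 4 → Q}
  {s : Fin 3 → Q} {u : Q} (A : Act3 R d s u)
  (hc : ∀ k, Nat.card ↥(piece R d (chr (idR k))) = 4)
include A hc

omit A in
theorem planeR {k : Fin 4} (hk : k ≠ 3) : Plane R d (idR k) 0 where
  ne := by revert k; decide
  card := hc k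
  moved := by rw [(idR_facts k hk 0).1]; exact one_ne_zero

theorem act_s_R {j : Fin 3} {k : Fin 4} {v : V} (hv : v ∈ piece R d (chr (idR k))) :
    R.act (s j) v ∈ piece R d (chr (idR (sgP j k))) :=
  A.act_s_mem (idR_sig j k) hv

theorem d_R {k : Fin 4} (hk : k ≠ 3) (i : Fin 4) {v : V} (hv : v ∈ piece R d (chr (idR k)))
    (hv0 : v ≠ 0) : R.act (d i) v = if dot (chr (idR k)) (ev i) = 1 then R.act (d 0) v
      else v + R.act (d 0) v := by
  obtain ⟨h0, hneg⟩ := idR_facts k hk i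
  split_ifs with h
  · exact A.d_eq hv (by rw [h, h0])
  · rw [A.d_inv hv (hneg h), A.twice (planeR hc hk) hv hv0]

theorem s_fix_R {j : Fin 3} {k : Fin 4} (hk : k ≠ 3) (hsk : sgP j k = k)
    (hd : dot (chr (idR k)) (ev (Sp43.swp j 0)) = 1) {v : V}
    (hv : v ∈ piece R d (chr (idR k))) : R.act (s j) v = v := by
  refine A.invol_id (planeR hc hk) hv (fun w hw => by simpa [hsk] using A.act_s_R hc (j := j) hw)
    (fun w _ => by rw [← R.act_mul, A.rels.s_sq, R.act_one]) fun w hw => ?_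
  rw [← R.act_mul, A.rels.s_d, R.act_mul]
  refine A.d_eq (by simpa [hsk] using A.act_s_R hc (j := j) hw) ?_
  rw [hd, (idR_facts k hk 0).1]

/-- The vectors made from one vector and two in the fixed plane. -/
theorem red_basis {w0 : V} (hw0 : w0 ∈ piece R d (chr (idR 0))) (hne : w0 ≠ 0)
    (ht : R.act (s 1) (R.act (s 2) (R.act (s 0) (R.act (s 1) w0))) = w0)
    {a b : V} (ha : a ∈ piece R d (chr (idR 3))) (hb : b ∈ piece R d (chr (idR 3)))
    (hab : R.B a b = true) (hW : ∀ j, ∀ v ∈ piece R d (chr (idR 3)), R.act (s j) v = v)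
    {l : ℕ} (hl : ∀ k : Fin 4, k ≠ 3 → qv l (u0 k) = true ∧ qv l (u1 k) = true)
    (hla : qv l (u0 3) = R.q a) (hlb : qv l (u1 3) = R.q b) :
    ∃ w y : Fin 4 → V, (w 3 = a ∧ y 3 = b) ∧ R.Frame (mkE w y) l ∧
      (∀ i, R.Moves (mkE w y) (gRD i) (d i)) ∧ (∀ j, R.Moves (mkE w y) (gRS j) (s j)) ∧
      ∀ x, Outer d s x → R.act x w0 = w0 →
        (R.act x a = a ∧ R.act x b = b → R.Moves (mkE w y) gRX0 x) ∧
        (R.act x a = b ∧ R.act x b = a → R.Moves (mkE w y) gRX2 x) := by
  let w1 := R.act (s 1) w0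
  let w : Fin 4 → V := ![w0, w1, R.act (s 2) w1, a]
  let y : Fin 4 → V := ![R.act (d 0) w0, R.act (d 0) w1, R.act (d 0) (R.act (s 2) w1), b]
  have hyk : ∀ k, k ≠ 3 → y k = R.act (d 0) (w k) := fun k hk => by
    fin_cases k
    exacts [rfl, rfl, rfl, absurd rfl hk]
  have hs2 : ∀ j v, R.act (s j) (R.act (s j) v) = v := fun j v => by
    rw [← R.act_mul, A.rels.s_sq, R.act_one]
  have m0 : w 0 ∈ piece R d (chr (idR 0)) := hw0
  have m1 : w 1 ∈ piece R d (chr (idR 1)) := A.act_s_R hc (j := 1) (k := 0) m0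
  have m2 : w 2 ∈ piece R d (chr (idR 2)) := A.act_s_R hc (j := 2) (k := 1) m1
  have hm : ∀ k, w k ∈ piece R d (chr (idR k)) := fun k => by fin_cases k <;> assumption
  have hn : ∀ k, k ≠ 3 → w k ≠ 0 := by
    have step : ∀ j v, v ≠ 0 → R.act (s j) v ≠ 0 := fun j v hv e =>
      hv (R.act_inj _ (e.trans (R.act_zero _).symm))
    intro k hk
    fin_cases k
    exacts [hne, step _ _ hne, step _ _ (step _ _ hne), absurd rfl hk]
  have hy : ∀ k, y k ∈ piece R d (chr (idR k)) := fun k => by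
    by_cases hk : k = 3
    · subst hk; exact hb
    · rw [hyk k hk]; exact A.act_d_mem (hm k) _
  have h01 : R.act (s 0) (w 1) = w 2 := by
    show R.act (s 0) (R.act (s 1) w0) = R.act (s 2) (R.act (s 1) w0)
    have e := congrArg (R.act (s 1)) ht
    rw [hs2] at e
    have e' := congrArg (R.act (s 2)) e
    rwa [hs2] at e'
  have hsw : ∀ j k, R.act (s j) (w k) = w (sgP j k) := by
    intro j k
    fin_cases j <;> fin_cases k
    exacts [A.s_fix_R hc (j := 0) (k := 0) (by decide) rfl (by decide +kernel) m0, h01,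
      (congrArg (R.act (s 0)) h01.symm).trans (hs2 0 _), hW 0 _ ha, rfl, hs2 1 _,
      A.s_fix_R hc (j := 1) (k := 2) (by decide) rfl (by decide +kernel) m2, hW 1 _ ha,
      A.s_fix_R hc (j := 2) (k := 0) (by decide) rfl (by decide +kernel) m0, rfl, hs2 2 _,
      hW 2 _ ha]
  have hF : R.Frame (mkE w y) l := by
    refine frame_of A idR (by decide) hm hy (fun k => ?_) (fun k => ?_) (fun k => ?_)
    · by_cases hk : k = 3
      · subst hk; exact hab
      · rw [hyk k hk]; exact A.B_self_act (planeR hc hk) (hm k) (hn k hk)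
    · by_cases hk : k = 3
      · subst hk; exact hla.symm
      · rw [A.q_true (planeR hc hk) (hm k) (hn k hk), (hl k hk).1]
    · by_cases hk : k = 3
      · subst hk; exact hlb.symm
      · rw [hyk k hk, R.q_act, A.q_true (planeR hc hk) (hm k) (hn k hk), (hl k hk).2]
  have hd3 : ∀ i, ∀ v ∈ piece R d (chr (idR 3)), R.act (d i) v = v := fun i v hv =>
    A.d_fix hv (by simp [idR, chr, dot])
  refine ⟨w, y, ⟨rfl, rfl⟩, hF, fun i => moves_of R (fun k => ?_) (fun k => ?_),
    fun j => moves_of R (fun k => ?_) (fun k => ?_), fun x hx hfix => ?_⟩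
  · rw [(gR_facts.1 i k).1]
    by_cases hk : k = 3
    · subst hk; rw [if_pos rfl, vec_u0, hd3 i _ (hm 3)]
    · rw [if_neg hk, A.d_R hc hk i (hm k) (hn k hk)]
      split_ifs
      · rw [vec_u1, hyk k hk]
      · rw [vec_both R, hyk k hk]
  · rw [(gR_facts.1 i k).2]
    by_cases hk : k = 3
    · subst hk; rw [if_pos rfl, vec_u1, hd3 i _ (hy 3)]
    · have hy0 : R.act (d 0) (w k) ≠ 0 := A.act_ne_zero (planeR hc hk) (hm k) (hn k hk)
      rw [if_neg hk, hyk k hk, A.d_R hc hk i (A.act_d_mem (hm k) 0) hy0,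
        A.twice (planeR hc hk) (hm k) (hn k hk)]
      split_ifs
      · rw [vec_both R, hyk k hk]
      · rw [vec_u0, add_left_comm, R.two, add_zero]
  · rw [(gR_facts.2.1 j k).1, vec_u0, hsw]
  · rw [(gR_facts.2.1 j k).2]
    by_cases hk : k = 3
    · subst hk; rw [if_pos rfl, vec_u1, hW j _ (hy 3)]
    · have hk' : sgP j k ≠ 3 := by revert j k; decide
      rw [if_neg hk, hyk k hk, ← R.act_mul, A.rels.s_d, R.act_mul, hsw,
        A.d_R hc hk' _ (hm _) (hn _ hk')]
      split_ifs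
      · rw [vec_u1, hyk _ hk']
      · rw [vec_both R, hyk _ hk']
  · have hfw : ∀ k, k ≠ 3 → R.act x (w k) = w k := by
      have step : ∀ j v, R.act x v = v → R.act x (R.act (s j) v) = R.act (s j) v := fun j v hv => by
        rw [← R.act_mul, hx.fix_s, R.act_mul, hv]
      intro k hk
      fin_cases k
      exacts [hfix, step _ _ hfix, step _ _ (step _ _ hfix), absurd rfl hk]
    have hfy : ∀ k, k ≠ 3 → R.act x (y k) = w k + y k := fun k hk => by
      rw [hyk k hk, outer_d hx _ (A.rels.d_cube _), hfw k hk]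
      exact A.twice (planeR hc hk) (hm k) (hn k hk)
    obtain ⟨-, -, hX, e0, e1, e2, e3⟩ := gR_facts
    constructor <;> rintro ⟨hxa, hxb⟩ <;>
      refine moves_of R (fun k => ?_) (fun k => ?_) <;> by_cases hk : k = 3
    · subst hk; rw [e0, vec_u0]; exact hxa
    · rw [(hX k hk).1, vec_u0, hfw k hk]
    · subst hk; rw [e1, vec_u1]; exact hxb
    · rw [(hX k hk).2.1, vec_both R, hfy k hk]
    · subst hk; rw [e2, vec_u1]; exact hxa
    · rw [(hX k hk).2.2.1, vec_u0, hfw k hk]
    · subst hk; rw [e3, vec_u0]; exact hxb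
    · rw [(hX k hk).2.2.2, vec_both R, hfy k hk]

end Act3

end Cfsg.Agent.U62Rec
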