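import Cfsg.Agent.U62Rec.Facts

/-!
# One side of a pair `z`, `y`

The profile of `OutJ`, rewritten in a form invariant under `C(z)`.
-/

set_option autoImplicit false

open Cfsg Subgroup

namespace Cfsg.Agent.U62Rec

open Cfsg.Agent.LargeExtra

/-- A case with its row. -/
abbrev Out := OutCase × (ℕ × ℕ × ℕ × ℕ)

/-- The moved space of a map. -/
def moved (m : ℕ) : List ℕ := (List.range 256).map fun v => app m v ^^^ v

/-- Further conditions on the special possibilities. -/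
def Out.extraOK (o : Out) : Bool :=
  (!Nat.beq o.2.2.2.2 1 || (Nat.beq (moved o.1.c).toFinset.card 4 &&
    o.1.S.all fun g => !(o.1.K.all fun w => mem (app g w ^^^ w) o.1.T) ||
      !Nat.beq (moved g).toFinset.card 4 || Nat.beq g o.1.c)) &&
  (!Nat.beq o.2.2.2.2 2 ||
    o.1.S.all fun g => !(o.1.K.all fun w => Nat.beq (app g w) w) || Nat.beq g idm || Nat.beq g o.1.c) &&
  decide (o.1.c < 2 ^ 64)

theorem moved_subset_T {c : OutCase} {l : ℕ} {P : List ℕ → List ℕ → List ℕ → Bool}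
    (h : c.ok l P = true) : ∀ v ∈ moved c.c, v ∈ c.T := by
  simp only [OutCase.ok, Bool.and_eq_true, List.all_eq_true, mem_iff] at h
  intro v hv
  obtain ⟨w, hw, rfl⟩ := List.mem_map.1 hv
  exact h.1.1.1.1.1 w hw

theorem T_subset_moved {c : OutCase} {l : ℕ} {P : List ℕ → List ℕ → List ℕ → Bool}
    (h : c.ok l P = true) : ∀ v ∈ c.T, v ∈ moved c.c := by
  simp only [OutCase.ok, Bool.and_eq_true, List.all_eq_true, decide_eq_true_eq, Nat.beq_eq] at h
  intro v hv
  obtain ⟨p, hp, rfl⟩ := List.mem_map.1 hv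
  obtain ⟨h1, h2⟩ := h.1.1.1.1.2 p hp
  exact List.mem_map.2 ⟨p.2, List.mem_range.2 h1, h2⟩

namespace Mod

variable {G : Type*} [Group G] {C : Cfg} {z : G}

/-- `a` is fixed by `y` modulo `⟨z⟩`. -/
def Fx (M : Mod C z) (y a : G) : Prop := M.bar (y * a * y⁻¹) = M.bar a

/-- The commutator of `j` and `y` in coordinates. -/
def mv (M : Mod C z) (y j : G) : ℕ := M.bar (y * j * y⁻¹ * j⁻¹)

/-- What is fixed commutes. -/
def FixComm (M : Mod C z) (y : G) : Prop := ∀ a ∈ oc z, M.Fx y a → Commute a y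

/-- The natural special possibility. -/
structure Kind1 (M : Mod C z) (y : G) : Prop where
  fix : M.FixComm y
  card : Nat.card ↥(oc z ⊓ oc y) = 4
  I_moved : ∀ i ∈ oc z ⊓ oc y, ∃ j ∈ oc z, M.bar i = M.mv y j
  moved_I : ∀ j ∈ oc z, ∃ i ∈ oc z ⊓ oc y, M.bar i = M.mv y j
  only : ∀ x ∈ centralizer ({z} : Set G), Commute x y → x * x ∈ oc z →
    (∀ a ∈ oc z, M.Fx y a → ∃ j ∈ oc z, M.mv x a = M.mv y j) →
    (moved (M.rho x)).toFinset.card = 4 → x⁻¹ * y ∈ oc z

/-- The first special possibility of a reducible configuration. -/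
structure Kind2 (M : Mod C z) (y : G) : Prop where
  fix : M.FixComm y
  wit : ∃ a ∈ oc z, Commute a y ∧ a ∉ oc y ∧ a * z ∉ oc y ∧
    ∀ b ∈ oc y ⊓ centralizer ({z} : Set G), Commute a b
  only : ∀ x ∈ centralizer ({z} : Set G), Commute x y → (x * x ∈ oc z ∨ x * x = y) →
    (∀ a ∈ oc z, M.Fx y a → M.Fx x a) → x ∈ oc z ∨ x⁻¹ * y ∈ oc z

/-- The second special possibility of a reducible configuration. -/
structure Kind3 (M : Mod C z) (y : G) : Prop where
  card : Nat.card ↥(oc z ⊓ oc y) = 1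
  wit : ∃ k ∈ oc z, M.Fx y k ∧ ¬Commute k y
  fix : ∀ b ∈ oc y ⊓ centralizer ({z} : Set G), ∀ k ∈ oc z, M.Fx y k → M.Fx b k

/-- The kinds by number. -/
def KindP (M : Mod C z) (y : G) : ℕ → Prop
  | 1 => M.Kind1 y
  | 2 => M.Kind2 y
  | 3 => M.Kind3 y
  | _ => False

/-- The bounds for one side. -/
def Side (M : Mod C z) (y : G) (o : Out) : Prop :=
  (∃ h, Gen C.gens h ∧ cmp (M.rho y) h = cmp h o.1.c) ∧
    2 * o.2.1 ≤ Nat.card ↥(oc z ⊓ centralizer ({y} : Set G)) ∧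
    (Nat.card ↥(oc y ⊓ centralizer ({z} : Set G)) ≤ o.2.2.1 ∨
      (Nat.card ↥(oc y ⊓ centralizer ({z} : Set G)) ≤ o.2.2.2.1 ∧ M.KindP y o.2.2.2.2))

variable [Finite G] (M : Mod C z)
include M

theorem fx_iff {y a : G} (hy : y ∈ centralizer ({z} : Set G)) (ha : a ∈ oc z) :
    M.Fx y a ↔ app (M.rho y) (M.bar a) = M.bar a := by
  rw [Fx, M.rho_act y hy a ha]

theorem mv_eq {y j : G} (hy : y ∈ centralizer ({z} : Set G)) (hj : j ∈ oc z) :
    M.mv y j = app (M.rho y) (M.bar j) ^^^ M.bar j := by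
  rw [mv, M.bar_mul _ (M.oc_norm hy hj) _ (inv_mem hj), M.rho_act y hy j hj, M.bar_inv hj]

theorem mem_moved {y : G} (hy : y ∈ centralizer ({z} : Set G)) (v : ℕ) :
    v ∈ moved (M.rho y) ↔ ∃ j ∈ oc z, v = M.mv y j := by
  constructor
  · intro h
    obtain ⟨w, hw, rfl⟩ := List.mem_map.1 h
    obtain ⟨j, hj, rfl⟩ := M.bar_surj w (List.mem_range.1 hw)
    exact ⟨j, hj, (M.mv_eq hy hj).symm⟩
  · rintro ⟨j, hj, rfl⟩
    exact List.mem_map.2 ⟨M.bar j, List.mem_range.2 (M.bar_lt j), (M.mv_eq hy hj).symm⟩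

omit M in
/-- Orders of subgroups that correspond under conjugation. -/
theorem card_conj {X Y : Subgroup G} (k : G) (h : ∀ a, a ∈ X ↔ k * a * k⁻¹ ∈ Y) :
    Nat.card ↥X = Nat.card ↥Y :=
  Nat.card_congr
    { toFun := fun a => ⟨k * a * k⁻¹, (h a).1 a.2⟩
      invFun := fun a => ⟨k⁻¹ * a * k, (h _).2 (by
        rw [show k * (k⁻¹ * a * k) * k⁻¹ = a by group]; exact a.2)⟩
      left_inv := fun a => Subtype.ext (by
        show k⁻¹ * (k * a * k⁻¹) * k = a
        group)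
      right_inv := fun a => Subtype.ext (by
        show k * (k⁻¹ * a * k) * k⁻¹ = a
        group) }

omit M in
theorem mem_oc_conj (k x a : G) : a ∈ oc x ↔ k * a * k⁻¹ ∈ oc (k * x * k⁻¹) := by
  refine ⟨conj_mem_oc, fun h => ?_⟩
  have h2 := conj_mem_oc (g := k⁻¹) h
  simp only [inv_inv] at h2
  rwa [show k⁻¹ * (k * x * k⁻¹) * k = x by group, show k⁻¹ * (k * a * k⁻¹) * k = a by group] at h2

omit M in
theorem mem_cent_conj (k x a : G) : a ∈ centralizer ({x} : Set G) ↔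
    k * a * k⁻¹ ∈ centralizer ({k * x * k⁻¹} : Set G) := by
  rw [mem_centralizer_singleton_iff, mem_centralizer_singleton_iff, conjm, conjm]
  exact ⟨fun h => by rw [h], fun h => mul_left_cancel (mul_right_cancel h)⟩

omit M in
theorem kzk {k : G} (hk : k ∈ centralizer ({z} : Set G)) : k * z * k⁻¹ = z := by
  rw [mem_centralizer_singleton_iff.1 hk, mul_inv_cancel_right]

omit M in
theorem mem_ocz_conj {k : G} (hk : k ∈ centralizer ({z} : Set G)) (a : G) :
    a ∈ oc z ↔ k * a * k⁻¹ ∈ oc z := by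
  conv_rhs => rw [show oc z = oc (k * z * k⁻¹) by rw [kzk hk]]
  exact mem_oc_conj k z a

theorem bar_conj_congr {k a b : G} (hk : k ∈ centralizer ({z} : Set G)) (ha : a ∈ oc z)
    (hb : b ∈ oc z) (h : M.bar a = M.bar b) : M.bar (k * a * k⁻¹) = M.bar (k * b * k⁻¹) := by
  rw [M.rho_act k hk a ha, M.rho_act k hk b hb, h]

theorem fx_conj {k y a : G} (hk : k ∈ centralizer ({z} : Set G))
    (hy : y ∈ centralizer ({z} : Set G)) (ha : a ∈ oc z) :
    M.Fx y a ↔ M.Fx (k * y * k⁻¹) (k * a * k⁻¹) := by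
  have e : k * y * k⁻¹ * (k * a * k⁻¹) * (k * y * k⁻¹)⁻¹ = k * (y * a * y⁻¹) * k⁻¹ := by group
  rw [Fx, Fx, e]
  refine ⟨M.bar_conj_congr hk (M.oc_norm hy ha) ha, fun h => ?_⟩
  have h2 := M.bar_conj_congr (inv_mem hk) (M.oc_norm hk (M.oc_norm hy ha)) (M.oc_norm hk ha) h
  simp only [inv_inv] at h2
  rwa [show k⁻¹ * (k * (y * a * y⁻¹) * k⁻¹) * k = y * a * y⁻¹ by group,
    show k⁻¹ * (k * a * k⁻¹) * k = a by group] at h2

theorem mv_conj {k y x j i : G} (hk : k ∈ centralizer ({z} : Set G))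
    (hy : y ∈ centralizer ({z} : Set G)) (hj : j ∈ oc z) (hi : i ∈ oc z)
    (hx : x ∈ centralizer ({z} : Set G)) :
    M.mv x i = M.mv y j →
      M.mv (k * x * k⁻¹) (k * i * k⁻¹) = M.mv (k * y * k⁻¹) (k * j * k⁻¹) := by
  intro h
  have e : ∀ u v : G, k * u * k⁻¹ * (k * v * k⁻¹) * (k * u * k⁻¹)⁻¹ * (k * v * k⁻¹)⁻¹ =
      k * (u * v * u⁻¹ * v⁻¹) * k⁻¹ := fun u v => by group
  rw [mv, mv, e, e]
  exact M.bar_conj_congr hk (mul_mem (M.oc_norm hx hi) (inv_mem hi))
    (mul_mem (M.oc_norm hy hj) (inv_mem hj)) h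

/-- The profile, in invariant form. -/
theorem side {outs : List Out} (hF : Facts C outs) (hex : ∀ o ∈ outs, o.extraOK = true) {g : G}
    (hy : g * z * g⁻¹ ∈ centralizer ({z} : Set G)) (hyn : g * z * g⁻¹ ∉ oc z) :
    ∃ o ∈ outs, M.Side (g * z * g⁻¹) o := by
  classical
  set y := g * z * g⁻¹ with hydef
  have hyy : y * y = 1 := (M.conj g).zz
  have hr1 : M.rho y ≠ idm := fun e => hyn ((M.rho_ker y hy).1 e)
  have hr2 : cmp (M.rho y) (M.rho y) = idm := by
    rw [← M.rho_mul y hy y hy, hyy, M.rho_one]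
  obtain ⟨o, ho, h, hh, hconj⟩ := hF.cls _ (M.rho_gen y hy) hr1 hr2
  obtain ⟨k, hk, rfl⟩ := M.exists_rho hh
  set g' := k⁻¹ * g with hg'
  have hy'e : g' * z * g'⁻¹ = k⁻¹ * y * k := by rw [hg', hydef]; group
  have hy'C : g' * z * g'⁻¹ ∈ centralizer ({z} : Set G) := by
    rw [hy'e]; exact mul_mem (mul_mem (inv_mem hk) hy) hk
  have hye : k * (g' * z * g'⁻¹) * k⁻¹ = y := by rw [hy'e]; group
  have hy'n : g' * z * g'⁻¹ ∉ oc z := fun e => hyn (hye ▸ M.oc_norm hk e)
  have hrho : M.rho (g' * z * g'⁻¹) = o.1.c := by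
    have hc : IsCode o.1.c := by
      have := hex o ho
      simp only [Out.extraOK, Bool.and_eq_true, decide_eq_true_eq] at this
      exact this.2
    rw [hy'e, M.rho_mul _ (mul_mem (inv_mem hk) hy) k hk, M.rho_mul _ (inv_mem hk) y hy, cmp_assoc,
      hconj, ← cmp_assoc, (M.rho_cancel hk).2, idm_cmp hc]
  obtain ⟨Ab, L, hAbnd, hLnd, hAb, hI, hG, hP, hA, hB⟩ :=
    M.profile hF.covered (hF.hyp o ho) hy'C hy'n hrho
  have hzn := M.z_notMem hF.covered hy'n
  set y' := g' * z * g'⁻¹ with hy'def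
  clear_value y' y
  have cA : Nat.card ↥(oc z ⊓ centralizer ({y} : Set G)) = 2 * Ab.length := by
    rw [← hA]
    refine (card_conj k fun a => ?_).symm
    rw [Subgroup.mem_inf, Subgroup.mem_inf, ← mem_ocz_conj hk a, ← hye, ← mem_cent_conj]
  have cB : Nat.card ↥(oc y ⊓ centralizer ({z} : Set G)) ≤
      (o.1.G Ab L).length * L.length := by
    refine le_trans (le_of_eq (card_conj k fun a => ?_).symm) hB
    rw [Subgroup.mem_inf, Subgroup.mem_inf, ← hye, ← mem_oc_conj, mem_cent_conj k z a, kzk hk]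
  simp only [rowP, Bool.and_eq_true, Bool.or_eq_true, decide_eq_true_eq] at hP
  refine ⟨o, ho, ⟨M.rho k, hh, hconj⟩, by rw [cA]; omega, ?_⟩
  rcases hP.2 with hN | ⟨hS, hkind⟩
  · exact Or.inl (le_trans cB hN)
  refine Or.inr ⟨le_trans cB hS, ?_⟩
  -- the elements over `Ab`, `L` and the maps
  have hok := (hF.hyp o ho).ok
  have hKmem : ∀ v, v ∈ o.1.K ↔ v < 256 ∧ app o.1.c v = v := fun v => by
    simp [OutCase.K, List.mem_filter, Nat.beq_eq]
  have hAmem : ∀ a ∈ oc z, (M.bar a ∈ Ab ↔ Commute a y') := by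
    intro a ha
    constructor
    · intro hm
      obtain ⟨b, hb, e⟩ : M.bar a ∈ M.bar '' ((oc z ⊓ centralizer ({y'} : Set G) : Subgroup G) :
          Set G) := by rw [hAb]; exact hm
      have hb' : b ∈ centralizer ({y'} : Set G) := hb.2
      rcases (M.bar_eq_iff hb.1 ha).1 e with rfl | rfl
      · exact mem_centralizer_singleton_iff.1 hb'
      · exact Commute.mul_left (mem_centralizer_singleton_iff.1 hb') (M.commz hy'C).symm
    · intro hc
      have : M.bar a ∈ {x | x ∈ Ab} := hAb ▸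
        ⟨a, Subgroup.mem_inf.2 ⟨ha, mem_centralizer_singleton_iff.2 hc.eq⟩, rfl⟩
      exact this
  have hImem : ∀ i ∈ oc z ⊓ oc y', M.bar i ∈ L := by
    intro i hi
    have : M.bar i ∈ {x | x ∈ L} := hI ▸ ⟨i, hi, rfl⟩
    exact this
  have hLmem : ∀ v ∈ L, ∃ i ∈ oc z ⊓ oc y', M.bar i = v := by
    intro v hv
    obtain ⟨i, hi, e⟩ : v ∈ M.bar '' ((oc z ⊓ oc y' : Subgroup G) : Set G) := by
      rw [hI]; exact hv
    exact ⟨i, hi, e⟩
  have hAbK : ∀ v ∈ Ab, v ∈ o.1.K := by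
    intro v hv
    obtain ⟨a, ha, rfl⟩ : v ∈ M.bar '' ((oc z ⊓ centralizer ({y'} : Set G) : Subgroup G) :
        Set G) := by rw [hAb]; exact hv
    refine (hKmem _).2 ⟨M.bar_lt a, ?_⟩
    rw [← hrho, ← M.rho_act y' hy'C a ha.1, ← (mem_centralizer_singleton_iff.1 ha.2),
      mul_inv_cancel_right]
  have hKnd : o.1.K.Nodup := List.nodup_range.filter _
  have cI : Nat.card ↥(oc z ⊓ oc y) = L.length := by
    rw [(card_conj k fun a => by
      rw [Subgroup.mem_inf, Subgroup.mem_inf, ← mem_ocz_conj hk a, ← hye, ← mem_oc_conj] :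
        Nat.card ↥(oc z ⊓ oc y') = Nat.card ↥(oc z ⊓ oc y)).symm,
      card_fibres M.bar (oc z ⊓ oc y') ⊥ bot_le fun a ha b hb => ?_, Subgroup.card_bot, mul_one, hI,
      show {x | x ∈ L} = (L.toFinset : Set ℕ) by ext; simp, Set.ncard_coe_finset,
      List.toFinset_card_of_nodup hLnd]
    rw [Subgroup.mem_bot]
    refine ⟨fun e => ?_, fun e => by rw [inv_mul_eq_one.1 e]⟩
    rcases (M.bar_eq_iff ha.1 hb.1).1 e with e' | e'
    · rw [e', inv_mul_cancel]
    · exfalso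
      refine hzn ?_
      have := mul_mem (inv_mem (show a ∈ oc y' from ha.2)) (show b ∈ oc y' from hb.2)
      rwa [e', inv_mul_cancel_left] at this
  -- back to `y`
  have back : ∀ a ∈ oc z, k⁻¹ * a * k ∈ oc z := fun a ha => by
    simpa using M.oc_norm (inv_mem hk) ha
  have backC : ∀ a ∈ centralizer ({z} : Set G), k⁻¹ * a * k ∈ centralizer ({z} : Set G) :=
    fun a ha => mul_mem (mul_mem (inv_mem hk) ha) hk
  have fwd : ∀ a, k * (k⁻¹ * a * k) * k⁻¹ = a := fun a => by group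
  have comm_back : ∀ a b, Commute (k⁻¹ * a * k) (k⁻¹ * b * k) ↔ Commute a b := by
    intro a b
    rw [Commute, SemiconjBy, show k⁻¹ * a * k * (k⁻¹ * b * k) = k⁻¹ * (a * b) * k by group,
      show k⁻¹ * b * k * (k⁻¹ * a * k) = k⁻¹ * (b * a) * k by group, mul_left_inj, mul_right_inj]
    rfl
  have hFy : ∀ a ∈ oc z, M.Fx y a ↔ M.bar (k⁻¹ * a * k) ∈ o.1.K := by
    intro a ha
    conv_lhs => rw [← hye, ← fwd a]
    rw [← M.fx_conj hk hy'C (back a ha), M.fx_iff hy'C (back a ha), hrho, hKmem]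
    simp [M.bar_lt]
  have hy'b : y' = k⁻¹ * y * k := hy'e
  have hFix : (Ab.length = o.1.K.length) → M.FixComm y := by
    intro hlen a ha hfx
    have hsub : o.1.K ⊆ Ab :=
      (List.subperm_of_subset hAbnd hAbK).perm_of_length_le hlen.ge |>.symm.subset
    have := (hAmem _ (back a ha)).1 (hsub ((hFy a ha).1 hfx))
    rwa [hy'b, comm_back] at this
  have hex' := hex o ho
  simp only [Out.extraOK, Bool.and_eq_true, Bool.or_eq_true, Bool.not_eq_true', ← Bool.not_eq_true,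
    Nat.beq_eq, List.all_eq_true, mem_iff] at hex'
  obtain ⟨⟨hex1, hex2⟩, -⟩ := hex'
  simp only [Nat.beq_eq, List.all_eq_true, List.any_eq_true, mem_iff, Bool.and_eq_true,
    Bool.not_eq_true', ← Bool.not_eq_true] at hkind
  have hSmem : ∀ x ∈ centralizer ({z} : Set G), Commute x y → (x * x ∈ oc z ∨ x * x = y) →
      M.rho (k⁻¹ * x * k) ∈ o.1.S := by
    intro x hx hxy hsq
    have hx' := backC x hx
    have e2 : k⁻¹ * x * k * (k⁻¹ * x * k) = k⁻¹ * (x * x) * k := by group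
    refine (hF.hyp o ho).S_all _ (M.rho_gen _ hx') ?_ ?_
    · rw [← hrho, ← M.rho_mul _ hx' y' hy'C, ← M.rho_mul y' hy'C _ hx', hy'b,
        ((comm_back x y).2 hxy).eq]
    · rw [← M.rho_mul _ hx' _ hx', e2]
      rcases hsq with e | e
      · exact Or.inl ((M.rho_ker _ (backC _ (oc_le z e))).2 (back _ e))
      · right; rw [e, ← hy'b, hrho]
  rcases hkind with (⟨⟨⟨hk1, hlen⟩, hL4⟩, hLT⟩ | ⟨⟨hk2, hlen⟩, w, hw, hwL, hwG⟩) |
      ⟨⟨⟨hk3, hL1⟩, hlen⟩, hGK⟩
  · rw [hk1]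
    obtain ⟨hm4, htr⟩ := hex1.resolve_left (fun e => e hk1)
    have hTL : ∀ v ∈ o.1.T, v ∈ L := by
      intro v hv
      have hsub : L.toFinset ⊆ (moved o.1.c).toFinset := fun x hx =>
        List.mem_toFinset.2 (T_subset_moved hok x (hLT x (List.mem_toFinset.1 hx)))
      have heq := Finset.eq_of_subset_of_card_le hsub (by
        rw [List.toFinset_card_of_nodup hLnd, hm4, hL4])
      rw [← List.mem_toFinset, heq, List.mem_toFinset]
      exact T_subset_moved hok v hv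
    have hmv : ∀ j ∈ oc z, M.mv y' j ∈ o.1.T := fun j hj =>
      moved_subset_T hok _ (hrho ▸ (M.mem_moved hy'C _).2 ⟨j, hj, rfl⟩)
    refine ⟨hFix hlen, by rw [cI, hL4], ?_, ?_, ?_⟩
    · intro i hi
      have hi' : k⁻¹ * i * k ∈ oc z ⊓ oc y' := Subgroup.mem_inf.2
        ⟨back i hi.1, by rw [mem_oc_conj k, fwd, hye]; exact hi.2⟩
      obtain ⟨j, hj, e⟩ := (M.mem_moved hy'C _).1
        (hrho ▸ T_subset_moved hok _ (hLT _ (hImem _ hi')))
      refine ⟨k * j * k⁻¹, M.oc_norm hk hj, ?_⟩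
      have h2 : M.bar (k * (k⁻¹ * i * k) * k⁻¹) = M.bar (k * (y' * j * y'⁻¹ * j⁻¹) * k⁻¹) :=
        M.bar_conj_congr hk hi'.1 (mul_mem (M.oc_norm hy'C hj) (inv_mem hj)) e
      rw [fwd] at h2
      rw [h2, mv, ← hye]
      exact congrArg M.bar (by group)
    · intro j hj
      obtain ⟨i, hi, e⟩ := hLmem _ (hTL _ (hmv _ (back j hj)))
      refine ⟨k * i * k⁻¹, Subgroup.mem_inf.2 ⟨M.oc_norm hk hi.1, hye ▸ (mem_oc_conj k _ _).1 hi.2⟩,
        ?_⟩
      have h2 : M.bar (k * i * k⁻¹) =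
          M.bar (k * (y' * (k⁻¹ * j * k) * y'⁻¹ * (k⁻¹ * j * k)⁻¹) * k⁻¹) :=
        M.bar_conj_congr hk hi.1 (mul_mem (M.oc_norm hy'C (back j hj)) (inv_mem (back j hj))) e
      rw [h2, mv, ← hye]
      exact congrArg M.bar (by group)
    · intro x hx hxy hsq hfx hcard
      obtain ⟨x', hx'def⟩ : ∃ x', x' = k⁻¹ * x * k := ⟨_, rfl⟩
      have hx' : x' ∈ centralizer ({z} : Set G) := hx'def ▸ backC x hx
      have hT' : ∀ w ∈ o.1.K, app (M.rho x') w ^^^ w ∈ o.1.T := by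
        intro w hw
        obtain ⟨a, ha, rfl⟩ := M.bar_surj w ((hKmem w).1 hw).1
        rw [← M.mv_eq hx' ha]
        have hfa : M.Fx y (k * a * k⁻¹) := by
          rw [hFy _ (M.oc_norm hk ha), show k⁻¹ * (k * a * k⁻¹) * k = a by group]; exact hw
        obtain ⟨j, hj, e⟩ := hfx _ (M.oc_norm hk ha) hfa
        have h2 := M.mv_conj (inv_mem hk) hy hj (M.oc_norm hk ha) hx e
        simp only [inv_inv] at h2
        rw [show k⁻¹ * (k * a * k⁻¹) * k = a by group] at h2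
        rw [hx'def, h2, ← hy'b]
        exact hmv _ (back j hj)
      have hc4 : (moved (M.rho x')).toFinset.card = 4 := by
        rw [← hcard]
        refine Finset.card_bij' (fun v _ => app (M.rho k) v) (fun v _ => app (M.rho k⁻¹) v)
          ?_ ?_ ?_ ?_
        · intro v hv
          rw [List.mem_toFinset] at hv ⊢
          obtain ⟨j, hj, rfl⟩ := (M.mem_moved hx' v).1 hv
          refine (M.mem_moved hx _).2 ⟨k * j * k⁻¹, M.oc_norm hk hj, ?_⟩
          rw [mv, mv, ← M.rho_act k hk _ (mul_mem (M.oc_norm hx' hj) (inv_mem hj)), hx'def]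
          exact congrArg M.bar (by group)
        · intro v hv
          rw [List.mem_toFinset] at hv ⊢
          obtain ⟨j, hj, rfl⟩ := (M.mem_moved hx v).1 hv
          refine (M.mem_moved hx' _).2 ⟨k⁻¹ * j * k, back j hj, ?_⟩
          rw [mv, mv, ← M.rho_act k⁻¹ (inv_mem hk) _ (mul_mem (M.oc_norm hx hj) (inv_mem hj)),
            hx'def]
          exact congrArg M.bar (by group)
        · intro v hv
          rw [← app_cmp, (M.rho_cancel hk).2, app_idm]
          obtain ⟨u, hu, rfl⟩ := List.mem_map.1 (List.mem_toFinset.1 hv)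
          exact Nat.xor_lt_two_pow (n := 8) (app_lt _ _) (List.mem_range.1 hu)
        · intro v hv
          rw [← app_cmp, (M.rho_cancel hk).1, app_idm]
          obtain ⟨u, hu, rfl⟩ := List.mem_map.1 (List.mem_toFinset.1 hv)
          exact Nat.xor_lt_two_pow (n := 8) (app_lt _ _) (List.mem_range.1 hu)
      have he : M.rho x' = o.1.c := by
        have hS' : M.rho x' ∈ o.1.S := by rw [hx'def]; exact hSmem x hx hxy (Or.inl hsq)
        rcases htr _ hS' with (e | e) | e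
        · exact absurd hT' e
        · exact absurd hc4 e
        · exact e
      rw [← hrho, M.rho_inj hx' hy'C] at he
      rw [mem_ocz_conj (inv_mem hk), inv_inv]
      rw [hx'def, hy'b] at he
      rwa [show k⁻¹ * (x⁻¹ * y) * k = (k⁻¹ * x * k)⁻¹ * (k⁻¹ * y * k) by group]
  · rw [hk2]
    have hpt := hex2.resolve_left (fun e => e hk2)
    obtain ⟨a, ha, rfl⟩ := M.bar_surj w ((hKmem w).1 (hAbK w hw)).1
    have hay : Commute a y' := (hAmem a ha).1 hw
    refine ⟨hFix hlen, ⟨k * a * k⁻¹, M.oc_norm hk ha, ?_, ?_, ?_, ?_⟩, ?_⟩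
    · rw [← hye, Commute, SemiconjBy, conjm, conjm, hay.eq]
    · intro e
      rw [← hye, ← mem_oc_conj] at e
      exact hwL (hImem a (Subgroup.mem_inf.2 ⟨ha, e⟩))
    · intro e
      rw [← hye, show k * a * k⁻¹ * z = k * (a * z) * k⁻¹ by
        conv_lhs => rw [← kzk hk]
        group, ← mem_oc_conj] at e
      exact hwL (M.bar_mul_z ha ▸
        hImem (a * z) (Subgroup.mem_inf.2 ⟨mul_mem ha M.z_mem, e⟩))
    · intro b hb
      set b' := k⁻¹ * b * k with hb'def
      have hb1 : b' ∈ oc y' := by rw [mem_oc_conj k, hb'def, fwd, hye]; exact hb.1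
      have hb2 : b' ∈ centralizer ({z} : Set G) := backC b hb.2
      have hgm : M.rho b' ∈ o.1.G Ab L :=
        hG ⟨b', Subgroup.mem_inf.2 ⟨hb1, hb2⟩, rfl⟩
      have hfix := hwG _ hgm
      rw [← M.rho_act b' hb2 a ha] at hfix
      have hd : b' * a * b'⁻¹ * a⁻¹ = 1 := by
        have h0 : M.bar (b' * a * b'⁻¹ * a⁻¹) = 0 := by
          rw [M.bar_mul _ (M.oc_norm hb2 ha) _ (inv_mem ha), M.bar_inv ha, hfix, Nat.xor_self]
        rcases M.bar_eq _ (mul_mem (M.oc_norm hb2 ha) (inv_mem ha)) h0 with e | e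
        · exact e
        · exfalso
          refine hzn ?_
          rw [← e, show b' * a * b'⁻¹ * a⁻¹ = b' * (a * b'⁻¹ * a⁻¹) by group]
          exact mul_mem hb1 (oc_conj_mem (mem_centralizer_singleton_iff.2 hay.eq) (inv_mem hb1))
      have hc : Commute a b' := (M.commute_of_comm hd).symm
      rw [← comm_back, show k⁻¹ * (k * a * k⁻¹) * k = a by group]
      exact hc
    · intro x hx hxy hsq hfx
      obtain ⟨x', hx'def⟩ : ∃ x', x' = k⁻¹ * x * k := ⟨_, rfl⟩
      have hx' : x' ∈ centralizer ({z} : Set G) := hx'def ▸ backC x hx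
      have hK' : ∀ w ∈ o.1.K, app (M.rho x') w = w := by
        intro w hw
        obtain ⟨b, hb, rfl⟩ := M.bar_surj w ((hKmem w).1 hw).1
        have hfb : M.Fx y (k * b * k⁻¹) := by
          rw [hFy _ (M.oc_norm hk hb), show k⁻¹ * (k * b * k⁻¹) * k = b by group]; exact hw
        have := hfx _ (M.oc_norm hk hb) hfb
        rw [← fwd x, ← hx'def, ← M.fx_conj hk hx' hb] at this
        exact (M.fx_iff hx' hb).1 this
      have hS' : M.rho x' ∈ o.1.S := by rw [hx'def]; exact hSmem x hx hxy hsq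
      rcases hpt _ hS' with (e | e) | e
      · exact absurd hK' e
      · left
        rw [mem_ocz_conj (inv_mem hk), inv_inv]
        exact hx'def ▸ (M.rho_ker _ hx').1 e
      · right
        rw [← hrho, M.rho_inj hx' hy'C, hx'def, hy'b] at e
        rw [mem_ocz_conj (inv_mem hk), inv_inv]
        rwa [show k⁻¹ * (x⁻¹ * y) * k = (k⁻¹ * x * k)⁻¹ * (k⁻¹ * y * k) by group]
  · rw [hk3]
    refine ⟨by rw [cI, hL1], ?_, ?_⟩
    · obtain ⟨v, hv, hvA⟩ : ∃ v ∈ o.1.K, v ∉ Ab := by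
        by_contra hc
        push Not at hc
        have := (List.subperm_of_subset hKnd hc).length_le
        omega
      obtain ⟨a, ha, rfl⟩ := M.bar_surj v ((hKmem v).1 hv).1
      refine ⟨k * a * k⁻¹, M.oc_norm hk ha, ?_, fun e => hvA ((hAmem a ha).2 ?_)⟩
      · rw [hFy _ (M.oc_norm hk ha), show k⁻¹ * (k * a * k⁻¹) * k = a by group]; exact hv
      · rw [← comm_back, show k⁻¹ * (k * a * k⁻¹) * k = a by group, ← hy'b] at e; exact e
    · intro b hb j hj hfx
      set b' := k⁻¹ * b * k with hb'def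
      have hb1 : b' ∈ oc y' := by rw [mem_oc_conj k, hb'def, fwd, hye]; exact hb.1
      have hb2 : b' ∈ centralizer ({z} : Set G) := backC b hb.2
      have hgm : M.rho b' ∈ o.1.G Ab L :=
        hG ⟨b', Subgroup.mem_inf.2 ⟨hb1, hb2⟩, rfl⟩
      have hfix := hGK _ hgm _ ((hFy j hj).1 hfx)
      rw [← fwd b, ← fwd j]
      exact (M.fx_conj hk hb2 (back j hj)).1 ((M.fx_iff hb2 (back j hj)).2 hfix)

end Mod

end Cfsg.Agent.U62Rec
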