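import Cfsg.Agent.U62Rec.Mod

/-!
# Orbit tables

A table lists transversal maps with their inverses and a list closed under composition; it proves
that every generated map is a transversal map followed by a listed one.
-/

set_option autoImplicit false

namespace Cfsg.Agent.U62Rec

/-- Membership in a list of numbers. -/
def mem (x : ℕ) (L : List ℕ) : Bool := L.any fun y => Nat.beq x y

theorem mem_iff {x : ℕ} {L : List ℕ} : mem x L = true ↔ x ∈ L := by
  simp [mem, List.any_eq_true, Nat.beq_eq]

theorem getD_gen {gens : List ℕ} (hc : ∀ g ∈ gens, IsCode g) (i : ℕ) :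
    Gen gens (gens.getD i idm) := by
  rw [List.getD_eq_getElem?_getD]
  cases h : gens[i]? with
  | none => exact Gen.one
  | some g => exact Gen.of_mem hc (List.mem_of_getElem? h)

/-- Search trees. -/
inductive Tree
  | leaf
  | node (l : Tree) (x : ℕ) (r : Tree)

/-- Search. -/
def Tree.mem (v : ℕ) : Tree → Bool
  | .leaf => false
  | .node l x r => bif Nat.beq v x then true else bif Nat.ble v x then l.mem v else r.mem v

/-- A predicate on all entries. -/
def Tree.all (p : ℕ → Bool) : Tree → Bool
  | .leaf => true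
  | .node l x r => p x && l.all p && r.all p

theorem Tree.prop_of_mem {p : ℕ → Bool} {v : ℕ} :
    ∀ {t : Tree}, t.all p = true → t.mem v = true → p v = true
  | .leaf, _, h => by simp [Tree.mem] at h
  | .node l x r, ha, h => by
    simp only [Tree.all, Bool.and_eq_true] at ha
    simp only [Tree.mem] at h
    cases e : Nat.beq v x with
    | true => rw [Nat.beq_eq] at e; rw [e]; exact ha.1.1
    | false =>
      rw [e] at h
      cases e' : Nat.ble v x <;> rw [e'] at h
      exacts [Tree.prop_of_mem ha.2 h, Tree.prop_of_mem ha.1.2 h]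

/-- Insertion. -/
def Tree.ins : Tree → ℕ → Tree
  | .leaf, v => .node .leaf v .leaf
  | .node l x r, v =>
    bif Nat.beq v x then .node l x r
      else bif Nat.ble v x then .node (l.ins v) x r else .node l x (r.ins v)

/-- A tree of the entries of a list. -/
def Tree.build (L : List ℕ) : Tree := L.foldl Tree.ins .leaf

theorem Tree.all_ins {p : ℕ → Bool} {v : ℕ} (hv : p v = true) :
    ∀ {t : Tree}, t.all p = true → (t.ins v).all p = true
  | .leaf, _ => by simp [Tree.ins, Tree.all, hv]
  | .node l x r, h => by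
    simp only [Tree.all, Bool.and_eq_true] at h
    simp only [Tree.ins]
    cases Nat.beq v x
    · cases Nat.ble v x
      · simp [Tree.all, h.1.1, h.1.2, Tree.all_ins hv h.2]
      · simp [Tree.all, h.1.1, h.2, Tree.all_ins hv h.1.2]
    · simp [Tree.all, h.1.1, h.1.2, h.2]

theorem Tree.mem_build {L : List ℕ} {v : ℕ} (h : (Tree.build L).mem v = true) : v ∈ L := by
  have key : ∀ (M : List ℕ) (t : Tree), (∀ x ∈ M, Cfsg.Agent.U62Rec.mem x L = true) →
      t.all (fun x => Cfsg.Agent.U62Rec.mem x L) = true →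
      (M.foldl Tree.ins t).all (fun x => Cfsg.Agent.U62Rec.mem x L) = true := by
    intro M
    induction M with
    | nil => exact fun t _ ht => ht
    | cons a M ih =>
      exact fun t hM ht => ih _ (fun x hx => hM x (List.mem_cons_of_mem _ hx))
        (Tree.all_ins (hM a List.mem_cons_self) ht)
  exact mem_iff.1 (Tree.prop_of_mem (key L .leaf (fun x hx => mem_iff.2 hx) rfl) h)

/-- Every entry is a generator followed by an earlier entry. -/
def chain (gens : List ℕ) : List (ℕ × ℕ × ℕ) → List ℕ → Bool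
  | [], _ => true
  | (c, i, j) :: r, acc =>
      Nat.beq c (cmp (gens.getD i idm) (acc.getD j idm)) && chain gens r (c :: acc)

theorem chain_induct {gens : List ℕ} {P : ℕ → Prop} (h1 : P idm)
    (hs : ∀ i x, P x → P (cmp (gens.getD i idm) x)) :
    ∀ (L : List (ℕ × ℕ × ℕ)) (acc : List ℕ), (∀ x ∈ acc, P x) → chain gens L acc = true →
      ∀ e ∈ L, P e.1
  | [], _, _, _ => by simp
  | (c, i, j) :: r, acc, hacc, h => by
      simp only [chain, Bool.and_eq_true, Nat.beq_eq] at h
      have hj : P (acc.getD j idm) := by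
        rw [List.getD_eq_getElem?_getD]
        cases hj : acc[j]? with
        | none => exact h1
        | some g => exact hacc g (List.mem_of_getElem? hj)
      have hc : P c := h.1 ▸ hs i _ hj
      intro e he
      rcases List.mem_cons.1 he with rfl | he
      · exact hc
      · refine chain_induct h1 hs r (c :: acc) (fun x hx => ?_) h.2 e he
        rcases List.mem_cons.1 hx with rfl | hx
        exacts [hc, hacc x hx]

/-- Inverses among the generated maps. -/
def invOK (gens ginv : List ℕ) : Bool :=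
  (gens.zip ginv).all (fun p => (Nat.beq p.2 p.1 || Nat.beq p.2 (cmp p.1 p.1)) &&
    Nat.beq (cmp p.1 p.2) idm) && Nat.beq gens.length ginv.length

theorem ginv_gen {gens ginv : List ℕ} (hc : ∀ g ∈ gens, IsCode g) (h : invOK gens ginv = true)
    (i : ℕ) : Gen gens (ginv.getD i idm) := by
  simp only [invOK, Bool.and_eq_true, List.all_eq_true, Bool.or_eq_true, Nat.beq_eq] at h
  obtain ⟨h, hl⟩ := h
  rw [List.getD_eq_getElem?_getD]
  cases e : ginv[i]? with
  | none => exact Gen.one
  | some b =>
    obtain ⟨hi, rfl⟩ := List.getElem?_eq_some_iff.1 e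
    have hi' : i < gens.length := hl ▸ hi
    have hm : (gens[i], ginv[i]) ∈ gens.zip ginv := by
      have hz : i < (gens.zip ginv).length := by simp [hi, hi']
      simpa using List.getElem_mem hz
    have hg : Gen gens gens[i] := Gen.of_mem hc (List.getElem_mem hi')
    simp only [Option.getD_some]
    rcases (h _ hm).1 with h1 | h1 <;> simp only at h1
    · rw [h1]; exact hg
    · rw [h1]; exact hg.mul hg

/-- The data of a table. -/
structure Tab where
  /-- transversal: map, inverse, generator, offset of the parent -/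
  tr : List (ℕ × ℕ × ℕ × ℕ)
  /-- for each transversal map and generator the index of the next transversal map -/
  nxt : List (List ℕ)
  /-- Schreier generators: code, generator, transversal index -/
  sg : List (ℕ × ℕ × ℕ)
  /-- the listed maps: code, Schreier generator, offset of the parent -/
  st : List (ℕ × ℕ × ℕ)
  /-- a search tree of the listed maps -/
  tree : Tree

/-- The transversal maps. -/
def Tab.ts (T : Tab) : List (ℕ × ℕ) := (idm, idm) :: T.tr.map fun e => (e.1, e.2.1)

/-- The listed maps. -/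
def Tab.S (T : Tab) : List ℕ := idm :: T.st.map (·.1)

/-- The Schreier generators. -/
def Tab.A (T : Tab) : List ℕ := T.sg.map (·.1)

/-- The chain condition on the transversal. -/
def chain2 (gens ginv : List ℕ) : List (ℕ × ℕ × ℕ × ℕ) → List (ℕ × ℕ) → Bool
  | [], _ => true
  | (t, u, i, j) :: r, acc =>
      (let p := acc.getD j (idm, idm)
       Nat.beq t (cmp (gens.getD i idm) p.1) && Nat.beq u (cmp p.2 (ginv.getD i idm)) &&
         Nat.beq (cmp t u) idm) && chain2 gens ginv r ((t, u) :: acc)

theorem chain2_gen {gens ginv : List ℕ} (hc : ∀ g ∈ gens, IsCode g)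
    (hv : invOK gens ginv = true) :
    ∀ (L : List (ℕ × ℕ × ℕ × ℕ)) (acc : List (ℕ × ℕ)),
      (∀ p ∈ acc, Gen gens p.1 ∧ Gen gens p.2 ∧ cmp p.1 p.2 = idm) →
      chain2 gens ginv L acc = true →
      ∀ e ∈ L, Gen gens e.1 ∧ Gen gens e.2.1 ∧ cmp e.1 e.2.1 = idm
  | [], _, _, _ => by simp
  | (t, u, i, j) :: r, acc, hacc, h => by
      simp only [chain2, Bool.and_eq_true, Nat.beq_eq] at h
      obtain ⟨⟨⟨ht, hu⟩, htu⟩, hr⟩ := h
      have hj : Gen gens (acc.getD j (idm, idm)).1 ∧ Gen gens (acc.getD j (idm, idm)).2 := by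
        rw [List.getD_eq_getElem?_getD]
        cases e : acc[j]? with
        | none => exact ⟨Gen.one, Gen.one⟩
        | some p => exact ⟨(hacc p (List.mem_of_getElem? e)).1, (hacc p (List.mem_of_getElem? e)).2.1⟩
      have hnew : Gen gens t ∧ Gen gens u ∧ cmp t u = idm :=
        ⟨ht ▸ (getD_gen hc i).mul hj.1, hu ▸ hj.2.mul (ginv_gen hc hv i), htu⟩
      intro e he
      rcases List.mem_cons.1 he with rfl | he
      · exact hnew
      · refine chain2_gen hc hv r ((t, u) :: acc) (fun x hx => ?_) hr e he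
        rcases List.mem_cons.1 hx with rfl | hx
        exacts [hnew, hacc x hx]

/-- The Schreier map. -/
def sch (gens : List ℕ) (ts : List (ℕ × ℕ)) (nxt : List (List ℕ)) (g i : ℕ) : ℕ :=
  cmp (ts.getD ((nxt.getD i []).getD g 0) (idm, idm)).2
    (cmp (gens.getD g idm) (ts.getD i (idm, idm)).1)

/-- The check of a table. -/
def Tab.ok (T : Tab) (gens ginv : List ℕ) : Bool :=
  gens.all (fun g => g < 2 ^ 64) && invOK gens ginv && chain2 gens ginv T.tr [(idm, idm)] &&
    T.sg.all (fun e => Nat.beq e.1 (sch gens T.ts T.nxt e.2.1 e.2.2)) &&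
    chain T.A T.st [idm] &&
    T.tree.all (Tree.build T.S).mem &&
    T.A.all (fun a => T.S.all fun s => T.tree.mem (cmp a s)) &&
    (List.range T.ts.length).all (fun i => (List.range gens.length).all fun g =>
      T.tree.mem (sch gens T.ts T.nxt g i))

/-- What a table gives. -/
structure Tab.Spec (T : Tab) (gens : List ℕ) : Prop where
  code : ∀ g ∈ gens, IsCode g
  ts_gen : ∀ p ∈ T.ts, Gen gens p.1 ∧ Gen gens p.2 ∧ cmp p.1 p.2 = idm
  A_gen : ∀ a ∈ T.A, Gen gens a
  S_gen : ∀ s ∈ T.S, Gen gens s
  mul : ∀ x ∈ T.S, ∀ s ∈ T.S, cmp x s ∈ T.S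
  factor : ∀ m, Gen gens m → ∃ p ∈ T.ts, ∃ s ∈ T.S, m = cmp p.1 s

theorem Tab.spec_of_ok {T : Tab} {gens ginv : List ℕ} (h : T.ok gens ginv = true) :
    T.Spec gens := by
  simp only [Tab.ok, Bool.and_eq_true, List.all_eq_true, decide_eq_true_eq, Nat.beq_eq,
    List.mem_range] at h
  obtain ⟨⟨⟨⟨⟨⟨⟨hc, hv⟩, h2⟩, hsg⟩, hch⟩, htree⟩, hcl'⟩, hstep'⟩ := h
  have htm : ∀ {x}, T.tree.mem x = true → x ∈ T.S := fun hx =>
    Tree.mem_build (Tree.prop_of_mem htree hx)
  have hcl : ∀ a ∈ T.A, ∀ s ∈ T.S, cmp a s ∈ T.S := fun a ha s hs => htm (hcl' a ha s hs)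
  have hstep : ∀ i < T.ts.length, ∀ g < gens.length, sch gens T.ts T.nxt g i ∈ T.S :=
    fun i hi g hg => htm (hstep' i hi g hg)
  have hts : ∀ p ∈ T.ts, Gen gens p.1 ∧ Gen gens p.2 ∧ cmp p.1 p.2 = idm := by
    intro p hp
    rcases List.mem_cons.1 hp with rfl | hp
    · exact ⟨Gen.one, Gen.one, cmp_idm isCode_idm⟩
    · obtain ⟨e, he, rfl⟩ := List.mem_map.1 hp
      refine chain2_gen hc hv T.tr _ (fun q hq => ?_) h2 e he
      rw [List.mem_singleton.1 hq]
      exact ⟨Gen.one, Gen.one, cmp_idm isCode_idm⟩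
  have hgetts : ∀ i, Gen gens (T.ts.getD i (idm, idm)).1 ∧ Gen gens (T.ts.getD i (idm, idm)).2 ∧
      cmp (T.ts.getD i (idm, idm)).1 (T.ts.getD i (idm, idm)).2 = idm := by
    intro i
    rw [List.getD_eq_getElem?_getD]
    cases e : T.ts[i]? with
    | none => exact ⟨Gen.one, Gen.one, cmp_idm isCode_idm⟩
    | some p => exact hts p (List.mem_of_getElem? e)
  have hA : ∀ a ∈ T.A, Gen gens a := by
    intro a ha
    obtain ⟨e, he, rfl⟩ := List.mem_map.1 ha
    rw [hsg e he]
    exact (hgetts _).2.1.mul ((getD_gen hc _).mul (hgetts _).1)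
  have hAc : ∀ a ∈ T.A, IsCode a := fun a ha => (hA a ha).isCode
  have hSP : ∀ x ∈ T.S, Gen gens x ∧ ∀ s ∈ T.S, cmp x s ∈ T.S := by
    have hcode : ∀ s ∈ T.S, IsCode s := by
      intro s hs
      rcases List.mem_cons.1 hs with rfl | hs
      · exact isCode_idm
      · obtain ⟨e, he, rfl⟩ := List.mem_map.1 hs
        refine chain_induct (gens := T.A) (P := IsCode) isCode_idm
          (fun i x _ => isCode_cmp _ _) T.st _ ?_ hch e he
        simp [isCode_idm]
    have hP0 : Gen gens idm ∧ ∀ s ∈ T.S, cmp idm s ∈ T.S :=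
      ⟨Gen.one, fun s hs => by rwa [idm_cmp (hcode s hs)]⟩
    intro x hx
    rcases List.mem_cons.1 hx with rfl | hx
    · exact hP0
    · obtain ⟨e, he, rfl⟩ := List.mem_map.1 hx
      refine chain_induct (gens := T.A) (P := fun x => Gen gens x ∧ ∀ s ∈ T.S, cmp x s ∈ T.S)
        hP0 ?_ T.st _ ?_ hch e he
      · intro i y hy
        rw [List.getD_eq_getElem?_getD]
        cases e : T.A[i]? with
        | none =>
          simp only [Option.getD_none]
          exact ⟨Gen.one.mul hy.1, fun s hs => by rw [idm_cmp hy.1.isCode]; exact hy.2 s hs⟩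
        | some a =>
          simp only [Option.getD_some]
          have ha := List.mem_of_getElem? e
          exact ⟨(hA a ha).mul hy.1, fun s hs => by
            rw [cmp_assoc]; exact hcl a ha _ (hy.2 s hs)⟩
      · intro q hq
        rw [List.mem_singleton.1 hq]
        exact hP0
  refine ⟨hc, hts, hA, fun s hs => (hSP s hs).1, fun x hx => (hSP x hx).2, fun m hm => ?_⟩
  induction hm with
  | one => exact ⟨(idm, idm), List.mem_cons_self, idm, List.mem_cons_self, (cmp_idm isCode_idm).symm⟩
  | @step g m hg _ ih =>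
    obtain ⟨p, hp, s, hs, rfl⟩ := ih
    obtain ⟨i, hi, rfl⟩ := List.getElem_of_mem hp
    obtain ⟨k, hk, rfl⟩ := List.getElem_of_mem hg
    have h1 := hstep i hi k hk
    simp only [sch, List.getD_eq_getElem _ _ hi, List.getD_eq_getElem _ _ hk] at h1
    set j := (T.nxt.getD i []).getD k 0
    obtain ⟨-, -, hj3⟩ := hgetts j
    refine ⟨T.ts.getD j (idm, idm), ?_, _, (hSP _ h1).2 s hs, ?_⟩
    · rw [List.getD_eq_getElem?_getD]
      cases e : T.ts[j]? with
      | none => exact List.mem_cons_self
      | some q => exact List.mem_of_getElem? e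
    · rw [← cmp_assoc, ← cmp_assoc, ← cmp_assoc, hj3, cmp_assoc idm, idm_cmp (isCode_cmp _ _)]

end Cfsg.Agent.U62Rec
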