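import Cfsg.Agent.U62Rec.NatBasis
import Cfsg.Agent.U62Rec.RedBasis

/-!
# The code of the further element is determined by its relations
-/

set_option autoImplicit false
set_option maxRecDepth 100000
set_option maxHeartbeats 1000000

namespace Cfsg.Agent.U62Rec

theorem eq_pack {M : ℕ} (hM : IsCode M) : M = pack (app M 1) (app M 2) (app M 4) (app M 8) (app M 16)
    (app M 32) (app M 64) (app M 128) := by
  obtain ⟨e0, e1, e2, e3, e4, e5, e6, e7⟩ := byte_pack (app_lt M 1) (app_lt M 2) (app_lt M 4)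
    (app_lt M 8) (app_lt M 16) (app_lt M 32) (app_lt M 64) (app_lt M 128)
  set N := pack (app M 1) (app M 2) (app M 4) (app M 8) (app M 16) (app M 32) (app M 64) (app M 128)
  obtain ⟨u0', u1', u2', u3', u4', u5', u6', u7'⟩ := app_unit N
  refine code_ext hM (isCode_pack (app_lt M 1) (app_lt M 2) (app_lt M 4) (app_lt M 8) (app_lt M 16)
    (app_lt M 32) (app_lt M 64) (app_lt M 128)) fun v => ?_
  induction v using Nat.strong_induction_on with
  | _ v ih =>
    intro hv
    rcases unit_step v hv with rfl | ⟨k, hk⟩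
    · rw [app_zero, app_zero]
    · have e : v = (v ^^^ 2 ^ (k : ℕ)) ^^^ 2 ^ (k : ℕ) := by
        rw [Nat.xor_assoc, Nat.xor_self, Nat.xor_zero]
      have hA : ∀ m, app m v = app m (v ^^^ 2 ^ (k : ℕ)) ^^^ app m (2 ^ (k : ℕ)) := fun m => by
        rw [← app_xor, ← e]
      rw [hA M, hA N, ih _ hk (hk.trans hv)]
      congr 1
      fin_cases k
      · exact (u0'.trans e0).symm
      · exact (u1'.trans e1).symm
      · exact (u2'.trans e2).symm
      · exact (u3'.trans e3).symm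
      · exact (u4'.trans e4).symm
      · exact (u5'.trans e5).symm
      · exact (u6'.trans e6).symm
      · exact (u7'.trans e7).symm

theorem app_comm {M g : ℕ} (h : cmp M g = cmp g M) (v : ℕ) : app M (app g v) = app g (app M v) := by
  rw [← app_cmp, h, app_cmp]

/-- The conditions on the code of the further element. -/
def condU (d0 d3 s0 s1 M : ℕ) : Bool :=
  Nat.beq (cmp M d3) (cmp d3 M) && Nat.beq (cmp M s0) (cmp s0 M) &&
    Nat.beq (cmp M s1) (cmp s1 M) && Nat.beq (cmp (cmp M M) M) idm &&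
    Nat.beq (cmp (cmp M d0) M) (cmp (cmp d0 M) d0) && !Nat.beq (cmp M d0) (cmp d0 M)

/-- The possible codes in the natural case. -/
def candN (n a b : ℕ) : ℕ :=
  let g := gND 3
  let n2 := app (gNS 0) n
  let n4 := app (gNS 1) n2
  pack n (app g n) n2 (app g n2) n4 (app g n4) a b

theorem candN_check : ∀ n < 64, ∀ a ∈ [0, 64, 128, 192], ∀ b ∈ [0, 64, 128, 192],
    condU (gND 0) (gND 3) (gNS 0) (gNS 1) (candN n a b) = true → candN n a b = gNU := by
  decide +kernel

theorem gND3_facts : app (gND 3) 1 = 2 ∧ app (gND 3) 4 = 8 ∧ app (gND 3) 16 = 32 ∧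
    app (gNS 0) 1 = 4 ∧ app (gNS 1) 4 = 16 ∧ app (gND 3) 64 = 64 ∧ app (gND 3) 128 = 128 ∧
    app (gND 3) (app (gND 3) 1) ^^^ app (gND 3) 1 ^^^ 1 = 0 ∧
    (∀ n < 256, app (gND 3) (app (gND 3) n) ^^^ app (gND 3) n ^^^ n = 0 → n < 64) ∧
    ∀ a < 256, app (gND 3) a = a → a ∈ [0, 64, 128, 192] := by decide +kernel

/-- The further element in the natural case. -/
theorem natU_unique {M : ℕ} (hM : IsCode M)
    (h : condU (gND 0) (gND 3) (gNS 0) (gNS 1) M = true) : M = gNU := by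
  have h' := h
  simp only [condU, Bool.and_eq_true, Nat.beq_eq] at h'
  obtain ⟨⟨⟨⟨⟨hd, hs0⟩, hs1⟩, -⟩, -⟩, -⟩ := h'
  obtain ⟨f1, f4, f16, g1, g4, f64, f128, hF, hn, ha⟩ := gND3_facts
  have hn64 : app M 1 < 64 := hn _ (app_lt _ _) (by
    rw [← app_comm hd, ← app_comm hd, ← app_xor, ← app_xor, hF, app_zero])
  have m64 := ha _ (app_lt M 64) (by rw [← app_comm hd, f64])
  have m128 := ha _ (app_lt M 128) (by rw [← app_comm hd, f128])
  have e : M = candN (app M 1) (app M 64) (app M 128) := by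
    conv_lhs => rw [eq_pack hM]
    simp only [candN]
    rw [← app_comm hs0, g1, ← app_comm hs1, g4, ← app_comm hd, ← app_comm hd, ← app_comm hd,
      f1, f4, f16]
  rw [e]
  exact candN_check _ hn64 _ m64 _ m128 (e ▸ h)

/-- The possible codes in the reducible case. -/
def candR (n : ℕ) : ℕ :=
  let g := gRD 3
  let n2 := app (gRS 1) n
  let n4 := app (gRS 0) n2
  pack n (app g n ^^^ n) n2 (app g n2 ^^^ n2) n4 (app g n4) 64 128

theorem candR_check : ∀ n < 64,
    condU (gRD 0) (gRD 3) (gRS 0) (gRS 1) (candR n) = true → candR n = gRU := by decide +kernel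

theorem gRD3_facts : app (gRD 3) 1 ^^^ 1 = 2 ∧ app (gRD 3) 4 ^^^ 4 = 8 ∧ app (gRD 3) 16 = 32 ∧
    app (gRS 1) 1 = 4 ∧ app (gRS 0) 4 = 16 ∧
    app (gRD 3) (app (gRD 3) 1) ^^^ app (gRD 3) 1 ^^^ 1 = 0 ∧
    ∀ n < 256, app (gRD 3) (app (gRD 3) n) ^^^ app (gRD 3) n ^^^ n = 0 → n < 64 := by decide +kernel

/-- The further element in the reducible case. -/
theorem redU_unique {M : ℕ} (hM : IsCode M)
    (h : condU (gRD 0) (gRD 3) (gRS 0) (gRS 1) M = true) (h64 : app M 64 = 64)
    (h128 : app M 128 = 128) : M = gRU := by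
  have h' := h
  simp only [condU, Bool.and_eq_true, Nat.beq_eq] at h'
  obtain ⟨⟨⟨⟨⟨hd, hs0⟩, hs1⟩, -⟩, -⟩, -⟩ := h'
  obtain ⟨f1, f4, f16, g1, g4, hF, hn⟩ := gRD3_facts
  have hn64 : app M 1 < 64 := hn _ (app_lt _ _) (by
    rw [← app_comm hd, ← app_comm hd, ← app_xor, ← app_xor, hF, app_zero])
  have e : M = candR (app M 1) := by
    conv_lhs => rw [eq_pack hM, h64, h128]
    simp only [candR]
    rw [← app_comm hs1, g1, ← app_comm hs0, g4, ← app_comm hd, ← app_comm hd, ← app_comm hd,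
      ← app_xor, ← app_xor, f1, f4, f16]
  rw [e]
  exact candR_check _ hn64 (e ▸ h)

end Cfsg.Agent.U62Rec
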