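import Cfsg.Agent.U62Rec.InvolCases

/-!
# The component is the whole class

A member outside would be conjugate to every member of the component fixed by a common involution,
but such an involution separates two of them.
-/

set_option autoImplicit false

open Cfsg Subgroup

namespace Cfsg.Agent.U62Rec

open Cfsg.Agent.LargeExtra Cfsg.Agent.ThreeTrans Cfsg.Agent.ThreeTrans.SpPSU

variable {G : Type*} [Group G]

/-- The predicate separating members fixed by a triangle product. -/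
def QQ (D : Set G) (k x : G) : Prop := ∃ e ∈ D, e ≠ x ∧ Commute e x ∧ e * k ∈ oc x

namespace Full

variable [Finite G] {C : Cfg} {outs : List Out} {c : ℕ} {P : List ℕ} {D : Set G} {z : G} {W : Prop}
variable {a b e g k u x y : G}
variable (K : Full C outs c P D z W)
include K

/-- An involution stabilising the component fixes a member. -/
theorem exists_fix (hkk : k * k = 1) (hs : ∀ x ∈ comp2 D z, k * x * k⁻¹ ∈ comp2 D z) :
    ∃ x ∈ comp2 D z, Commute k x := by
  classical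
  by_contra hc
  push Not at hc
  obtain ⟨M⟩ := K.env.mods z K.hz
  obtain ⟨y, hy⟩ := K.nbr
  have := Fintype.ofFinite G
  have h2 : (∏ _x ∈ (comp2 D z).toFinset, (-1 : ℤ)) = 1 :=
    Finset.prod_involution (fun x _ => k * x * k⁻¹) (fun x _ => by norm_num)
      (fun x hx _ e => hc x (Set.mem_toFinset.1 hx) (mul_inv_eq_iff_eq_mul.1 e))
      (fun x hx => Set.mem_toFinset.2 (hs x (Set.mem_toFinset.1 hx)))
      (fun x _ => by
        show k * (k * x * k⁻¹) * k⁻¹ = x
        rw [show k * (k * x * k⁻¹) * k⁻¹ = k * k * x * (k * k)⁻¹ by group, hkk]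
        group)
  rw [Finset.prod_const, ← Set.ncard_eq_toFinset_card', K.nat.comp2_ncard K.env M K.hz hy,
    Odd.neg_one_pow ⟨346, by norm_num⟩] at h2
  norm_num at h2

theorem mem_of_stab (hu : u ∈ D) (hs : ∀ x ∈ comp2 D z, u * x * u⁻¹ ∈ comp2 D z) :
    u ∈ comp2 D z := by
  obtain ⟨x, hx, hc⟩ := K.exists_fix (K.toCtx.mul_self hu) hs
  exact K.toCtx.near hx hu hc.symm

/-- An outside member is conjugate to each member inside. -/
theorem conj_out (hu : u ∈ D) (hout : u ∉ comp2 D z) (hx : x ∈ comp2 D z) :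
    ∃ g ∈ closure ({x, u} : Set G), g * u * g⁻¹ = x := by
  rcases dihedral (a := x) (b := u) (K.toCtx.mul_self hx.1) (K.toCtx.mul_self hu) with h |
    ⟨j, hj, hj1, hjj, hjx, hju, hcase⟩
  · exact h
  exfalso
  have hw : x * j ∈ D := by
    rcases hcase with ⟨⟨g, -, e⟩, -⟩ | ⟨⟨g, -, e⟩, -⟩
    · exact e ▸ K.env.closed g x hx.1
    · exact e ▸ K.env.closed g u hu
  have hwd : x * j ∈ dperp D x :=
    ⟨hw, fun e => hj1 (mul_eq_left.1 e), (Commute.refl x).mul_right hjx.symm⟩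
  have hcu : Commute u (x * (x * j)) := by
    rw [← mul_assoc, K.toCtx.mul_self hx.1, one_mul]; exact hju.symm
  exact hout (K.mem_of_stab hu fun t ht => K.cent_pair hx hwd hcu ht)

theorem mul_notMem (hy : y ∈ dperp D z) : z * y ∉ D := by
  intro h
  obtain ⟨M⟩ := K.env.mods z K.hz
  obtain ⟨h1, -, -, -⟩ := K.nat.nbr K.env M K.hz hy
  have hd : z * y ∈ dperp D z := ⟨h,
    fun e => by
      have h2 : y = 1 := mul_eq_left.1 e
      obtain ⟨My⟩ := K.env.mods y hy.1
      exact My.z_ne h2,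
    (Commute.refl z).mul_right hy.2.2⟩
  have hr : M.rho (z * y) = M.rho y := by
    rw [M.rho_mul _ M.hz _ h1, M.rho_of_mem M.z_mem, idm_cmp (M.rho_code y)]
  rcases K.nat.fibre_cases K.env M K.hz hy hd hr with e | ⟨i, hi, hi1, e⟩
  · exact M.z_ne (mul_eq_right.1 e)
  · refine hi1 ?_
    rw [hy.2.2.eq, mul_right_inj] at e
    exact (mul_eq_right.1 e.symm)

theorem QQ_conj (hg : Commute g k) (h : QQ D k x) : QQ D k (g * x * g⁻¹) := by
  obtain ⟨e, he, hne, hc, ho⟩ := h
  refine ⟨g * e * g⁻¹, K.env.closed g e he, fun h' => hne (mul_left_cancel (mul_right_cancel h')),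
    by rw [Commute, SemiconjBy, conjm, conjm, hc.eq], ?_⟩
  have h2 := conj_mem_oc (g := g) ho
  have h3 : g * (e * k) * g⁻¹ = g * e * g⁻¹ * k := by
    rw [show g * (e * k) * g⁻¹ = g * e * g⁻¹ * (g * k * g⁻¹) by group, hg.eq, mul_inv_cancel_right]
  rwa [h3] at h2

/-- The component is the whole class. -/
theorem comp2_eq_class : comp2 D z = D := by
  classical
  refine Set.Subset.antisymm (fun x hx => hx.1) fun u hu => ?_
  by_contra hout
  obtain ⟨y, hy⟩ := K.nbr
  set U := closure (comp2 D z) with hU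
  have hzz := K.toCtx.mul_self K.hz
  have hyy := K.toCtx.mul_self hy.1
  set s := z * y with hs
  have hss : s * s = 1 := by
    rw [hs, mul_assoc, ← mul_assoc y, ← hy.2.2.eq, mul_assoc, hyy, mul_one, hzz]
  have hsU : s ∈ U := mul_mem (subset_closure K.self_mem) (subset_closure (K.nbr_mem hy))
  rcases dihedral (a := s) (b := u) hss (K.toCtx.mul_self hu) with ⟨g, -, he⟩ |
    ⟨k, -, hk1, hkk, hks, hku, hcase⟩
  · refine K.mul_notMem hy ?_
    have := K.env.closed g u hu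
    rw [he] at this
    exact this
  have hkst : ∀ x ∈ comp2 D z, k * x * k⁻¹ ∈ comp2 D z :=
    fun x hx => K.cent_pair K.self_mem hy hks hx
  have hsst : ∀ x ∈ comp2 D z, s * x * s⁻¹ ∈ comp2 D z :=
    fun x hx => K.cent_pair K.self_mem hy (Commute.refl s) hx
  have hskst : ∀ x ∈ comp2 D z, s * k * x * (s * k)⁻¹ ∈ comp2 D z := fun x hx => by
    rw [show s * k * x * (s * k)⁻¹ = s * (k * x * k⁻¹) * s⁻¹ by group]
    exact hsst _ (hkst x hx)
  have hskU : s * k ∈ U := by
    have hcase' : (∃ g : G, g * s * g⁻¹ = s * k) ∨ ∃ g : G, g * u * g⁻¹ = s * k := by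
      rcases hcase with ⟨⟨g, -, e⟩, -⟩ | ⟨⟨g, -, e⟩, -⟩
      · exact Or.inl ⟨g, e⟩
      · exact Or.inr ⟨g, e⟩
    rcases hcase' with ⟨g, e⟩ | ⟨g, e⟩
    · have hsk2 : s * k * (s * k) = 1 := by
        rw [mul_assoc, ← mul_assoc k, hks.eq, mul_assoc s k, hkk, mul_one, hss]
      obtain ⟨x, hx, hxc⟩ := K.exists_fix hsk2 hskst
      have e' : s * k = g * z * g⁻¹ * (g * y * g⁻¹) := by rw [← e, hs]; group
      have ha : g * z * g⁻¹ ∈ D := K.env.closed g z K.hz
      have Ka := K.base ha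
      have hb : g * y * g⁻¹ ∈ dperp D (g * z * g⁻¹) :=
        ⟨K.env.closed g y hy.1, fun h => hy.2.1 (mul_left_cancel (mul_right_cancel h)),
          by rw [Commute, SemiconjBy, conjm, conjm, hy.2.2.eq]⟩
      have hxa : x ∈ comp2 D (g * z * g⁻¹) := Ka.mem_of_stab hx.1 fun t ht =>
        Ka.cent_pair Ka.self_mem hb (e' ▸ hxc.symm) ht
      have h1 := Ka.toCtx.comp2_eq hxa
      rw [K.toCtx.comp2_eq hx] at h1
      rw [e']
      refine mul_mem (subset_closure ?_) (subset_closure ?_)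
      · rw [h1]; exact Ka.self_mem
      · rw [h1]; exact Ka.nbr_mem hb
    · exact subset_closure (K.mem_of_stab (e ▸ K.env.closed g u hu) hskst)
  have hkU : k ∈ U := by
    have := mul_mem hsU hskU
    rwa [← mul_assoc, hss, one_mul] at this
  obtain ⟨x, hx, hkx⟩ := K.exists_fix hkk hkst
  have Kx := K.base hx.1
  have hkU' : k ∈ closure (comp2 D x) := by rw [K.toCtx.comp2_eq hx]; exact hkU
  rcases K.kinds_of_base hx (Kx.invol_cases hkU' (mem_centralizer_singleton_iff.2 hkx.eq) hkk hk1)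
    with h | ⟨a, ha, b, hb, e⟩ | ⟨a, ha, b, hb, e, he, heb, hoff, hk⟩
  · exact hout (K.toCtx.near h hu hku)
  · exact hout (K.mem_of_stab hu fun t ht => K.cent_pair ha hb (e ▸ hku.symm) ht)
  obtain ⟨Ma⟩ := K.env.mods a ha.1
  obtain ⟨w, ⟨hw, hwr⟩, hwb⟩ := Set.exists_ne_of_one_lt_ncard
    (s := {w | w ∈ dperp D a ∧ Ma.rho w = Ma.rho b})
    (by rw [K.nat.fibre_card K.env Ma ha.1 hb]; norm_num) b
  obtain ⟨hb1, -, -, hbp⟩ := K.nat.nbr K.env Ma ha.1 hb
  obtain ⟨he1, -, -, hep⟩ := K.nat.nbr K.env Ma ha.1 he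
  have hcom : com (Ma.rho b) (Ma.rho e) = true :=
    (K.nat.commute_iff K.env Ma ha.1 hb he).1 heb.2.2
  have hak : Commute a k := hk ▸ ((Commute.refl a).mul_right hb.2.2).mul_right he.2.2
  -- `a` does not have the property
  have hnQ : ¬ QQ D k a := by
    rintro ⟨f, hf, hfa, hfc, hfo⟩
    have hfd : f ∈ dperp D a := ⟨hf, hfa, hfc.symm⟩
    obtain ⟨hf1, -, -, hfp⟩ := K.nat.nbr K.env Ma ha.1 hfd
    have hkr : Ma.rho k = cmp (Ma.rho b) (Ma.rho e) := by
      rw [hk, Ma.rho_mul _ (mul_mem Ma.hz hb1) _ he1, Ma.rho_mul _ Ma.hz _ hb1,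
        Ma.rho_of_mem Ma.z_mem, idm_cmp (Ma.rho_code b)]
    have hkC : k ∈ centralizer ({a} : Set G) := mem_centralizer_singleton_iff.2 hak.eq.symm
    have : Ma.rho f = Ma.rho k := by
      rw [Ma.rho_inj hf1 hkC, K.toCtx.inv_eq hf]
      exact hfo
    exact K.shapes.noProd _ hbp _ hep (hoff Ma).symm hcom (hkr ▸ this ▸ hfp)
  -- the line mate does
  obtain ⟨hw1, -, -, -⟩ := K.nat.nbr K.env Ma ha.1 hw
  have hwe : Commute w e := (K.nat.commute_iff K.env Ma ha.1 hw he).2 (hwr ▸ hcom)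
  have hwbc : Commute w b := (K.nat.same_commute K.env Ma ha.1 hb hw hwr).symm
  have hwk : Commute w k := hk ▸ (hw.2.2.symm.mul_right hwbc).mul_right hwe
  have hQ : QQ D k w := by
    refine ⟨e, he.1, fun h => hoff Ma (h ▸ hwr), hwe.symm, ?_⟩
    have hee := K.toCtx.mul_self he.1
    have e1 : e * k = a * b := by
      rw [hk, show e * (a * b * e) = e * (a * b) * e by group,
        (he.2.2.symm.mul_right heb.2.2.symm).eq, mul_assoc (a * b), hee, mul_one]
    rw [e1]
    obtain ⟨Mw⟩ := K.env.mods w hw.1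
    obtain ⟨ha1', -, -, -⟩ := K.nat.nbr K.env Mw hw.1 (K.nat.dperp_symm K.env ha.1 hw)
    obtain ⟨hb1', -, -, -⟩ := K.nat.nbr K.env Mw hw.1 ⟨hb.1, Ne.symm hwb, hwbc⟩
    have := (Mw.rho_inj ha1' hb1').1 (K.nat.mate K.env Ma ha.1 hb hw hwr hwb Mw).symm
    rwa [K.toCtx.inv_eq ha.1] at this
  have hwX : w ∈ comp2 D z := K.toCtx.near ha hw.1 hw.2.2
  obtain ⟨g, hg, hge⟩ := K.conj_out hu hout ha
  obtain ⟨g', hg', hge'⟩ := K.conj_out hu hout hwX
  have hgk : Commute g k := K.closure_commute hak hku.symm hg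
  have hgk' : Commute g' k := K.closure_commute hwk hku.symm hg'
  refine hnQ ?_
  have h2 := K.QQ_conj (hgk.mul_left hgk'.inv_left) hQ
  rwa [show g * g'⁻¹ * w * (g * g'⁻¹)⁻¹ = a by rw [← hge, ← hge']; group] at h2

end Full

end Cfsg.Agent.U62Rec
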